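import Cfsg.Agent.Lib.Recog.Walter.Three.Residual
import Cfsg.Agent.Lib.Recog.Walter.Constrained

/-!
Owner: helper29. Walter, rank three (notes/walter_blueprint_helper15.md part 1): the setting.

* `Setting S`: `G` simple, `S` elementary of order eight, some involution centralizer nonsolvable.
* `one_class`: `N(S)` is transitive on the involutions of `S`.
* `L a`, `V a`: the solvable residual of `C(a)` and its meet with `S`, a four group without `a`.
* `tournament`, `line`, `cycle`: for distinct `a, b` exactly one lies in the four group of the other.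
-/

set_option autoImplicit false
set_option linter.style.haveILetI false
set_option linter.unusedSectionVars false

namespace CfsgLib.Walter.Three

open Subgroup
open CfsgLib.AbelianSolvCent (AbSylow)
open CfsgLib.Signalizer (orderOf_conj)

universe u

variable {G : Type u} [Group G] [Finite G] {S : Sylow 2 G}

/-- The standing hypotheses of the rank three case. -/
structure Setting (S : Sylow 2 G) : Prop where
  simple : IsSimpleGroup G
  nonab : ¬ IsMulCommutative G
  sq : ∀ x ∈ (S : Subgroup G), x * x = 1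
  card : Nat.card ↥(S : Subgroup G) = 8
  nonsolv : ∃ t : G, orderOf t = 2 ∧ ¬ Group.IsSolvable ↥(centralizer ({t} : Set G))

/-- The solvable residual of `C(a)`. -/
def L (a : G) : Subgroup G :=
  (res ↥(centralizer ({a} : Set G))).map (centralizer ({a} : Set G)).subtype

/-- The four group `S ∩ L(a)`. -/
def V (S : Sylow 2 G) (a : G) : Subgroup G := (S : Subgroup G) ⊓ L a

theorem L_le (a : G) : L a ≤ centralizer ({a} : Set G) := map_subtype_le _

theorem mem_of_mem_V {a x : G} (hx : x ∈ V S a) : x ∈ (S : Subgroup G) := hx.1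

theorem le_normalizer_L (a : G) : centralizer ({a} : Set G) ≤ normalizer (L a : Set G) := by
  intro g hg
  refine mem_normalizer_iff.2 fun x => ⟨?_, ?_⟩
  · rintro ⟨y, hy, rfl⟩
    exact ⟨⟨g, hg⟩ * y * ⟨g, hg⟩⁻¹, res_normal.conj_mem y hy _, rfl⟩
  · rintro ⟨y, hy, he⟩
    refine ⟨⟨g, hg⟩⁻¹ * y * ⟨g, hg⟩, ?_, ?_⟩
    · simpa using res_normal.conj_mem y hy ⟨g, hg⟩⁻¹
    · have he' : (y : G) = g * x * g⁻¹ := he
      show g⁻¹ * (y : G) * g = x
      rw [he']; group

theorem L_conj (g a : G) {x : G} (hx : x ∈ L a) : g * x * g⁻¹ ∈ L (g * a * g⁻¹) := by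
  obtain ⟨y, hy, rfl⟩ := hx
  set f : ↥(centralizer ({a} : Set G)) →* ↥(centralizer ({g * a * g⁻¹} : Set G)) :=
    ((MulAut.conj g).toMonoidHom.comp (centralizer ({a} : Set G)).subtype).codRestrict _ fun z =>
      mem_centralizer_singleton_iff.2 (by
        have hz := mem_centralizer_singleton_iff.1 z.2
        show g * (z : G) * g⁻¹ * (g * a * g⁻¹) = g * a * g⁻¹ * (g * (z : G) * g⁻¹)
        calc g * (z : G) * g⁻¹ * (g * a * g⁻¹) = g * ((z : G) * a) * g⁻¹ := by group
          _ = g * (a * (z : G)) * g⁻¹ := by rw [hz]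
          _ = _ := by group) with hf
  have hs : Function.Surjective f := fun z => by
    refine ⟨⟨g⁻¹ * (z : G) * g, mem_centralizer_singleton_iff.2 ?_⟩, Subtype.ext ?_⟩
    · have hz := mem_centralizer_singleton_iff.1 z.2
      calc g⁻¹ * (z : G) * g * a = g⁻¹ * ((z : G) * (g * a * g⁻¹)) * g := by group
        _ = g⁻¹ * (g * a * g⁻¹ * (z : G)) * g := by rw [hz]
        _ = _ := by group
    · show g * (g⁻¹ * (z : G) * g) * g⁻¹ = z
      group
  exact ⟨f y, map_res hs ▸ mem_map_of_mem f hy, rfl⟩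

namespace Setting

variable (h : Setting S)
include h

theorem comm {x y : G} (hx : x ∈ (S : Subgroup G)) (hy : y ∈ (S : Subgroup G)) : x * y = y * x := by
  have h1 := h.sq _ (mul_mem hx hy)
  have hxi := inv_eq_of_mul_eq_one_right (h.sq x hx)
  have hyi := inv_eq_of_mul_eq_one_right (h.sq y hy)
  rw [← inv_eq_of_mul_eq_one_right h1, mul_inv_rev, hxi, hyi]

theorem isComm : IsMulCommutative ↥(S : Subgroup G) :=
  ⟨⟨fun x y => Subtype.ext (h.comm x.2 y.2)⟩⟩

theorem abSylow : AbSylow G := CfsgLib.AbelianSolvCent.abSylow_of_one S h.isComm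

theorem orderOf_eq {x : G} (hx : x ∈ (S : Subgroup G)) (hx1 : x ≠ 1) : orderOf x = 2 :=
  CfsgLib.Signalizer.orderOf_eq_two_of hx1 (h.sq x hx)

theorem le_centralizer {a : G} (ha : a ∈ (S : Subgroup G)) : (S : Subgroup G) ≤ centralizer ({a} : Set G) :=
  fun _ hx => mem_centralizer_singleton_iff.2 (h.comm hx ha)

theorem not_isSolvable : ¬ Group.IsSolvable G := fun hs =>
  haveI := h.simple
  h.nonab ⟨⟨fun a b => IsSimpleGroup.comm_iff_isSolvable.mpr hs a b⟩⟩

theorem oddCore_eq_bot : Cfsg.oddCore G = ⊥ :=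
  haveI := h.simple
  ((inferInstance : (Cfsg.oddCore G).Normal).eq_bot_or_eq_top).resolve_right fun e => h.not_isSolvable (by
    haveI : Group.IsSolvable (⊤ : Subgroup G) :=
      e ▸ Cfsg.Agent.S0205.result (CfsgLib.GW.DGroup.odd_oddCore G)
    exact Group.isSolvable_of_surjective (f := Subgroup.topEquiv.toMonoidHom) (MulEquiv.surjective _))

/-- Every involution of a subgroup containing `S` is conjugate into `S` inside it. -/
theorem exists_conj_mem {H : Subgroup G} (hSH : (S : Subgroup G) ≤ H) {x : G} (hx : x ∈ H)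
    (hx2 : x * x = 1) : ∃ g ∈ H, g * x * g⁻¹ ∈ (S : Subgroup G) := by
  haveI : Fact (Nat.Prime 2) := ⟨Nat.prime_two⟩
  have hp : IsPGroup 2 (zpowers (⟨x, hx⟩ : H)) := fun y => by
    obtain ⟨k, hk⟩ := mem_zpowers_iff.1 y.2
    refine ⟨1, Subtype.ext ?_⟩
    rw [SubgroupClass.coe_pow, ← hk, pow_one, ← zpow_natCast, ← zpow_mul, mul_comm, zpow_mul, zpow_natCast,
      pow_two, show (⟨x, hx⟩ : H) * ⟨x, hx⟩ = 1 from Subtype.ext hx2, one_zpow]
    rfl
  obtain ⟨Q, hQ⟩ := hp.exists_le_sylow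
  obtain ⟨g, hg⟩ := MulAction.exists_smul_eq H Q (S.subtype hSH)
  have h1 : g * ⟨x, hx⟩ * g⁻¹ ∈ (S.subtype hSH : Subgroup H) := by
    rw [← hg, Sylow.coe_subgroup_smul]
    exact ⟨⟨x, hx⟩, hQ (mem_zpowers _), rfl⟩
  exact ⟨g, g.2, h1⟩

/-- Burnside: fusion in `S` inside `H` is controlled by `N_H(S)`. -/
theorem exists_normalizer {H : Subgroup G} (hSH : (S : Subgroup G) ≤ H) {x g : G}
    (hx : x ∈ (S : Subgroup G)) (hg : g ∈ H) (hgx : g * x * g⁻¹ ∈ (S : Subgroup G)) :
    ∃ n ∈ H, n ∈ normalizer ((S : Subgroup G) : Set G) ∧ n * x * n⁻¹ = g * x * g⁻¹ := by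
  haveI : Fact (Nat.Prime 2) := ⟨Nat.prime_two⟩
  haveI : IsMulCommutative ↥(S.subtype hSH : Subgroup H) :=
    ⟨⟨fun a b => Subtype.ext (Subtype.ext (h.comm a.2 b.2))⟩⟩
  obtain ⟨n, hn, hne⟩ := Sylow.conj_eq_normalizer_conj_of_mem (S.subtype hSH) (⟨x, hSH hx⟩ : H)
    (⟨g, hg⟩⁻¹ : H) hx (show ((⟨g, hg⟩ : H)⁻¹)⁻¹ * (⟨x, hSH hx⟩ : H) * (⟨g, hg⟩ : H)⁻¹ ∈ (S.subtype hSH : Subgroup H) by
      rw [inv_inv]; exact hgx)
  refine ⟨(n⁻¹ : H), (n⁻¹ : H).2, mem_normalizer_iff.2 fun y => ?_, ?_⟩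
  · have h1 := mem_normalizer_iff.1 (inv_mem hn)
    refine ⟨fun hy => h1 ⟨y, hSH hy⟩ |>.1 hy, fun hy => ?_⟩
    have h2 : (n⁻¹ : H) * ((n : H) * ⟨((n⁻¹ : H) : G) * y * ((n⁻¹ : H) : G)⁻¹, hSH hy⟩ * (n : H)⁻¹) * (n⁻¹ : H)⁻¹
        = (⟨((n⁻¹ : H) : G) * y * ((n⁻¹ : H) : G)⁻¹, hSH hy⟩ : H) := by group
    have hyH : y ∈ H := by
      have := mul_mem (mul_mem n.2 (hSH hy)) (inv_mem n.2)
      simpa [mul_assoc] using this
    exact (h1 ⟨y, hyH⟩).2 hy
  · have := congrArg Subtype.val hne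
    simpa [mul_assoc] using this.symm

/-- The orbit of an element of `S` under a group normalising `S` and containing it has odd size. -/
theorem odd_orbit {D : Subgroup G} (hSD : (S : Subgroup G) ≤ D) {a : G} (ha : a ∈ (S : Subgroup G)) :
    Odd {s : G | ∃ d ∈ D, d * a * d⁻¹ = s}.ncard := by
  have h1 : {s : G | ∃ d ∈ D, d * a * d⁻¹ = s}.ncard *
      Nat.card (D ⊓ centralizer ({a} : Set G) : Subgroup G) = Nat.card D := by
    rw [← CfsgLib.Bender.card_conj_class D a, ← Nat.card_coe_set_eq]; rfl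
  rw [← Nat.not_even_iff_odd, even_iff_two_dvd]
  intro h2
  have h8 : 8 ∣ Nat.card (D ⊓ centralizer ({a} : Set G) : Subgroup G) :=
    h.card ▸ Subgroup.card_dvd_of_le (le_inf hSD (h.le_centralizer ha))
  have h16 : 2 ^ 4 ∣ Nat.card G := by
    refine dvd_trans ?_ (Subgroup.card_subgroup_dvd_card D)
    rw [← h1, show (2 ^ 4 : ℕ) = 2 * 8 by norm_num]; exact mul_dvd_mul h2 h8
  haveI : Fact (Nat.Prime 2) := ⟨Nat.prime_two⟩
  have h3 := S.pow_dvd_card_of_pow_dvd_card h16
  rw [h.card] at h3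
  norm_num at h3

theorem ncard_nontrivial : (((S : Subgroup G) : Set G) \ {1}).ncard = 7 := by
  rw [Set.ncard_sdiff_singleton_of_mem (one_mem (S : Subgroup G)), ← Nat.card_coe_set_eq]
  exact Nat.sub_eq_of_eq_add h.card

/-- An element of `S#` is moved by `N(S)`. -/
theorem exists_move {a : G} (ha : a ∈ (S : Subgroup G)) (ha1 : a ≠ 1) :
    ∃ n ∈ normalizer ((S : Subgroup G) : Set G), n * a * n⁻¹ ≠ a := by
  by_contra hall
  push Not at hall
  have hiso : Cfsg.IsIsolatedInvolution a := by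
    refine ⟨h.orderOf_eq ha ha1, fun g hc => ?_⟩
    have hgC : g * a * g⁻¹ ∈ centralizer ({a} : Set G) := mem_centralizer_singleton_iff.2 hc.symm.eq
    have hsq : g * a * g⁻¹ * (g * a * g⁻¹) = 1 := by
      rw [show g * a * g⁻¹ * (g * a * g⁻¹) = g * (a * a) * g⁻¹ by group, h.sq a ha]; group
    obtain ⟨c, hc', hcS⟩ := h.exists_conj_mem (h.le_centralizer ha) hgC hsq
    have he : c * g * a * (c * g)⁻¹ = c * (g * a * g⁻¹) * c⁻¹ := by group
    obtain ⟨n, -, hn, hne⟩ := h.exists_normalizer (le_top : (S : Subgroup G) ≤ ⊤) ha (mem_top (c * g))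
      (he ▸ hcS)
    rw [hall n hn, he] at hne
    calc g * a * g⁻¹ = c⁻¹ * (c * (g * a * g⁻¹) * c⁻¹) * c := by group
      _ = c⁻¹ * (a * c) := by rw [← hne, mul_assoc]
      _ = a := by rw [← mem_centralizer_singleton_iff.1 hc', inv_mul_cancel_left]
  have hcen : a ∈ center G := mem_center_iff.2 fun g => by
    have h1 := CfsgLib.ZStar.mem_oddCore_of_isolated hiso g
    rw [h.oddCore_eq_bot, mem_bot, mul_inv_eq_one, mul_inv_eq_iff_eq_mul] at h1
    exact h1.symm
  haveI := h.simple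
  rcases (inferInstance : (center G).Normal).eq_bot_or_eq_top with e | e
  · exact ha1 (mem_bot.1 (e ▸ hcen))
  · exact h.nonab ⟨⟨fun x y => (mem_center_iff.1 (e ▸ mem_top y) x)⟩⟩

/-- `N(S)` is transitive on `S#`. -/
theorem one_class {a b : G} (ha : a ∈ (S : Subgroup G)) (ha1 : a ≠ 1) (hb : b ∈ (S : Subgroup G))
    (hb1 : b ≠ 1) : ∃ n ∈ normalizer ((S : Subgroup G) : Set G), n * a * n⁻¹ = b := by
  classical
  set N := normalizer ((S : Subgroup G) : Set G) with hN
  let O : G → Set G := fun x => {s | ∃ d ∈ N, d * x * d⁻¹ = s}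
  have hsub : ∀ x ∈ ((S : Subgroup G) : Set G) \ {1}, O x ⊆ ((S : Subgroup G) : Set G) \ {1} := by
    rintro x ⟨hx, hx1⟩ _ ⟨d, hd, rfl⟩
    exact ⟨(mem_normalizer_iff.1 hd x).1 hx, fun e => hx1 (conj_eq_one_iff.1 e)⟩
  have hbig : ∀ x ∈ ((S : Subgroup G) : Set G) \ {1}, 3 ≤ (O x).ncard := by
    rintro x ⟨hx, hx1⟩
    obtain ⟨n, hn, hne⟩ := h.exists_move hx hx1
    have h2 : 2 ≤ (O x).ncard := by
      rw [← Set.ncard_pair hne]
      refine Set.ncard_le_ncard ?_
      rintro _ (rfl | rfl)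
      · exact ⟨n, hn, rfl⟩
      · exact ⟨1, one_mem _, by simp⟩
    obtain ⟨k, hk⟩ := h.odd_orbit (D := N) le_normalizer hx
    change (O x).ncard = _ at hk
    omega
  have hdis : ∀ x y, y ∉ O x → Disjoint (O x) (O y) := fun x y hy => Set.disjoint_left.2 fun s hs hs' => hy (by
    obtain ⟨d, hd, rfl⟩ := hs
    obtain ⟨e, he, hee⟩ := hs'
    refine ⟨e⁻¹ * d, mul_mem (inv_mem he) hd, ?_⟩
    calc e⁻¹ * d * x * (e⁻¹ * d)⁻¹ = e⁻¹ * (d * x * d⁻¹) * e := by group
      _ = y := by rw [← hee]; group)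
  by_contra hno
  have haD : a ∈ ((S : Subgroup G) : Set G) \ {1} := ⟨ha, ha1⟩
  have hbD : b ∈ ((S : Subgroup G) : Set G) \ {1} := ⟨hb, hb1⟩
  have hb' : b ∉ O a := hno
  have hab := hdis a b hb'
  have hu : (O a ∪ O b).ncard = (O a).ncard + (O b).ncard := Set.ncard_union_eq hab
  by_cases hc : O a ∪ O b = ((S : Subgroup G) : Set G) \ {1}
  · obtain ⟨k, hk⟩ := h.odd_orbit (D := N) le_normalizer ha
    obtain ⟨j, hj⟩ := h.odd_orbit (D := N) le_normalizer hb
    change (O a).ncard = _ at hk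
    change (O b).ncard = _ at hj
    rw [hc, h.ncard_nontrivial] at hu
    omega
  · obtain ⟨c, hcD, hcn⟩ := Set.exists_of_ssubset
      ((Set.union_subset (hsub a haD) (hsub b hbD)).ssubset_of_ne hc)
    have h1 : Disjoint (O a ∪ O b) (O c) := by
      rw [Set.disjoint_union_left]
      exact ⟨hdis a c fun e => hcn (Or.inl e), hdis b c fun e => hcn (Or.inr e)⟩
    have h2 := Set.ncard_le_ncard (Set.union_subset (Set.union_subset (hsub a haD) (hsub b hbD)) (hsub c hcD))
    rw [Set.ncard_union_eq h1, hu, h.ncard_nontrivial] at h2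
    have := hbig a haD
    have := hbig b hbD
    have := hbig c hcD
    omega

/-- Every involution is conjugate into `S#`, and its centralizer is nonsolvable. -/
theorem centralizer_nonsolvable {a : G} (ha : a ∈ (S : Subgroup G)) (ha1 : a ≠ 1) :
    ¬ Group.IsSolvable ↥(centralizer ({a} : Set G)) := by
  obtain ⟨t, ht, hns⟩ := h.nonsolv
  obtain ⟨g, -, hg⟩ := h.exists_conj_mem (le_top : (S : Subgroup G) ≤ ⊤) (mem_top t)
    (CfsgLib.Signalizer.involution_sq ht)
  obtain ⟨n, -, hn⟩ := h.one_class hg (fun e => CfsgLib.Signalizer.involution_ne_one ht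
    (conj_eq_one_iff.1 e)) ha ha1
  intro hs
  refine hns ?_
  let e : ↥(centralizer ({t} : Set G)) →* ↥(centralizer ({a} : Set G)) :=
    ((MulAut.conj (n * g)).toMonoidHom.comp (centralizer ({t} : Set G)).subtype).codRestrict _ fun z =>
      mem_centralizer_singleton_iff.2 (by
        have hz := mem_centralizer_singleton_iff.1 z.2
        show n * g * (z : G) * (n * g)⁻¹ * a = a * (n * g * (z : G) * (n * g)⁻¹)
        rw [← hn]
        calc n * g * (z : G) * (n * g)⁻¹ * (n * (g * t * g⁻¹) * n⁻¹)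
            = n * g * ((z : G) * t) * (n * g)⁻¹ := by group
          _ = n * g * (t * (z : G)) * (n * g)⁻¹ := by rw [hz]
          _ = _ := by group)
  haveI := hs
  exact Group.isSolvable_of_isSolvable_injective (f := e) (fun x y hxy => Subtype.ext
    (mul_left_cancel (mul_right_cancel (congrArg Subtype.val hxy : n * g * (x : G) * (n * g)⁻¹ = n * g * (y : G) * (n * g)⁻¹))))

section
variable {a : G} (ha : a ∈ (S : Subgroup G)) (ha1 : a ≠ 1)
include ha ha1

theorem L_perfect : ⁅L a, L a⁆ = L a := by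
  rw [L, ← map_commutator, res_perfect]

theorem not_mem_L : a ∉ L a := by
  rintro hm
  haveI : Fact (Nat.Prime 2) := ⟨Nat.prime_two⟩
  set K := L a
  have hp : commutator K = ⊤ := map_injective K.subtype_injective (by
    rw [map_subtype_commutator, h.L_perfect ha ha1, ← MonoidHom.range_eq_map, range_subtype])
  have hord : orderOf (⟨a, hm⟩ : K) = 2 := by rw [Subgroup.orderOf_mk]; exact h.orderOf_eq ha ha1
  obtain ⟨P, hP⟩ := (CfsgLib.Signalizer.isPGroup_zpowers_involution hord).exists_le_sylow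
  refine not_central_of_perfect hp P (CfsgLib.AbelianSolvCent.abSylow_subgroup h.abSylow K P) hord
    (hP (mem_zpowers _)) (mem_center_iff.2 fun x => Subtype.ext ?_)
  exact mem_centralizer_singleton_iff.1 (L_le a x.2)

theorem L_ne_bot : L a ≠ ⊥ := fun e => h.centralizer_nonsolvable ha ha1
  (isSolvable_of_res ((map_eq_bot_iff_of_injective _ (Subgroup.subtype_injective _)).1 e))

/-- `V a` is a Sylow 2-subgroup of `L a`. -/
theorem two_group_L_le {Q : Subgroup G} (hQ : IsPGroup 2 Q) (hQL : Q ≤ L a) :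
    ∃ g ∈ centralizer ({a} : Set G), ∀ x ∈ Q, g * x * g⁻¹ ∈ V S a := by
  haveI : Fact (Nat.Prime 2) := ⟨Nat.prime_two⟩
  set C := centralizer ({a} : Set G)
  obtain ⟨R, hR⟩ := (hQ.of_equiv (subgroupOfEquivOfLe (hQL.trans (L_le a))).symm).exists_le_sylow
  obtain ⟨g, hg⟩ := MulAction.exists_smul_eq C R (S.subtype (h.le_centralizer ha))
  refine ⟨g, g.2, fun x hx => ⟨?_, (mem_normalizer_iff.1 (le_normalizer_L a g.2) x).1 (hQL hx)⟩⟩
  have h1 : g * ⟨x, L_le a (hQL hx)⟩ * g⁻¹ ∈ (S.subtype (h.le_centralizer ha) : Subgroup C) := by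
    rw [← hg, Sylow.coe_subgroup_smul]
    exact ⟨⟨x, L_le a (hQL hx)⟩, hR hx, rfl⟩
  exact h1

theorem card_V : Nat.card (V S a) = 4 := by
  haveI : Fact (Nat.Prime 2) := ⟨Nat.prime_two⟩
  -- `|L a|_2` is at least four
  obtain ⟨Q⟩ := (inferInstance : Nonempty (Sylow 2 ↥(L a)))
  have hnc : ¬ IsCyclic ↥(Q : Subgroup ↥(L a)) := fun hc => by
    have hodd : ∀ N : Subgroup ↥(L a), Odd (Nat.card N) → Group.IsSolvable N :=
      fun N hN => Cfsg.Agent.S0205.result hN
    have hs := CfsgLib.OddGated.isSolvable_of_complement hodd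
      (CfsgLib.OddGated.complement_of_cyclic Q hc)
    haveI := hs
    refine h.L_ne_bot ha ha1 (le_bot_iff.1 ?_)
    have h1 : res ↥(L a) = ⊥ := res_eq_bot hs
    have h2 : (⊤ : Subgroup ↥(L a)) ≤ res ↥(L a) := le_res (map_injective (L a).subtype_injective (by
      rw [map_commutator, ← MonoidHom.range_eq_map, range_subtype, h.L_perfect ha ha1]))
    intro x hx
    have h3 : (⟨x, hx⟩ : ↥(L a)) ∈ res ↥(L a) := h2 (mem_top _)
    rw [h1, mem_bot] at h3
    exact mem_bot.2 (congrArg (fun z : ↥(L a) => (z : G)) h3)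
  obtain ⟨g, -, hg⟩ := h.two_group_L_le ha ha1 (Q.2.map (L a).subtype) (map_subtype_le _)
  have hle : Nat.card ↥(Q : Subgroup ↥(L a)) ≤ Nat.card (V S a) :=
    Nat.card_le_card_of_injective (fun x => (⟨g * ((x : ↥(L a)) : G) * g⁻¹, hg _ ⟨_, x.2, rfl⟩⟩ : V S a))
      fun x y hxy => Subtype.ext (Subtype.ext (mul_left_cancel (mul_right_cancel (congrArg Subtype.val hxy))))
  obtain ⟨k, hk⟩ := Q.2.exists_card_eq
  have hk2 : 2 ≤ k := by
    by_contra hlt
    rcases (show k = 0 ∨ k = 1 by omega) with rfl | rfl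
    · haveI : Subsingleton ↥(Q : Subgroup ↥(L a)) := (Nat.card_eq_one_iff_unique.1 (by simpa using hk)).1
      exact hnc inferInstance
    · exact hnc (isCyclic_of_prime_card (p := 2) (by simpa using hk))
  have h4 : 4 ≤ Nat.card (V S a) :=
    le_trans (le_trans (by norm_num) (Nat.pow_le_pow_right two_pos hk2)) (hk ▸ hle)
  have hd : Nat.card (V S a) ∣ 8 := h.card ▸ card_dvd_of_le inf_le_left
  have hne : Nat.card (V S a) ≠ 8 := fun e => h.not_mem_L ha ha1
    ((eq_of_le_of_card_ge (show V S a ≤ (S : Subgroup G) from inf_le_left) (by rw [h.card, e])).ge ha).2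
  have := Nat.le_of_dvd (by norm_num) hd
  interval_cases hh : Nat.card (V S a) <;> omega

theorem not_mem_V : a ∉ V S a := fun hm => h.not_mem_L ha ha1 hm.2

/-- Two elements of `S` outside `V a` have their product inside. -/
theorem mul_mem_V {x y : G} (hx : x ∈ (S : Subgroup G)) (hy : y ∈ (S : Subgroup G)) (hxV : x ∉ V S a)
    (hyV : y ∉ V S a) : x * y ∈ V S a := by
  have hi : ((V S a).subgroupOf (S : Subgroup G)).index = 2 := by
    have h1 := ((V S a).subgroupOf (S : Subgroup G)).card_mul_index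
    rw [Nat.card_congr (subgroupOfEquivOfLe (show V S a ≤ (S : Subgroup G) from inf_le_left)).toEquiv,
      h.card_V ha ha1, h.card] at h1
    omega
  have h2 := mul_mem_iff_of_index_two hi (a := (⟨x, hx⟩ : (S : Subgroup G))) (b := ⟨y, hy⟩)
  simp only [mem_subgroupOf] at h2
  exact h2.2 (iff_of_false hxV hyV)

/-- `N_{C(a)}(S)` is transitive on the involutions of `V a`. -/
theorem conj_V {v w : G} (hv : v ∈ V S a) (hv1 : v ≠ 1) (hw : w ∈ V S a) (hw1 : w ≠ 1) :
    ∃ k ∈ normalizer ((S : Subgroup G) : Set G), k * a * k⁻¹ = a ∧ k * v * k⁻¹ = w := by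
  classical
  haveI : Fact (Nat.Prime 2) := ⟨Nat.prime_two⟩
  set C := centralizer ({a} : Set G) with hC
  set D := C ⊓ normalizer ((S : Subgroup G) : Set G) with hD
  have hSD : (S : Subgroup G) ≤ D := le_inf (h.le_centralizer ha) le_normalizer
  let O : G → Set G := fun x => {s | ∃ d ∈ D, d * x * d⁻¹ = s}
  have hstab : ∀ x ∈ V S a, ∀ d ∈ D, d * x * d⁻¹ ∈ V S a := fun x hx d hd =>
    ⟨(mem_normalizer_iff.1 hd.2 x).1 hx.1, (mem_normalizer_iff.1 (le_normalizer_L a hd.1) x).1 hx.2⟩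
  have hsub : ∀ x ∈ (V S a : Set G) \ {1}, O x ⊆ (V S a : Set G) \ {1} := by
    rintro x ⟨hx, hx1⟩ _ ⟨d, hd, rfl⟩
    exact ⟨hstab x hx d hd, fun e => hx1 (conj_eq_one_iff.1 e)⟩
  have h3 : ((V S a : Set G) \ {1}).ncard = 3 := by
    rw [Set.ncard_sdiff_singleton_of_mem (one_mem (V S a)), ← Nat.card_coe_set_eq]
    exact Nat.sub_eq_of_eq_add (h.card_V ha ha1)
  suffices hw' : w ∈ O v by
    obtain ⟨d, hd, hde⟩ := hw'
    exact ⟨d, hd.2, by rw [mem_centralizer_singleton_iff.1 hd.1, mul_inv_cancel_right], hde⟩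
  by_contra hno
  -- otherwise every element of `V a` is fixed
  have hone : ∀ x ∈ (V S a : Set G) \ {1}, (O x).ncard = 1 ∨ O x = (V S a : Set G) \ {1} := by
    intro x hx
    obtain ⟨k, hk⟩ := h.odd_orbit hSD hx.1.1
    change (O x).ncard = _ at hk
    have h1 := Set.ncard_le_ncard (hsub x hx)
    rw [h3] at h1
    rcases (show k = 0 ∨ k = 1 by omega) with rfl | rfl
    · exact Or.inl hk
    · exact Or.inr (Set.eq_of_subset_of_ncard_le (hsub x hx) (by omega))
  have hfix : ∀ x ∈ (V S a : Set G) \ {1}, ∀ d ∈ D, d * x * d⁻¹ = x := by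
    intro x hx d hd
    rcases hone x hx with h1 | h1
    · obtain ⟨y, hy⟩ := Set.ncard_eq_one.1 h1
      have e1 : d * x * d⁻¹ ∈ O x := ⟨d, hd, rfl⟩
      have e2 : x ∈ O x := ⟨1, one_mem _, by simp⟩
      rw [hy, Set.mem_singleton_iff] at e1 e2
      rw [e1, ← e2]
    · exfalso
      have hvx : v ∈ O x := h1 ▸ ⟨hv, hv1⟩
      have hwx : w ∈ O x := h1 ▸ ⟨hw, hw1⟩
      obtain ⟨d₁, hd₁, e₁⟩ := hvx
      obtain ⟨d₂, hd₂, e₂⟩ := hwx
      refine hno ⟨d₂ * d₁⁻¹, mul_mem hd₂ (inv_mem hd₁), ?_⟩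
      rw [← e₁, ← e₂]; group
  have hcent : ∀ d ∈ D, ∀ s ∈ (S : Subgroup G), d * s = s * d := by
    intro d hd s hs
    have hV : ∀ x ∈ V S a, d * x = x * d := fun x hx => by
      rcases eq_or_ne x 1 with rfl | hx1
      · simp
      · exact mul_inv_eq_iff_eq_mul.1 (hfix x ⟨hx, hx1⟩ d hd)
    by_cases hsV : s ∈ V S a
    · exact hV s hsV
    · have h1 := h.mul_mem_V ha ha1 ha hs (h.not_mem_V ha ha1) hsV
      have h2 := mem_centralizer_singleton_iff.1 hd.1
      calc d * s = d * a * (a * s) := by rw [mul_assoc d a, ← mul_assoc a a, h.sq a ha, one_mul]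
        _ = a * (d * (a * s)) := by rw [h2, mul_assoc]
        _ = a * ((a * s) * d) := by rw [hV _ h1]
        _ = s * d := by rw [← mul_assoc, ← mul_assoc, h.sq a ha, one_mul]
  refine h.centralizer_nonsolvable ha ha1 (CfsgLib.OddGated.isSolvable_of_complement
    (fun N hN => Cfsg.Agent.S0205.result hN) ?_)
  set P := S.subtype (h.le_centralizer ha) with hP
  have hNC : normalizer ((P : Subgroup C) : Set C) ≤ centralizer ((P : Subgroup C) : Set C) := by
    intro x hx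
    refine mem_centralizer_iff.2 fun y hy => Subtype.ext ?_
    have hxD : (x : G) ∈ D := ⟨x.2, mem_normalizer_iff.2 fun z => ?_⟩
    · exact (hcent _ hxD _ hy).symm
    · refine ⟨fun hz => (mem_normalizer_iff.1 hx ⟨z, h.le_centralizer ha hz⟩).1 hz, fun hz => ?_⟩
      have hzC : z ∈ C := by
        have := mul_mem (mul_mem (inv_mem x.2) (h.le_centralizer ha hz)) x.2
        simpa [mul_assoc] using this
      exact (mem_normalizer_iff.1 hx ⟨z, hzC⟩).2 hz
  exact ⟨P, (MonoidHom.transferSylow P hNC).ker, inferInstance,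
    MonoidHom.ker_transferSylow_isComplement' P hNC⟩

end

theorem V_conj {a n x : G} (hn : n ∈ normalizer ((S : Subgroup G) : Set G)) (hx : x ∈ V S a) :
    n * x * n⁻¹ ∈ V S (n * a * n⁻¹) :=
  ⟨(mem_normalizer_iff.1 hn x).1 hx.1, L_conj n a hx.2⟩

variable {a b : G} (ha : a ∈ (S : Subgroup G)) (ha1 : a ≠ 1) (hb : b ∈ (S : Subgroup G)) (hb1 : b ≠ 1)
include ha ha1 hb hb1

/-- No two elements lie in each other's four group. -/
theorem asymm (hba : b ∈ V S a) : a ∉ V S b := by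
  intro hab
  haveI : Fact (Nat.Prime 2) := ⟨Nat.prime_two⟩
  have hne : a ≠ b := fun e => h.not_mem_V ha ha1 (e ▸ hba)
  obtain ⟨n₀, hn₀, hna⟩ := h.one_class ha ha1 hb hb1
  have h1 : n₀ * b * n₀⁻¹ ∈ V S b := by
    have h0 := h.V_conj hn₀ hba
    rwa [hna] at h0
  obtain ⟨k, hk, hkb, hkv⟩ := h.conj_V hb hb1 h1 (fun e => hb1 (conj_eq_one_iff.1 e)) hab ha1
  set n := k * n₀ with hn
  have hnN : n ∈ normalizer ((S : Subgroup G) : Set G) := mul_mem hk hn₀
  have hn1 : n * a * n⁻¹ = b := by rw [hn, ← hkb]; rw [← hna]; group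
  have hn2 : n * b * n⁻¹ = a := by rw [hn, ← hkv]; group
  -- a 2-element swapping `a` and `b` would lie in `S`
  obtain ⟨i, m, hm, hnm⟩ := Nat.exists_eq_two_pow_mul_odd (orderOf_pos n).ne'
  set g := n ^ m with hg
  have hgN : g ∈ normalizer ((S : Subgroup G) : Set G) := pow_mem hnN m
  have hswap : ∀ j : ℕ, (Odd j → n ^ j * a * (n ^ j)⁻¹ = b) ∧ (Even j → n ^ j * a * (n ^ j)⁻¹ = a) := by
    intro j
    induction j with
    | zero => exact ⟨fun e => absurd e (by simp), fun _ => by simp⟩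
    | succ j ih =>
      have e : n ^ (j + 1) * a * (n ^ (j + 1))⁻¹ = n * (n ^ j * a * (n ^ j)⁻¹) * n⁻¹ := by
        rw [pow_succ']; group
      refine ⟨fun ho => ?_, fun he => ?_⟩
      · rw [e, ih.2 (by rwa [Nat.odd_add_one, Nat.not_odd_iff_even] at ho), hn1]
      · rw [e, ih.1 (by rwa [Nat.even_add_one, Nat.not_even_iff_odd] at he), hn2]
  have hp : IsPGroup 2 (zpowers g) := by
    have hgo : orderOf g = 2 ^ i := by
      rw [hg, orderOf_pow, hnm, Nat.gcd_eq_right (dvd_mul_left m (2 ^ i)), Nat.mul_div_cancel _ hm.pos]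
    exact IsPGroup.of_card (n := i) (by rw [Nat.card_zpowers, hgo])
  have h2 : g ∈ zpowers g ⊓ (S : Subgroup G) :=
    (hp.inf_normalizer_sylow S).le ⟨mem_zpowers g, hgN⟩
  refine hne ((hswap m).1 hm ▸ ?_)
  show a = g * a * g⁻¹
  rw [h.comm h2.2 ha, mul_inv_cancel_right]

/-- If `b ∈ V a` then `a * b ∈ V b` and `a ∈ V (a * b)`: every line is a 3-cycle. -/
theorem line (hba : b ∈ V S a) : a * b ∈ V S b ∧ a ∈ V S (a * b) := by
  have hab := h.asymm ha ha1 hb hb1 hba
  have hc1 : a * b ≠ 1 := fun e => hab (by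
    have : a = b := by
      rw [← inv_eq_of_mul_eq_one_right e]
      exact (inv_eq_of_mul_eq_one_right (h.sq a ha)).symm
    exact absurd (this ▸ hba) (h.not_mem_V ha ha1))
  have hc := mul_mem ha hb
  have h1 := h.mul_mem_V hb hb1 ha hb hab (h.not_mem_V hb hb1)
  refine ⟨h1, ?_⟩
  have h2 := h.asymm hb hb1 hc hc1 h1
  have h3 := h.mul_mem_V hc hc1 hc hb (h.not_mem_V hc hc1) h2
  rwa [mul_assoc, h.sq b hb, mul_one] at h3

/-- Totality. -/
theorem total (hne : a ≠ b) : b ∈ V S a ∨ a ∈ V S b := by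
  by_contra hno
  push Not at hno
  have hc1 : a * b ≠ 1 := fun e => hne (by
    rw [← inv_eq_of_mul_eq_one_right e]
    exact (inv_eq_of_mul_eq_one_right (h.sq a ha)).symm)
  have hc := mul_mem ha hb
  have hca := h.mul_mem_V ha ha1 ha hb (h.not_mem_V ha ha1) hno.1
  have h1 := (h.line ha ha1 hc hc1 hca).2
  rw [show a * (a * b) = b by rw [← mul_assoc, h.sq a ha, one_mul]] at h1
  exact hno.2 h1

/-- The line through `a → b` is cycled by `N(S)`. -/
theorem cycle (hba : b ∈ V S a) : ∃ n ∈ normalizer ((S : Subgroup G) : Set G),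
    n * a * n⁻¹ = b ∧ n * b * n⁻¹ = a * b ∧ n * (a * b) * n⁻¹ = a := by
  obtain ⟨n₀, hn₀, hna⟩ := h.one_class ha ha1 hb hb1
  have h1 : n₀ * b * n₀⁻¹ ∈ V S b := by
    have h0 := h.V_conj hn₀ hba
    rwa [hna] at h0
  have hc1 : a * b ≠ 1 := fun e => hb1 (by
    have : b = a := by
      rw [← inv_eq_of_mul_eq_one_left e]
      exact (inv_eq_of_mul_eq_one_right (h.sq b hb)).symm
    exact absurd (this ▸ hba) (h.not_mem_V ha ha1))
  obtain ⟨k, hk, hkb, hkv⟩ := h.conj_V hb hb1 h1 (fun e => hb1 (conj_eq_one_iff.1 e)) (h.line ha ha1 hb hb1 hba).1 hc1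
  have e1 : k * n₀ * a * (k * n₀)⁻¹ = b := by rw [← hkb, ← hna]; group
  have e2 : k * n₀ * b * (k * n₀)⁻¹ = a * b := by rw [← hkv]; group
  refine ⟨k * n₀, mul_mem hk hn₀, e1, e2, ?_⟩
  rw [← conj_mul, e1, e2, h.comm ha hb, ← mul_assoc, h.sq b hb, one_mul]

end Setting

end CfsgLib.Walter.Three
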