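import Mathlib

/-!
Owner: helper29. The solvable residual (limit of the derived series) and a transfer fact.

* `res`: the limit of the derived series; perfect, and proper for no nonsolvable group.
* `not_mem_of_perfect`: a central involution of a group with abelian Sylow 2-subgroup `P` is outside every
  perfect subgroup containing `P`.
-/

set_option autoImplicit false
set_option linter.unusedSectionVars false

namespace CfsgLib.Walter.Three

open Subgroup

variable {G : Type*} [Group G]

/-- The limit of the derived series. -/
def res (G : Type*) [Group G] : Subgroup G := ⨅ n, derivedSeries G n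

instance res_normal : (res G).Normal := by
  refine ⟨fun x hx g => ?_⟩
  simp only [res, Subgroup.mem_iInf] at hx ⊢
  exact fun n => (derivedSeries_normal G n).conj_mem x (hx n) g

theorem exists_res_eq [Finite G] :
    ∃ n, res G = derivedSeries G n ∧ derivedSeries G (n + 1) = derivedSeries G n := by
  obtain ⟨n, hs⟩ : ∃ n, derivedSeries G (n + 1) = derivedSeries G n := by
    by_contra h
    push Not at h
    have key : ∀ n, Nat.card (derivedSeries G n) + n ≤ Nat.card (derivedSeries G 0) := by
      intro n
      induction n with
      | zero => simp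
      | succ n ih =>
        have hle : derivedSeries G (n + 1) ≤ derivedSeries G n := derivedSeries_antitone G (Nat.le_succ n)
        have hlt : Nat.card (derivedSeries G (n + 1)) < Nat.card (derivedSeries G n) :=
          lt_of_not_ge fun hge => h n (eq_of_le_of_card_ge hle hge)
        omega
    have h1 := key (Nat.card (derivedSeries G 0) + 1)
    omega
  have hst : ∀ m, n ≤ m → derivedSeries G m = derivedSeries G n := fun m hm => by
    induction m, hm using Nat.le_induction with
    | base => rfl
    | succ m _ ih => rw [derivedSeries_succ, ih, ← derivedSeries_succ, hs]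
  refine ⟨n, le_antisymm (iInf_le _ n) (le_iInf fun m => ?_), hs⟩
  rcases le_total n m with h | h
  · exact (hst m h).ge
  · exact derivedSeries_antitone G h

theorem res_perfect [Finite G] : ⁅res G, res G⁆ = res G := by
  obtain ⟨n, hn, hs⟩ := exists_res_eq (G := G)
  rw [hn, ← derivedSeries_succ, hs]

theorem map_res [Finite G] {H : Type*} [Group H] [Finite H] {f : G →* H} (hf : Function.Surjective f) :
    (res G).map f = res H := by
  obtain ⟨n, hn, -⟩ := exists_res_eq (G := G)
  obtain ⟨m, hm, -⟩ := exists_res_eq (G := H)
  refine le_antisymm ?_ ?_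
  · rw [hm]
    exact (map_mono (iInf_le _ m)).trans (map_derivedSeries_eq hf m).le
  · rw [hn, map_derivedSeries_eq hf n]
    exact iInf_le _ n

theorem res_eq_bot [Finite G] (h : Group.IsSolvable G) : res G = ⊥ := by
  obtain ⟨n, hn⟩ := (Group.isSolvable_def G).1 h
  exact le_bot_iff.1 ((iInf_le _ n).trans hn.le)

theorem isSolvable_of_res [Finite G] (h : res G = ⊥) : Group.IsSolvable G := by
  obtain ⟨n, hn, -⟩ := exists_res_eq (G := G)
  exact (Group.isSolvable_def G).2 ⟨n, hn ▸ h⟩

/-- A perfect subgroup `≤` the residual. -/
theorem le_res {K : Subgroup G} (hK : ⁅K, K⁆ = K) : K ≤ res G := by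
  refine le_iInf fun n => ?_
  induction n with
  | zero => simp
  | succ n ih => rw [derivedSeries_succ]; exact hK.ge.trans (commutator_mono ih ih)

/-- The transfer: a perfect finite group with abelian Sylow 2-subgroups has no central involution. -/
theorem not_central_of_perfect [Finite G] (hG : commutator G = ⊤) (P : Sylow 2 G)
    (hP : IsMulCommutative ↥(P : Subgroup G)) {a : G} (ha : orderOf a = 2) (haP : a ∈ (P : Subgroup G)) :
    a ∉ center G := by
  intro hc
  haveI : Fact (Nat.Prime 2) := ⟨Nat.prime_two⟩
  letI : CommGroup ↥(P : Subgroup G) :=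
    { (inferInstance : Group ↥(P : Subgroup G)) with mul_comm := hP.is_comm.comm }
  let V : G →* ↥(P : Subgroup G) := MonoidHom.transfer (MonoidHom.id ↥(P : Subgroup G))
  have key : ∀ (k : ℕ) (g₀ : G), g₀⁻¹ * a ^ k * g₀ ∈ (P : Subgroup G) → g₀⁻¹ * a ^ k * g₀ = a ^ k := by
    intro k g₀ _
    have h : a ^ k ∈ center G := pow_mem hc k
    rw [mul_assoc, ← mem_center_iff.1 h g₀, inv_mul_cancel_left]
  have h1 : commutator G ≤ V.ker := by
    rw [_root_.commutator_def, Subgroup.commutator_le]
    intro x _ y _
    rw [MonoidHom.mem_ker, map_commutatorElement, commutatorElement_eq_one_iff_mul_comm]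
    exact mul_comm _ _
  have h2 : V a = 1 := h1 (hG ▸ mem_top a)
  have h3 : a ^ (P : Subgroup G).index = 1 := by
    have := congrArg Subtype.val ((MonoidHom.transfer_eq_pow _ a key).symm.trans h2)
    exact this
  have h4 := orderOf_dvd_of_pow_eq_one h3
  rw [ha] at h4
  exact P.not_dvd_index h4

end CfsgLib.Walter.Three
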