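import Cfsg.Agent.Lib.Recog.Walter.Fixed
import Cfsg.Agent.Lib.Core.Coprime
import Cfsg.Agent.Lib.TwoGroups.Bender
import Cfsg.Agent.Lib.Components.Quasisimple

/-!
Owner: helper11. Walter, rank three, for the layer hypothesis of `BendTwo.caseTwo`: a `p`-group
`D = [D, a]` centralises a quasisimple `K` normalised by `D` and by `S`, provided `[C_D(s), a]` lies in
`O_p(M_s)` for `s ∈ S ∖ {1, a}` and, if `S` is faithful on `K`, `S ≤ K` and `C_K(s)` normalises no
noncentral `p`-subgroup centralised by `s`.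
-/

set_option autoImplicit false
set_option linter.all false

namespace CfsgLib.Walter.BendTwo

open Subgroup CfsgLib.Components CfsgLib.TwoGroups.Bender CfsgLib.Walter.Fixed
open scoped commutatorElement

variable {G : Type*} [Group G] [Finite G]

/-- A normal `p`-subgroup of a quasisimple `K` in `K` is central. -/
theorem le_centralizer_of_normal_pGroup {p : ℕ} [Fact p.Prime] {K U : Subgroup G}
    (hK : Cfsg.IsQuasisimple K) (hU : IsPGroup p U) (hUK : U ≤ K) (hn : K ≤ normalizer (U : Set G)) :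
    U ≤ centralizer (K : Set G) := by
  haveI := normal_subgroupOf_of_le_normalizer hn
  have hne : U.subgroupOf K ≠ ⊤ := fun e => by
    have hle : K ≤ U := subgroupOf_eq_top.mp e
    haveI : Group.IsNilpotent K := (hU.to_le hle).isNilpotent
    exact IsQuasisimple.not_isNilpotent hK inferInstance
  intro u hu
  have h := IsQuasisimple.le_center_of_ne_top hK inferInstance hne
    (show (⟨u, hUK hu⟩ : K) ∈ U.subgroupOf K from hu)
  exact mem_centralizer_iff.mpr fun k hk => congrArg Subtype.val (mem_center_iff.mp h ⟨k, hk⟩)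

theorem centralizes_component {a : G} {p : ℕ} [Fact p.Prime] {D S K : Subgroup G}
    (ha : a * a = 1) (hD : IsPGroup p D) (hodd : Odd (Nat.card D)) (hDa : ⁅D, zpowers a⁆ = D)
    (hSel : Cfsg.IsElementaryAbelian 2 S) (hS4 : 4 ≤ Nat.card S) (haS : a ∈ S)
    (hSD : S ≤ normalizer (D : Set G)) (hK : Cfsg.IsQuasisimple K)
    (hDK : D ≤ normalizer (K : Set G)) (hSK : S ≤ normalizer (K : Set G))
    (hY : ∀ s ∈ S, s ≠ 1 → s ≠ a → ∃ N : Subgroup G, centralizer ({s} : Set G) ≤ N ∧
      ⁅D ⊓ centralizer ({s} : Set G), zpowers a⁆ ≤ part p N)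
    (hW : S ⊓ centralizer (K : Set G) = ⊥ → S ≤ K ∧ ∀ s ∈ S, s ≠ 1 → ∀ U : Subgroup G,
      IsPGroup p U → U ≤ K ⊓ centralizer ({s} : Set G) →
      K ⊓ centralizer ({s} : Set G) ≤ normalizer (U : Set G) → U ≤ centralizer (K : Set G)) :
    D ≤ centralizer (K : Set G) := by
  set C := centralizer (K : Set G) with hC
  have hCn : normalizer (K : Set G) ≤ normalizer (C : Set G) :=
    Transfer.normalizer_le_normalizer_centralizer _
  have hDC : D ≤ normalizer (C : Set G) := hDK.trans hCn
  have hSC : S ≤ normalizer (C : Set G) := hSK.trans hCn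
  suffices hgen : ∀ y ∈ D, ∀ u ∈ zpowers a, ⁅y, u⁆ ∈ C from hDa.ge.trans (commutator_le.mpr hgen)
  have hcm : ∀ x ∈ S, ∀ y ∈ S, x * y = y * x := fun x hx y hy =>
    CfsgLib.Signalizer.elementary_comm hSel hx hy
  have hzaS : zpowers a ≤ S := zpowers_le.mpr haS
  by_cases hfaith : S ⊓ C = ⊥
  · -- `S` faithful
    obtain ⟨hSK', hU⟩ := hW hfaith
    have hDK' : D ≤ K := hDa.ge.trans (commutator_le.mpr fun y hy u hu => K.mul_mem
      (cj_mem (hDK hy) (hSK' (hzaS hu))) (K.inv_mem (hSK' (hzaS hu))))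
    refine commutators_mem_of_fixed hSel hS4 hSD hodd hDC fun s hs hs1 y hy u hu => ?_
    rcases eq_or_ne s a with rfl | hsa
    · obtain ⟨n, rfl⟩ := hu
      have hys : Commute y s := mem_centralizer_singleton_iff.mp hy.2
      rw [commutatorElement_eq_one_iff_mul_comm.mpr (hys.zpow_right n).eq]
      exact C.one_mem
    · obtain ⟨N, hN, hYN⟩ := hY s hs hs1 hsa
      set U := part p N ⊓ (K ⊓ centralizer ({s} : Set G))
      have hUn : K ⊓ centralizer ({s} : Set G) ≤ normalizer (U : Set G) :=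
        (le_inf ((inf_le_right.trans hN).trans (le_normalizer_part p N)) le_normalizer).trans
          inf_normalizer_le_normalizer_inf
      have hUC := hU s hs hs1 U ((isPGroup_part p N).to_le inf_le_left) inf_le_right hUn
      refine hUC ⟨hYN (commutator_mem_commutator hy hu), ?_, ?_⟩
      · exact K.mul_mem (K.mul_mem (K.mul_mem (hDK' hy.1) (hSK' (hzaS hu))) (K.inv_mem (hDK' hy.1)))
          (K.inv_mem (hSK' (hzaS hu)))
      · have hus : u ∈ centralizer ({s} : Set G) := mem_centralizer_singleton_iff.mpr (hcm u (hzaS hu) s hs)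
        exact Subgroup.mul_mem _ (Subgroup.mul_mem _ (Subgroup.mul_mem _ hy.2 hus) (Subgroup.inv_mem _ hy.2))
          (Subgroup.inv_mem _ hus)
  · obtain ⟨t, ht, ht1⟩ := (Subgroup.bot_or_exists_ne_one (S ⊓ C)).resolve_left hfaith
    rcases eq_or_ne t a with rfl | hta
    · intro y hy u hu
      exact C.mul_mem (cj_mem (hDC hy) (zpowers_le.mpr ht.2 hu)) (C.inv_mem (zpowers_le.mpr ht.2 hu))
    obtain ⟨N, hN, hYN⟩ := hY t ht.1 ht1 hta
    set Y := ⁅D ⊓ centralizer ({t} : Set G), zpowers a⁆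
    have hKt : K ≤ centralizer ({t} : Set G) := fun k hk =>
      mem_centralizer_singleton_iff.mpr (mem_centralizer_iff.mp ht.2 k hk)
    -- `[K, Y]` is a normal `p`-subgroup of `K`
    have hY1 : Y ≤ C := by
      have hYD : Y ≤ D := (commutator_mono inf_le_left le_rfl).trans hDa.le
      have h1 : ⁅K, Y⁆ ≤ part p N := commutator_le.mpr fun k hk y hy =>
        Subgroup.mul_mem _ (cj_mem (le_normalizer_part p N (hN (hKt hk))) (hYN hy)) (inv_mem (hYN hy))
      have h2 : ⁅K, Y⁆ ≤ K := commutator_le.mpr fun k hk y hy => by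
        rw [commutatorElement_def, show k * y * k⁻¹ * y⁻¹ = k * (y * k⁻¹ * y⁻¹) by group]
        exact K.mul_mem hk (cj_mem (hDK (hYD hy)) (K.inv_mem hk))
      have h3 := le_centralizer_of_normal_pGroup hK ((isPGroup_part p N).to_le h1) h2
        (normalizer_commutator_ge_left K Y)
      have h4 : ⁅⁅K, Y⁆, K⁆ = ⊥ := commutator_eq_bot_iff_le_centralizer.mpr h3
      have h5 : ⁅⁅Y, K⁆, K⁆ = ⊥ := by rw [commutator_comm Y K]; exact h4
      have h6 := commutator_commutator_eq_bot_of_rotate h4 h5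
      rw [IsQuasisimple.commutator_eq_self hK, commutator_comm] at h6
      exact commutator_eq_bot_iff_le_centralizer.mp h6
    intro y hy u hu
    haveI := hSel.1
    have hzt : zpowers t ≤ S := zpowers_le.mpr ht.1
    obtain ⟨w, hw, c, hc, rfl⟩ := CfsgLib.Core.exists_mul_centralizing (hzt.trans hSD)
      (CfsgLib.Signalizer.coprime_card_of_pGroup ((CfsgLib.Signalizer.elementary_isPGroup hSel).to_le hzt)
        (fun hd => Nat.not_even_iff_odd.mpr hodd (even_iff_two_dvd.mpr hd)))
      (Or.inl (Group.isSolvable_of_comm fun x y => IsMulCommutative.is_comm.comm x y)) hy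
    have hwC : w ∈ C := (commutator_le.mpr fun d hd z hz =>
      C.mul_mem (cj_mem (hDC hd) (zpowers_le.mpr ht.2 hz)) (C.inv_mem (zpowers_le.mpr ht.2 hz))) hw
    rw [commutatorElement_mul_left_eq_conj_mul]
    refine C.mul_mem (cj_mem (le_normalizer hwC) (hY1 (commutator_mem_commutator
      (show c ∈ D ⊓ centralizer ({t} : Set G) from
        ⟨hc.1, centralizer_le (Set.singleton_subset_iff.mpr (mem_zpowers t)) hc.2⟩) hu))) ?_
    rw [commutatorElement_def, show w * u * w⁻¹ * u⁻¹ = w * (u * w⁻¹ * u⁻¹) by group]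
    exact C.mul_mem hwC (cj_mem (hSC (hzaS hu)) (C.inv_mem hwC))

end CfsgLib.Walter.BendTwo
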