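import Cfsg.Agent.Lib.Recog.Walter.Three.BenderTwoBasic
import Cfsg.Agent.Lib.Core.Coprime

/-!
Owner: helper11. The subgroup `D` and the choice of `Z` in Walter's case B2.

* `exists_moved`: in an odd `p`-group `P` moved by `a` and normalised by `C(a)` there is a
  `C(a)`-invariant `D = [D, a] ≠ 1` whose `a`-fixed elements and commutators are central;
* `exists_pick`: for such `D` and an elementary group `S ∋ a` of order eight there are `s ∈ S ∖ {1, a}`
  and an `S`-invariant `Z ≠ 1` in `[C_D(s), a]` centralised by `D`.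
-/

set_option autoImplicit false
set_option linter.all false

namespace CfsgLib.Walter.BendTwo

open Subgroup CfsgLib.LocalEven.GoldS
open scoped commutatorElement

variable {G : Type*} [Group G]

theorem mem_normalizer_commutator {A B : Subgroup G} {g : G} (hA : g ∈ normalizer (A : Set G))
    (hB : g ∈ normalizer (B : Set G)) : g ∈ normalizer ((⁅A, B⁆ : Subgroup G) : Set G) := by
  rw [mem_normalizer_iff_map_conj_eq] at hA hB ⊢
  rw [map_commutator, hA, hB]

theorem mem_normalizer_zpowers {a g : G} (h : a * g = g * a) :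
    g ∈ normalizer ((zpowers a : Subgroup G) : Set G) :=
  centralizer_le_normalizer _ (mem_centralizer_iff.mpr fun z hz => by
    obtain ⟨n, rfl⟩ := hz
    exact Commute.zpow_left h n)

theorem mem_normalizer_centralizer_singleton {s g : G} (h : s * g = g * s) :
    g ∈ normalizer ((centralizer ({s} : Set G) : Subgroup G) : Set G) :=
  le_normalizer (mem_centralizer_singleton_iff.mpr h.symm)

/-- The properties of `D`. -/
structure Moved (a : G) (D : Subgroup G) : Prop where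
  ne_bot : D ≠ ⊥
  odd : Odd (Nat.card D)
  cent : centralizer ({a} : Set G) ≤ normalizer (D : Set G)
  eq : ⁅D, zpowers a⁆ = D
  fixed_central : ∀ g ∈ D, a * g = g * a → ∀ d ∈ D, g * d = d * g
  comm_central : ∀ c ∈ ⁅D, D⁆, ∀ d ∈ D, c * d = d * c
  comm_fixed : ∀ c ∈ ⁅D, D⁆, a * c = c * a

variable [Finite G]

theorem exists_moved {p : ℕ} [Fact p.Prime] {a : G} {P : Subgroup G} (ha : a * a = 1)
    (hP : IsPGroup p P) (hodd : Odd (Nat.card P))
    (hCP : centralizer ({a} : Set G) ≤ normalizer (P : Set G))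
    (hmove : ¬ P ≤ centralizer ({a} : Set G)) :
    ∃ D : Subgroup G, D ≤ P ∧ Moved a D := by
  have haC : a ∈ centralizer ({a} : Set G) := mem_centralizer_singleton_iff.mpr rfl
  have hcop : ∀ X : Subgroup G, X ≤ P → (Nat.card (zpowers a)).Coprime (Nat.card X) := fun X hX => by
    rw [Nat.card_zpowers]
    exact (Nat.coprime_two_left.mpr (hodd.of_dvd_nat (card_dvd_of_le hX))).coprime_dvd_left
      (orderOf_dvd_of_pow_eq_one (by rw [pow_two, ha]))
  have hsolv : Group.IsSolvable (zpowers a) :=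
    Group.isSolvable_of_comm fun x y => IsMulCommutative.is_comm.comm x y
  -- candidates
  let Cand : Subgroup G → Prop := fun X =>
    X ≤ P ∧ X ≠ ⊥ ∧ centralizer ({a} : Set G) ≤ normalizer (X : Set G) ∧ ⁅X, zpowers a⁆ = X
  have hmk : ∀ X : Subgroup G, X ≤ P → centralizer ({a} : Set G) ≤ normalizer (X : Set G) →
      ⁅X, zpowers a⁆ ≠ ⊥ → Cand ⁅X, zpowers a⁆ := fun X hX hCX hne => by
    have hzX : zpowers a ≤ normalizer (X : Set G) := zpowers_le.mpr (hCX haC)
    exact ⟨(CfsgLib.Core.commutator_le_of_normalizes hzX).trans hX, hne,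
      fun g hg => mem_normalizer_commutator (hCX hg)
        (mem_normalizer_zpowers (mem_centralizer_singleton_iff.mp hg).symm),
      CfsgLib.Core.commutator_commutator_eq hzX (hcop X hX) (Or.inl hsolv)⟩
  have hP0 : ⁅P, zpowers a⁆ ≠ ⊥ := fun hb => hmove fun x hx => by
    have h1 := commutator_mem_commutator hx (mem_zpowers a)
    rw [hb, mem_bot] at h1
    exact mem_centralizer_singleton_iff.mpr (commutatorElement_eq_one_iff_mul_comm.mp h1)
  obtain ⟨D, ⟨hDP, hDne, hCD, hDa⟩, hmin⟩ :=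
    exists_minimal_of_wellFoundedLT Cand ⟨_, hmk P le_rfl hCP hP0⟩
  have hDodd : Odd (Nat.card D) := hodd.of_dvd_nat (card_dvd_of_le hDP)
  have hlt : ⁅D, D⁆ < D := by
    haveI : Group.IsNilpotent D := (hP.to_le hDP).isNilpotent
    haveI : Nontrivial D := (Subgroup.nontrivial_iff_ne_bot D).mpr hDne
    rw [← Subgroup.map_subtype_commutator]
    refine lt_of_le_of_ne (map_subtype_le _) fun e => ?_
    have h1 := Group.IsSolvable.commutator_lt_top_of_nontrivial (G := ↥D)
    refine h1.ne (map_injective D.subtype_injective ?_)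
    rw [e, ← MonoidHom.range_eq_map, range_subtype]
  have hfix : ∀ c ∈ ⁅D, D⁆, a * c = c * a := fun c hc => by
    by_contra hne
    have hne' : ⁅⁅D, D⁆, zpowers a⁆ ≠ ⊥ := fun hb => hne (by
      have h1 := commutator_mem_commutator hc (mem_zpowers a)
      rw [hb, mem_bot] at h1
      exact (commutatorElement_eq_one_iff_mul_comm.mp h1).symm)
    have hCX : centralizer ({a} : Set G) ≤ normalizer ((⁅D, D⁆ : Subgroup G) : Set G) :=
      fun g hg => mem_normalizer_commutator (hCD hg) (hCD hg)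
    have hle := CfsgLib.Core.commutator_le_of_normalizes (zpowers_le.mpr (hCX haC))
    have hC := hmk _ (hlt.le.trans hDP) hCX hne'
    exact absurd (hmin hC (hle.trans hlt.le)) (fun h => hlt.not_ge (h.trans hle))
  have hcent : ∀ c ∈ ⁅D, D⁆, ∀ d ∈ D, c * d = d * c := fun c hc d hd => by
    have hDR : D ≤ normalizer ((⁅D, D⁆ : Subgroup G) : Set G) :=
      fun g hg => mem_normalizer_commutator (le_normalizer hg) (le_normalizer hg)
    have h1 := commutator_centralizes_fixed ha hDR hfix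
    rw [hDa] at h1
    exact mem_centralizer_iff.mp (h1 hd) c hc
  refine ⟨D, hDP, hDne, hDodd, hCD, hDa, fun g hg hga d hd => ?_, hcent, hfix⟩
  have h2 : ⁅D, zpowers a⁆ ≤ centralizer ({g} : Set G) := commutator_zpowers_le ha fun y hy => by
    set x := ⁅y, a⁆
    have hxD : x ∈ D := hDa.le (commutator_mem_commutator hy (mem_zpowers a))
    set c := ⁅g, x⁆ with hc
    have hcD : c ∈ ⁅D, D⁆ := commutator_mem_commutator hg hxD
    have hxa : a * x * a⁻¹ = x⁻¹ := inverted_commutator ha y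
    have eg : a * g * a⁻¹ = g := commute_iff_conj.1 hga
    have h1 : ⁅g, x⁻¹⁆ = c := by
      calc ⁅g, x⁻¹⁆ = ⁅a * g * a⁻¹, a * x * a⁻¹⁆ := by rw [eg, hxa]
        _ = a * ⁅g, x⁆ * a⁻¹ := by simp only [commutatorElement_def]; group
        _ = c := commute_iff_conj.1 (hfix c hcD)
    have h3 : ⁅g, x * x⁻¹⁆ = c * c := by
      rw [commutatorElement_mul_right_eq_mul_conj, h1, ← hc, mul_assoc c x c, ← hcent c hcD x hxD]
      group
    rw [mul_inv_cancel, commutatorElement_one_right, eq_comm] at h3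
    have h4 : orderOf c ∣ 2 := orderOf_dvd_of_pow_eq_one (by rw [pow_two, h3])
    have h5 : Odd (orderOf c) := (hDodd.of_dvd_nat (card_dvd_of_le hlt.le)).of_dvd_nat
      (Subgroup.orderOf_dvd_natCard _ hcD)
    rcases (Nat.dvd_prime Nat.prime_two).mp h4 with h | h
    · exact mem_centralizer_singleton_iff.mpr
        (commutatorElement_eq_one_iff_mul_comm.mp (orderOf_eq_one_iff.mp h : ⁅g, x⁆ = 1)).symm
    · rw [h] at h5; exact absurd h5 (by decide)
  exact (mem_centralizer_singleton_iff.mp (h2 (hDa.ge hd))).symm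

namespace Moved

variable {a : G} {D : Subgroup G} (h : Moved a D) (ha : a * a = 1)
include h

theorem comm_mem {x y : G} (hx : x ∈ D) (hy : y ∈ D) : ⁅x, y⁆ ∈ ⁅D, D⁆ :=
  commutator_mem_commutator hx hy

theorem cc {X Y : G} (hX : X ∈ ⁅D, D⁆) (hY : Y ∈ ⁅D, D⁆) : X * Y = Y * X :=
  h.comm_central X hX Y (Subgroup.commutator_le.mpr (fun u hu v hv =>
    D.mul_mem (D.mul_mem (D.mul_mem hu hv) (D.inv_mem hu)) (D.inv_mem hv)) hY)

theorem mul_left {x y z : G} (hx : x ∈ D) (hy : y ∈ D) (hz : z ∈ D) :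
    ⁅x * y, z⁆ = ⁅x, z⁆ * ⁅y, z⁆ := by
  rw [commutatorElement_mul_left_eq_conj_mul,
    ← h.comm_central _ (h.comm_mem hy hz) x hx, mul_inv_cancel_right]
  exact h.cc (h.comm_mem hy hz) (h.comm_mem hx hz)

theorem mul_right {x y z : G} (hx : x ∈ D) (hy : y ∈ D) (hz : z ∈ D) :
    ⁅z, x * y⁆ = ⁅z, x⁆ * ⁅z, y⁆ := by
  rw [← commutatorElement_inv, h.mul_left hx hy hz, mul_inv_rev, commutatorElement_inv,
    commutatorElement_inv]
  exact h.cc (h.comm_mem hz hy) (h.comm_mem hz hx)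

omit h in
theorem comm_eq_one {x y : G} (hxy : x * y = y * x) : ⁅x, y⁆ = 1 :=
  commutatorElement_eq_one_iff_mul_comm.mpr hxy

theorem odd_orderOf {x : G} (hx : x ∈ D) : Odd (orderOf x) :=
  h.odd.of_dvd_nat (D.orderOf_dvd_natCard hx)

theorem a_mem : a ∈ normalizer (D : Set G) := h.cent (mem_centralizer_singleton_iff.mpr rfl)

include ha

theorem conj_left {z w : G} (hz : z ∈ D) (hw : w ∈ D) : ⁅a * z * a⁻¹, w⁆ = ⁅z, w⁆⁻¹ := by
  obtain ⟨g, j, hg, hj, hga, hja, rfl⟩ := exists_fixed_mul_inverted ha h.odd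
    (fun y hy => (mem_normalizer_iff.mp h.a_mem y).mp hy) hz
  have hg1 := comm_eq_one (h.fixed_central g hg hga w hw)
  have e : a * (g * j) * a⁻¹ = g * j⁻¹ := by
    rw [show a * (g * j) * a⁻¹ = (a * g * a⁻¹) * (a * j * a⁻¹) by group, commute_iff_conj.1 hga, hja]
  have hj1 : ⁅j, w⁆ * ⁅j⁻¹, w⁆ = 1 := by
    rw [← h.mul_left hj (D.inv_mem hj) hw, mul_inv_cancel, commutatorElement_one_left]
  rw [e, h.mul_left hg (D.inv_mem hj) hw, h.mul_left hg hj hw, hg1, one_mul, one_mul]
  exact (inv_eq_of_mul_eq_one_right hj1).symm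

theorem conj_right {z w : G} (hz : z ∈ D) (hw : w ∈ D) : ⁅w, a * z * a⁻¹⁆ = ⁅w, z⁆⁻¹ := by
  rw [← commutatorElement_inv, h.conj_left ha hz hw, commutatorElement_inv]

/-- For `s` commuting with `a` the product `x (s x s⁻¹)` is, modulo the centre, fixed by `s` and inverted by `a`. -/
theorem lift {s : G} (hs : s * s = 1) (has : a * s = s * a) {x : G} (hx : x ∈ D) :
    ∃ f ∈ D, s * f = f * s ∧ Inverted a f ∧
      ∀ w ∈ D, ⁅x * (s * x * s⁻¹), w⁆ = ⁅f, w⁆ ∧ ⁅w, x * (s * x * s⁻¹)⁆ = ⁅w, f⁆ := by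
  have hsD : ∀ y ∈ D, s * y * s⁻¹ ∈ D := fun y hy =>
    (mem_normalizer_iff.mp (h.cent (mem_centralizer_singleton_iff.mpr has.symm)) y).mp hy
  have hs' := inv_of_sq hs
  set x' := s * x * s⁻¹ with hx'
  have hx'D : x' ∈ D := hsD x hx
  obtain ⟨f, i, hf, hi, hfs, his, e⟩ := exists_fixed_mul_inverted hs h.odd hsD (D.mul_mem hx hx'D)
  have e1 : i * i = ⁅x⁻¹, x'⁻¹⁆ := by
    have e2 : f * i⁻¹ = x' * x := by
      calc f * i⁻¹ = (s * f * s⁻¹) * (s * i * s⁻¹) := by rw [commute_iff_conj.1 hfs, his]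
        _ = s * (f * i) * s⁻¹ := by group
        _ = s * (x * x') * s⁻¹ := by rw [e]
        _ = x' * (s * x' * s⁻¹) := by rw [hx']; group
        _ = x' * x := by
          rw [hx', show s * (s * x * s⁻¹) * s⁻¹ = (s * s) * x * (s * s)⁻¹ by group, hs, one_mul,
            inv_one, mul_one]
    calc i * i = (f * i⁻¹)⁻¹ * (f * i) := by group
      _ = (x' * x)⁻¹ * (x * x') := by rw [e2, e]
      _ = _ := by rw [commutatorElement_def]; group
  have hic : ∀ w ∈ D, w * i = i * w := fun w hw =>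
    commute_of_commute_sq (h.odd_orderOf hi) (by
      rw [e1]; exact (h.comm_central _ (h.comm_mem (D.inv_mem hx) (D.inv_mem hx'D)) w hw).symm)
  obtain ⟨f1, f2, hf1, hf2, hf1a, hf2a, rfl⟩ := exists_fixed_mul_inverted (Y := D ⊓ centralizer ({s} : Set G))
    ha (h.odd.of_dvd_nat (card_dvd_of_le inf_le_left))
    (fun y hy => ⟨(mem_normalizer_iff.mp h.a_mem y).mp hy.1,
      (mem_normalizer_iff.mp (mem_normalizer_centralizer_singleton has.symm) y).mp hy.2⟩)
    (show f ∈ D ⊓ centralizer ({s} : Set G) from ⟨hf, mem_centralizer_singleton_iff.mpr hfs.symm⟩)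
  refine ⟨f2, hf2.1, (mem_centralizer_singleton_iff.mp hf2.2).symm, hf2a, fun w hw => ?_⟩
  have h1 : ⁅x * x', w⁆ = ⁅f2, w⁆ := by
    rw [e, h.mul_left hf hi hw, comm_eq_one (hic w hw).symm, mul_one, h.mul_left hf1.1 hf2.1 hw,
      comm_eq_one (h.fixed_central f1 hf1.1 hf1a w hw), one_mul]
  refine ⟨h1, ?_⟩
  rw [← commutatorElement_inv, h1, commutatorElement_inv]

/-- If for `s` and `a s` the fixed inverted elements commute, `s` inverts `[D, D]`. -/
theorem inverts_commutator {s : G} (hs : s * s = 1) (has : a * s = s * a)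
    (h1 : ∀ u ∈ D, ∀ v ∈ D, s * u = u * s → s * v = v * s → Inverted a u → Inverted a v → u * v = v * u)
    (h2 : ∀ u ∈ D, ∀ v ∈ D, a * s * u = u * (a * s) → a * s * v = v * (a * s) →
      Inverted a u → Inverted a v → u * v = v * u)
    {x y : G} (hx : x ∈ D) (hy : y ∈ D) : s * ⁅x, y⁆ * s⁻¹ = ⁅x, y⁆⁻¹ := by
  have hsD : ∀ y ∈ D, s * y * s⁻¹ ∈ D := fun y hy =>
    (mem_normalizer_iff.mp (h.cent (mem_centralizer_singleton_iff.mpr has.symm)) y).mp hy
  set x' := s * x * s⁻¹ with hx'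
  set y' := s * y * s⁻¹ with hy'
  have hx'D : x' ∈ D := hsD x hx
  have hy'D : y' ∈ D := hsD y hy
  have ht : a * s * (a * s) = 1 := by
    calc a * s * (a * s) = a * (s * a) * s := by group
      _ = a * (a * s) * s := by rw [has]
      _ = (a * a) * (s * s) := by group
      _ = 1 := by rw [ha, hs, one_mul]
  have hat : a * (a * s) = a * s * a := by rw [mul_assoc, ← has]
  have ex : a * s * x * (a * s)⁻¹ = a * x' * a⁻¹ := by rw [hx']; group
  have ey : a * s * y * (a * s)⁻¹ = a * y' * a⁻¹ := by rw [hy']; group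
  set c := ⁅x, y⁆
  set A := ⁅x, y'⁆
  set B := ⁅x', y⁆
  set C := ⁅x', y'⁆ with hC
  have k1 : c * A * (B * C) = 1 := by
    obtain ⟨f, hf, hfs, hfa, hf'⟩ := h.lift ha hs has hx
    obtain ⟨g, hg, hgs, hga, hg'⟩ := h.lift ha hs has hy
    rw [← comm_eq_one (h1 f hf g hg hfs hgs hfa hga), ← (hg' f hf).2, ← (hf' _ (D.mul_mem hy hy'D)).1,
      h.mul_left hx hx'D (D.mul_mem hy hy'D), h.mul_right hy hy'D hx, h.mul_right hy hy'D hx'D]
  have haD : ∀ z ∈ D, a * z * a⁻¹ ∈ D := fun z hz => (mem_normalizer_iff.mp h.a_mem z).mp hz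
  have k2 : c * A⁻¹ * (B⁻¹ * C) = 1 := by
    obtain ⟨f, hf, hfs, hfa, hf'⟩ := h.lift ha ht hat hx
    obtain ⟨g, hg, hgs, hga, hg'⟩ := h.lift ha ht hat hy
    rw [ex] at hf'
    rw [ey] at hg'
    rw [← comm_eq_one (h2 f hf g hg hfs hgs hfa hga), ← (hg' f hf).2,
      ← (hf' _ (D.mul_mem hy (haD _ hy'D))).1,
      h.mul_left hx (haD _ hx'D) (D.mul_mem hy (haD _ hy'D)), h.mul_right hy (haD _ hy'D) hx,
      h.mul_right hy (haD _ hy'D) (haD _ hx'D), h.conj_right ha hy'D hx,
      h.conj_left ha hx'D hy, h.conj_left ha hx'D (haD _ hy'D), h.conj_right ha hy'D hx'D, inv_inv]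
  have hcD : c ∈ ⁅D, D⁆ := h.comm_mem hx hy
  have hAD : A ∈ ⁅D, D⁆ := h.comm_mem hx hy'D
  have hBD : B ∈ ⁅D, D⁆ := h.comm_mem hx'D hy
  have hCD : C ∈ ⁅D, D⁆ := h.comm_mem hx'D hy'D
  have e1 : c * C * (A * B) = 1 := by
    rw [← k1, mul_assoc c C, h.cc hCD (Subgroup.mul_mem _ hAD hBD)]
    group
  have e2 : c * C * (A * B)⁻¹ = 1 := by
    rw [← k2, mul_assoc c C, h.cc hCD (Subgroup.inv_mem _ (Subgroup.mul_mem _ hAD hBD)), mul_inv_rev,
      h.cc (Subgroup.inv_mem _ hBD) (Subgroup.inv_mem _ hAD)]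
    group
  have e3 : (c * C) * (c * C) = 1 := by
    have := mul_inv_eq_one.mp e2
    rw [← this] at e1
    exact e1
  have hmem : c * C ∈ D := D.mul_mem
    (D.mul_mem (D.mul_mem (D.mul_mem hx hy) (D.inv_mem hx)) (D.inv_mem hy))
    (D.mul_mem (D.mul_mem (D.mul_mem hx'D hy'D) (D.inv_mem hx'D)) (D.inv_mem hy'D))
  have e4 : c * C = 1 := eq_one_of_fixed_inverted (t := (1 : G)) (h.odd_orderOf hmem) (by simp)
    (by unfold Inverted; rw [one_mul, inv_one, mul_one]; exact eq_inv_of_mul_eq_one_left e3)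
  have e5 : s * c * s⁻¹ = C := by
    simp only [c, C, hx', hy', commutatorElement_def]; group
  rw [e5]
  exact eq_inv_of_mul_eq_one_right e4

end Moved

/-- `[C_D(s), a]`. -/
def movedFixed (a s : G) (D : Subgroup G) : Subgroup G :=
  ⁅D ⊓ centralizer ({s} : Set G), zpowers a⁆

theorem mem_movedFixed {a s u : G} {D : Subgroup G} (h : Moved a D) (hu : u ∈ D)
    (hus : s * u = u * s) (hua : Inverted a u) : u ∈ movedFixed a s D := by
  obtain ⟨y, hy, hyy⟩ := exists_sq (h.odd_orderOf hu)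
  have hyD : y ∈ D ⊓ centralizer ({s} : Set G) :=
    (zpowers_le.2 (show u ∈ D ⊓ centralizer ({s} : Set G) from
      ⟨hu, mem_centralizer_singleton_iff.mpr hus.symm⟩)) hy
  have he : ⁅y, a⁆ = u := by
    rw [commutatorElement_def, show y * a * y⁻¹ * a⁻¹ = y * (a * y * a⁻¹)⁻¹ by group,
      hua.mem_of_zpowers hy, inv_inv, hyy]
  rw [← he]
  exact commutator_mem_commutator hyD (mem_zpowers a)

theorem movedFixed_le {a s : G} {D : Subgroup G} (h : Moved a D) : movedFixed a s D ≤ D :=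
  (commutator_mono inf_le_left le_rfl).trans h.eq.le

/-- **The choice of `Z`.** -/
theorem exists_pick {a : G} {D S : Subgroup G} (h : Moved a D) (ha : a * a = 1) (ha1 : a ≠ 1)
    (haS : a ∈ S) (hS : ∀ s ∈ S, s * s = 1) (hS8 : 4 < Nat.card S) :
    ∃ s ∈ S, s ≠ 1 ∧ s ≠ a ∧ ∃ Z : Subgroup G, Z ≠ ⊥ ∧ Z ≤ movedFixed a s D ∧
      D ≤ centralizer (Z : Set G) ∧ S ≤ normalizer (Z : Set G) := by
  have hcm : ∀ x ∈ S, ∀ y ∈ S, x * y = y * x := fun x hx y hy => by
    have e := hS _ (S.mul_mem hx hy)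
    calc x * y = x * (x * y * (x * y)) * y := by rw [e, mul_one]
      _ = (x * x) * y * x * (y * y) := by group
      _ = y * x := by rw [hS x hx, hS y hy, one_mul, mul_one]
  have hSn : ∀ s ∈ S, S ≤ normalizer (movedFixed a s D : Set G) := fun s hs g hg =>
    mem_normalizer_commutator
      (inf_normalizer_le_normalizer_inf
        ⟨h.cent (mem_centralizer_singleton_iff.mpr (hcm g hg a haS)),
          mem_normalizer_centralizer_singleton (hcm s hs g hg)⟩)
      (mem_normalizer_zpowers (hcm a haS g hg))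
  have hone : ∀ {s : G}, s * s = 1 → ∀ {t : G}, s * t = 1 → t = s := fun hs t ht =>
    mul_left_cancel (ht.trans hs.symm)
  -- `b ∉ {1, a}` and `d ∉ {1, a, b, a b}`
  have hex : ∀ l : Finset G, l.card ≤ 4 → ∃ z ∈ S, z ∉ l := fun l hl => by
    by_contra hno
    push Not at hno
    have := Nat.card_mono (Finset.finite_toSet l) (show (S : Set G) ⊆ (l : Set G) from hno)
    simp only [SetLike.coe_sort_coe, Nat.card_eq_finsetCard] at this
    exact absurd (this.trans hl) (not_le.mpr hS8)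
  classical
  obtain ⟨b, hbS, hb⟩ := hex {1, a} (Finset.card_le_two.trans (by norm_num))
  simp only [Finset.mem_insert, Finset.mem_singleton, not_or] at hb
  obtain ⟨d, hdS, hd⟩ := hex {1, a, b, a * b} Finset.card_le_four
  simp only [Finset.mem_insert, Finset.mem_singleton, not_or] at hd
  have hab1 : a * b ≠ 1 := fun e => hb.2 (hone ha e)
  have haba : a * b ≠ a := fun e => hb.1 (by simpa using e)
  by_cases hab : ∀ x ∈ D, ∀ y ∈ D, x * y = y * x
  · -- `D` abelian
    have hfind : movedFixed a b D ≠ ⊥ ∨ movedFixed a (a * b) D ≠ ⊥ := by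
      by_contra hno
      push Not at hno
      obtain ⟨hY1, hY2⟩ := hno
      refine h.ne_bot (eq_bot_iff.mpr (h.eq.ge.trans (commutator_zpowers_le ha fun y hy => ?_)))
      set x := ⁅y, a⁆
      have hxD : x ∈ D := h.eq.le (commutator_mem_commutator hy (mem_zpowers a))
      have hxa : Inverted a x := inverted_commutator ha y
      have hab' := hcm a haS b hbS
      have hbD : ∀ z ∈ D, b * z * b⁻¹ ∈ D := fun z hz =>
        (mem_normalizer_iff.mp (h.cent (mem_centralizer_singleton_iff.mpr hab'.symm)) z).mp hz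
      obtain ⟨f, i, hf, hi, hfb, hib, e⟩ := exists_fixed_mul_inverted (hS b hbS) h.odd hbD hxD
      have hfa : a * f = f * a := by
        have h1 := hY1.le (commutator_mem_commutator
          (show f ∈ D ⊓ centralizer ({b} : Set G) from ⟨hf, mem_centralizer_singleton_iff.mpr hfb.symm⟩)
          (mem_zpowers a))
        exact (commutatorElement_eq_one_iff_mul_comm.mp (mem_bot.mp h1)).symm
      -- `f = 1`
      have hf1 : f = 1 := by
        have e1 : a * i * a⁻¹ = f⁻¹ * f⁻¹ * i⁻¹ := by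
          have h1 : f * (a * i * a⁻¹) = i⁻¹ * f⁻¹ := by
            rw [← mul_inv_rev, ← e, ← hxa, e]
            rw [show a * (f * i) * a⁻¹ = (a * f * a⁻¹) * (a * i * a⁻¹) by group, commute_iff_conj.1 hfa]
          calc a * i * a⁻¹ = f⁻¹ * (f * (a * i * a⁻¹)) := by group
            _ = f⁻¹ * (i⁻¹ * f⁻¹) := by rw [h1]
            _ = f⁻¹ * (f⁻¹ * i⁻¹) := by rw [hab _ (D.inv_mem hi) _ (D.inv_mem hf)]
            _ = _ := by group
        have hff : f⁻¹ * f⁻¹ ∈ D := D.mul_mem (D.inv_mem hf) (D.inv_mem hf)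
        have e2 : b * (a * i * a⁻¹) * b⁻¹ = (a * i * a⁻¹)⁻¹ := by
          calc b * (a * i * a⁻¹) * b⁻¹ = (b * a) * i * (b * a)⁻¹ := by group
            _ = (a * b) * i * (a * b)⁻¹ := by rw [hab']
            _ = a * (b * i * b⁻¹) * a⁻¹ := by group
            _ = a * i⁻¹ * a⁻¹ := by rw [hib]
            _ = _ := by group
        rw [e1, show b * (f⁻¹ * f⁻¹ * i⁻¹) * b⁻¹ = (b * f * b⁻¹)⁻¹ * (b * f * b⁻¹)⁻¹ * (b * i * b⁻¹)⁻¹
          by group, commute_iff_conj.1 hfb, hib, inv_inv, mul_inv_rev, inv_inv,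
          hab i hi _ (D.inv_mem hff), mul_left_inj] at e2
        have h4 : orderOf (f⁻¹ * f⁻¹) ∣ 2 :=
          orderOf_dvd_of_pow_eq_one (by rw [pow_two]; nth_rewrite 2 [e2]; exact mul_inv_cancel _)
        rcases (Nat.dvd_prime Nat.prime_two).mp h4 with h5 | h5
        · have h6 : f⁻¹ * f⁻¹ = 1 := orderOf_eq_one_iff.mp h5
          have h7 : orderOf f ∣ 2 := orderOf_dvd_of_pow_eq_one (by
            rw [pow_two, ← inv_inj, inv_one, mul_inv_rev, h6])
          rcases (Nat.dvd_prime Nat.prime_two).mp h7 with h8 | h8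
          · exact orderOf_eq_one_iff.mp h8
          · have := h.odd_orderOf hf; rw [h8] at this; exact absurd this (by decide)
        · have := h.odd_orderOf hff; rw [h5] at this; exact absurd this (by decide)
      rw [hf1, one_mul] at e
      rw [← e] at hib
      have h9 : a * b * x = x * (a * b) := by
        refine commute_iff_conj.2 ?_
        calc a * b * x * (a * b)⁻¹ = a * (b * x * b⁻¹) * a⁻¹ := by group
          _ = (a * x * a⁻¹)⁻¹ := by rw [hib]; group
          _ = x := by rw [hxa, inv_inv]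
      exact hY2.le (mem_movedFixed h hxD h9 hxa)
    have hgo : ∀ s ∈ S, s ≠ 1 → s ≠ a → movedFixed a s D ≠ ⊥ →
        ∃ s ∈ S, s ≠ 1 ∧ s ≠ a ∧ ∃ Z : Subgroup G, Z ≠ ⊥ ∧ Z ≤ movedFixed a s D ∧
          D ≤ centralizer (Z : Set G) ∧ S ≤ normalizer (Z : Set G) := fun s hs h1 h2 hne =>
      ⟨s, hs, h1, h2, _, hne, le_rfl,
        fun x hx => mem_centralizer_iff.mpr fun z hz => hab z (movedFixed_le h hz) x hx, hSn s hs⟩
    rcases hfind with h' | h'
    · exact hgo b hbS hb.1 hb.2 h'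
    · exact hgo (a * b) (S.mul_mem haS hbS) hab1 haba h'
  · -- `D` nonabelian
    suffices hW : ∃ s ∈ S, s ≠ 1 ∧ s ≠ a ∧ ∃ u ∈ D, ∃ v ∈ D, s * u = u * s ∧ s * v = v * s ∧
        Inverted a u ∧ Inverted a v ∧ u * v ≠ v * u by
      obtain ⟨s, hs, hs1, hsa, u, hu, v, hv, hus, hvs, hua, hva, hne⟩ := hW
      refine ⟨s, hs, hs1, hsa, ⁅movedFixed a s D, movedFixed a s D⁆, fun hb' => hne ?_, ?_, ?_, ?_⟩
      · have h1 := commutator_mem_commutator (mem_movedFixed h hu hus hua) (mem_movedFixed h hv hvs hva)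
        rw [hb', mem_bot] at h1
        exact commutatorElement_eq_one_iff_mul_comm.mp h1
      · exact commutator_le.mpr fun x hx y hy =>
          Subgroup.mul_mem _ (Subgroup.mul_mem _ (Subgroup.mul_mem _ hx hy) (Subgroup.inv_mem _ hx))
            (Subgroup.inv_mem _ hy)
      · exact fun x hx => mem_centralizer_iff.mpr fun z hz =>
          h.comm_central z (commutator_mono (movedFixed_le h) (movedFixed_le h) hz) x hx
      · exact fun g hg => mem_normalizer_commutator (hSn s hs hg) (hSn s hs hg)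
    by_contra hno
    push Not at hno
    refine hab fun x hx y hy => ?_
    set c := ⁅x, y⁆
    have hinv : ∀ s ∈ S, s ≠ 1 → s ≠ a → s * c * s⁻¹ = c⁻¹ := fun s hs h1 h2 =>
      h.inverts_commutator ha (hS s hs) (hcm a haS s hs) (hno s hs h1 h2)
        (hno (a * s) (S.mul_mem haS hs) (fun e => h2 (hone ha e)) (fun e => h1 (by simpa using e))) hx hy
    have hi1 := hinv b hbS hb.1 hb.2
    have hi2 := hinv d hdS hd.1 hd.2.1
    have hi3 := hinv (b * d) (S.mul_mem hbS hdS) (fun e => hd.2.2.1 (hone (hS b hbS) e))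
      (fun e => hd.2.2.2 (by rw [← e, hcm b hbS d hdS, mul_assoc, hS b hbS, mul_one]))
    rw [show b * d * c * (b * d)⁻¹ = b * (d * c * d⁻¹) * b⁻¹ by group, hi2,
      show b * c⁻¹ * b⁻¹ = (b * c * b⁻¹)⁻¹ by group, hi1, inv_inv] at hi3
    have h4 : orderOf c ∣ 2 :=
      orderOf_dvd_of_pow_eq_one (by rw [pow_two]; nth_rewrite 2 [hi3]; exact mul_inv_cancel c)
    have hcD : c ∈ D := h.eq.le |> fun _ =>
      D.mul_mem (D.mul_mem (D.mul_mem hx hy) (D.inv_mem hx)) (D.inv_mem hy)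
    rcases (Nat.dvd_prime Nat.prime_two).mp h4 with h5 | h5
    · exact commutatorElement_eq_one_iff_mul_comm.mp (orderOf_eq_one_iff.mp h5)
    · have := h.odd_orderOf hcD; rw [h5] at this; exact absurd this (by decide)

end CfsgLib.Walter.BendTwo
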