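import Cfsg.Agent.Lib.Recog.Walter.Three.BenderTwo
import Cfsg.Agent.Lib.Recog.Walter.Three.BenderTwoPick

/-!
Owner: helper11. Walter, case B2 of rank three: `M ≠ C(a)` with `|π(F(M))| ≥ 2` is impossible.

`Ctx` is the data of `M`, `Nbr` that of a conjugate `M_s` for `s ∈ S ∖ {1, a}`; the last two
hypotheses are Lemma Y (`[C_P(s), a] ≤ F(M_s)`) and the centralisation of layers of overgroups of
`S` by the invariant subgroups `D = [D, a]` of `P = O_p(M)`.
-/

set_option autoImplicit false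
set_option linter.all false

namespace CfsgLib.Walter.BendTwo

open Subgroup CfsgLib.TwoGroups.Bender
open scoped commutatorElement

variable {G : Type*} [Group G] [Finite G]

/-- **Case B2.** -/
theorem caseTwo [IsSimpleGroup G] {a : G} {M S : Subgroup G} (h : Ctx a M) (ha1 : a ≠ 1)
    (haS : a ∈ S) (hS : ∀ s ∈ S, s * s = 1) (hS8 : 4 < Nat.card S) {p : ℕ} [Fact p.Prime]
    (hmove : ¬ part p M ≤ centralizer ({a} : Set G))
    (hN : ∀ s ∈ S, s ≠ 1 → s ≠ a → ∃ N : Subgroup G, Nbr a s M N ∧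
      ⁅part p M ⊓ centralizer ({s} : Set G), zpowers a⁆ ≤ Cfsg.fittingOf N)
    (hlay : ∀ H : Subgroup G, IsCoatom H → S ≤ H → ∀ D : Subgroup G, D ≤ part p M ⊓ H →
      centralizer ({a} : Set G) ≤ normalizer (D : Set G) → ⁅D, zpowers a⁆ = D →
      (Cfsg.layer ↥H).map H.subtype ≤ centralizer (D : Set G)) : False := by
  obtain ⟨D, hDP, hD⟩ := exists_moved h.sq (isPGroup_part p M)
    (h.odd.of_dvd_nat (card_dvd_of_le (part_le_fittingOf p M)))
    (h.cent.trans (le_normalizer_part p M)) hmove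
  obtain ⟨s, hs, hs1, hsa, Z, hZ, hZY, hDZ, hSZ⟩ := exists_pick hD h.sq ha1 haS hS hS8
  obtain ⟨N, hNs, hY⟩ := hN s hs hs1 hsa
  have has1 : a * s ≠ 1 := fun e => hsa (mul_left_cancel (e.trans h.sq.symm))
  have hasa : a * s ≠ a := fun e => hs1 (by simpa using e)
  obtain ⟨N', hN', -⟩ := hN (a * s) (S.mul_mem haS hs) has1 hasa
  have hDN : D ≤ normalizer (Z : Set G) := hDZ.trans (centralizer_le_normalizer _)
  exact h.false_of_pick hNs hN' hD.ne_bot (hDP.trans (part_le_fittingOf p M)) hD.cent hD.eq hNs hZ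
    ((hZY.trans (movedFixed_le hD)).trans (hDP.trans (part_le_fittingOf p M)))
    ((hZY.trans (commutator_mono (inf_le_inf_right _ hDP) le_rfl)).trans hY) (hSZ haS) hDN
    fun H hH hNH => hlay H hH (hSZ.trans hNH) D (le_inf hDP (hDN.trans hNH)) hD.cent hD.eq

end CfsgLib.Walter.BendTwo
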