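import Cfsg.Agent.Lib.Recog.Walter.Three.Residual
import Cfsg.Agent.Lib.AbelianSolvCent.Main
import Cfsg.Agent.Lib.TwoFusion.AbelianPSL.Local

/-!
Owner: helper29. The structure of a centralizer modulo its core in rank three (Walter).

`X` has trivial odd core, elementary Sylow 2-subgroups of order eight, a central involution `b` and is not
solvable: then `res X` is `PSL(2, q)`, `b ∉ res X`, `X / ⟨b⟩ res X` is odd and an inverted odd element lies
in `res X`. A `p`-group generated by elements inverted by an involution `t` and normalised by `C(t)` is 1.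
-/

set_option autoImplicit false
set_option linter.style.haveILetI false
set_option linter.unusedSectionVars false

namespace CfsgLib.Walter.Three

open Subgroup
open CfsgLib.AbelianPSL (PSLData)
open CfsgLib.AbelianSolvCent (AbSylow SolvCent)
open CfsgLib.Signalizer (involution_sq involution_ne_one orderOf_eq_two_of orderOf_conj)

universe u

section PSL

variable {L : Type u} [Group L] [Finite L]

/-- In `PSL(2, q)`: a subgroup of prime power order generated by elements inverted by an involution `v` and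
normalised by `C(v)` is trivial. -/
theorem psl_eq_bot (D : PSLData L) {v : L} (hv : orderOf v = 2) {p : ℕ} [Fact p.Prime] (hp : p ≠ 2)
    {Y : Subgroup L} (hY : IsPGroup p Y) (T : Set L) (hT : closure T = Y)
    (hinv : ∀ y ∈ T, v * y * v⁻¹ = y⁻¹) (hn : centralizer ({v} : Set L) ≤ normalizer (Y : Set L)) :
    Y = ⊥ := by
  classical
  have hodd : ∀ x ∈ Y, Odd (orderOf x) := fun x hx => by
    obtain ⟨k, hk⟩ := IsPGroup.iff_orderOf.1 hY ⟨x, hx⟩
    rw [Subgroup.orderOf_mk] at hk
    rw [hk]; exact ((Fact.out : p.Prime).odd_of_ne_two hp).pow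
  set Z := Y ⊓ centralizer (Y : Set L) with hZ
  have hZn : centralizer ({v} : Set L) ≤ normalizer (Z : Set L) :=
    (le_inf hn (hn.trans (CfsgLib.Signalizer.normalizer_le_normalizer_centralizer_set _))).trans inf_normalizer_le_normalizer_inf
  have hvZ : v ∈ normalizer (Z : Set L) := hZn (mem_centralizer_singleton_iff.2 rfl)
  have hZc : ∀ z ∈ Z, ∀ w ∈ Z, z * w = w * z := fun z hz w hw => mem_centralizer_iff.1 hw.2 z hz.1
  -- the inverted part of the centre
  let I : Subgroup L :=
    { carrier := {z | z ∈ Z ∧ v * z * v⁻¹ = z⁻¹}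
      one_mem' := ⟨one_mem _, by simp⟩
      mul_mem' := by
        rintro z w ⟨hz, hz'⟩ ⟨hw, hw'⟩
        refine ⟨mul_mem hz hw, ?_⟩
        rw [← conj_mul, hz', hw', ← mul_inv_rev, hZc w hw z hz]
      inv_mem' := by
        rintro z ⟨hz, hz'⟩
        exact ⟨inv_mem hz, by rw [← conj_inv, hz']⟩ }
  have hI : I = ⊥ := by
    refine CfsgLib.AbelianPSL.eq_bot_of_inverted D hv ?_ (fun x hx => hx.2) fun c hc => ?_
    · refine Odd.of_dvd_nat ?_ (Subgroup.card_dvd_of_le (show I ≤ Y from fun z hz => hz.1.1))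
      obtain ⟨k, hk⟩ := hY.exists_card_eq
      rw [hk]; exact ((Fact.out : p.Prime).odd_of_ne_two hp).pow
    · have hcv : c * v * c⁻¹ = v := mul_inv_eq_iff_eq_mul.2 (mem_centralizer_singleton_iff.1 hc)
      refine mem_normalizer_iff.2 fun x => ?_
      show (x ∈ Z ∧ v * x * v⁻¹ = x⁻¹) ↔ (c * x * c⁻¹ ∈ Z ∧ v * (c * x * c⁻¹) * v⁻¹ = (c * x * c⁻¹)⁻¹)
      have e : v * (c * x * c⁻¹) * v⁻¹ = c * (v * x * v⁻¹) * c⁻¹ := by
        conv_lhs => rw [← hcv]
        group
      rw [e, conj_inv, ← mem_normalizer_iff.1 (hZn hc) x]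
      exact and_congr_right fun _ => ⟨fun h => by rw [h], fun h => mul_left_cancel (mul_right_cancel h)⟩
  have hfix : ∀ z ∈ Z, z * v = v * z := by
    intro z hz
    have h1 : v * z * v⁻¹ * z⁻¹ ∈ I := by
      have hz' := (mem_normalizer_iff.1 hvZ z).1 hz
      refine ⟨mul_mem hz' (inv_mem hz), ?_⟩
      have hvv : v * v = 1 := involution_sq hv
      calc v * (v * z * v⁻¹ * z⁻¹) * v⁻¹ = (v * v) * z * (v * v)⁻¹ * (v * z⁻¹ * v⁻¹) := by group
        _ = z * (v * z⁻¹ * v⁻¹) := by rw [hvv]; group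
        _ = (v * z * v⁻¹ * z⁻¹)⁻¹ := by group
    rw [hI, mem_bot, mul_inv_eq_one, mul_inv_eq_iff_eq_mul] at h1
    exact h1.symm
  -- `v` centralises `Y`
  by_contra hne
  obtain ⟨z, hz, hz1⟩ : ∃ z ∈ Z, z ≠ 1 := by
    haveI := (nontrivial_iff_ne_bot Y).2 hne
    obtain ⟨z, hz, hz1⟩ := (Subgroup.bot_or_exists_ne_one (center Y)).resolve_left
      ((nontrivial_iff_ne_bot _).1 hY.center_nontrivial)
    exact ⟨z, ⟨z.2, mem_centralizer_iff.2 fun y hy => congrArg Subtype.val (mem_center_iff.1 hz ⟨y, hy⟩)⟩,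
      fun e => hz1 (Subtype.ext e)⟩
  have hTv : ∀ y ∈ T, y = 1 := by
    intro y hy
    have hyY : y ∈ Y := hT ▸ subset_closure hy
    have hc : v * y * v⁻¹ = y⁻¹ := hinv y hy
    have hcom : z * y = y * z := (mem_centralizer_iff.1 hz.2 y hyY).symm
    have h1 : y * v * y⁻¹ = v := by
      refine D.unique z _ v (CfsgLib.AbelianPSL.sq_ne_one_of_odd D (hodd z hz.1) hz1)
        ((orderOf_conj y v).trans hv) hv ?_ (hfix z hz)
      calc z * (y * v * y⁻¹) = (z * y) * v * y⁻¹ := by group
        _ = y * (z * v) * y⁻¹ := by rw [hcom]; group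
        _ = y * v * (z * y⁻¹) := by rw [hfix z hz]; group
        _ = y * v * (y⁻¹ * z) := by rw [(Commute.inv_right (hcom : Commute z y)).eq]
        _ = y * v * y⁻¹ * z := by group
    rw [mul_inv_eq_iff_eq_mul] at h1
    rw [← h1, mul_inv_cancel_right] at hc
    exact CfsgLib.ZStar.eq_one_of_odd_of_sq (hodd y hyY) (by rw [pow_two]; nth_rw 2 [hc]; exact mul_inv_cancel y)
  exact hne (hT ▸ le_bot_iff.1 ((closure_le _).2 fun y hy => mem_bot.2 (hTv y hy)))

end PSL

section Local

variable {X : Type u} [Group X] [Finite X]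

/-- The hypotheses on `C(b) / O(C(b))`. -/
structure Local (S : Sylow 2 X) (b : X) : Prop where
  core : Cfsg.oddCore X = ⊥
  card : Nat.card ↥(S : Subgroup X) = 8
  sq : ∀ x ∈ (S : Subgroup X), x * x = 1
  mem : b ∈ (S : Subgroup X)
  ne : b ≠ 1
  central : b ∈ center X
  nonsolv : ¬ Group.IsSolvable X

namespace Local

variable {S : Sylow 2 X} {b : X} (h : Local S b)
include h

theorem orderOf_b : orderOf b = 2 := orderOf_eq_two_of h.ne (h.sq b h.mem)

theorem isComm : IsMulCommutative ↥(S : Subgroup X) := by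
  refine ⟨⟨fun x y => Subtype.ext ?_⟩⟩
  have h1 := h.sq _ (mul_mem x.2 y.2)
  have hxi := inv_eq_of_mul_eq_one_right (h.sq x x.2)
  have hyi := inv_eq_of_mul_eq_one_right (h.sq y y.2)
  show (x : X) * y = y * x
  rw [← inv_eq_of_mul_eq_one_right h1, mul_inv_rev, hxi, hyi]

theorem abSylow : AbSylow X := CfsgLib.AbelianSolvCent.abSylow_of_one S h.isComm

theorem b_not_mem_res : b ∉ res X := by
  intro hb
  haveI : Fact (Nat.Prime 2) := ⟨Nat.prime_two⟩
  have hp : commutator ↥(res X) = ⊤ := map_injective (res X).subtype_injective (by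
    rw [map_subtype_commutator, res_perfect, ← MonoidHom.range_eq_map, range_subtype])
  have hord : orderOf (⟨b, hb⟩ : res X) = 2 := by rw [Subgroup.orderOf_mk]; exact h.orderOf_b
  obtain ⟨P, hP⟩ := (CfsgLib.Signalizer.isPGroup_zpowers_involution hord).exists_le_sylow
  exact not_central_of_perfect hp P (CfsgLib.AbelianSolvCent.abSylow_subgroup h.abSylow _ P) hord
    (hP (mem_zpowers _)) (mem_center_iff.2 fun x => Subtype.ext (mem_center_iff.1 h.central _))

theorem zpowers_normal : (zpowers b).Normal := by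
  refine ⟨fun x hx g => ?_⟩
  obtain ⟨k, rfl⟩ := mem_zpowers_iff.1 hx
  rw [mem_center_iff.1 (zpow_mem h.central k) g, mul_inv_cancel_right]
  exact hx

/-- `res X ≅ PSL(2, q)` with trivial centralizer modulo `⟨b⟩`. -/
theorem structure_res' : (PSLData ↥(res X) ∧ ∃ (F : Type) (_ : Field F) (_ : Fintype F),
      ((Fintype.card F % 8 = 3 ∨ Fintype.card F % 8 = 5) ∧ 5 ≤ Fintype.card F) ∧
      Nonempty (↥(res X) ≃* Matrix.ProjectiveSpecialLinearGroup (Fin 2) F)) ∧
    (∀ x : X, (∀ y ∈ res X, x * y = y * x) → x ∈ zpowers b) ∧ Odd (res X ⊔ zpowers b).index ∧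
    4 ∣ Nat.card ↥(res X) := by
  classical
  haveI : Fact (Nat.Prime 2) := ⟨Nat.prime_two⟩
  haveI := h.zpowers_normal
  set π := QuotientGroup.mk' (zpowers b) with hπ
  have hπs : Function.Surjective π := QuotientGroup.mk'_surjective _
  set Q := X ⧸ zpowers b
  -- the quotient has trivial core
  have hOQ : Cfsg.oddCore Q = ⊥ := by
    set K := (Cfsg.oddCore Q).comap π with hK
    haveI : K.Normal := Normal.comap inferInstance π
    have hbK : zpowers b ≤ K := by
      rw [hK]; exact (QuotientGroup.ker_mk' (zpowers b)).ge.trans (ker_le_comap _ _)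
    obtain ⟨P⟩ := (inferInstance : Nonempty (Sylow 2 K))
    have hKc : Nat.card K = 2 * Nat.card (Cfsg.oddCore Q) := by
      have h1 := Subgroup.index_mul_card K
      have h2 := Subgroup.index_mul_card (Cfsg.oddCore Q)
      have h3 : K.index = (Cfsg.oddCore Q).index := index_comap_of_surjective _ hπs
      have h4 : Nat.card X = Nat.card Q * 2 := by
        rw [card_eq_card_quotient_mul_card_subgroup (zpowers b), Nat.card_zpowers, h.orderOf_b]
      refine Nat.eq_of_mul_eq_mul_left (Nat.pos_of_ne_zero (Subgroup.index_ne_zero_of_finite (H := K))) ?_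
      rw [h1, h4, ← h2, h3]; ring
    have hPc : IsCyclic ↥(P : Subgroup K) := by
      obtain ⟨j, hj⟩ := P.2.exists_card_eq
      have hd : 2 ^ j ∣ 2 * Nat.card (Cfsg.oddCore Q) := hKc ▸ hj ▸ Subgroup.card_subgroup_dvd_card _
      have hj1 : j ≤ 1 := by
        by_contra hlt
        obtain ⟨m, hm⟩ := CfsgLib.GW.DGroup.odd_oddCore Q
        rw [hm] at hd
        have h22 : 2 * 2 ∣ 2 * (2 * m + 1) := dvd_trans (dvd_of_eq (by norm_num)) ((pow_dvd_pow 2 (show 2 ≤ j by omega)).trans hd)
        have := Nat.dvd_of_mul_dvd_mul_left (by norm_num) h22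
        omega
      rcases (show j = 0 ∨ j = 1 by omega) with rfl | rfl
      · haveI : Subsingleton ↥(P : Subgroup K) := (Nat.card_eq_one_iff_unique.1 (by simpa using hj)).1
        infer_instance
      · exact isCyclic_of_prime_card (p := 2) (by simpa using hj)
    obtain ⟨N, hN, hNc, hNq⟩ :=
      CfsgLib.Transfer.hasNormalPComplement_iff_exists.1 (CfsgLib.OddGated.complement_of_cyclic P hPc)
    haveI := hN
    have hN1 : N = ⊥ := by
      have h1 : N ≤ Cfsg.pPrimeCore 2 K := CfsgLib.ZStar.le_oddCore hN (Nat.coprime_two_right.1 hNc)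
      have h2 := (map_mono h1).trans (CfsgLib.Core.map_subtype_pPrimeCore_le (p := 2) K)
      rw [show Cfsg.pPrimeCore 2 X = ⊥ from h.core, le_bot_iff,
        map_eq_bot_iff_of_injective _ K.subtype_injective] at h2
      exact h2
    subst hN1
    have hK2 : IsPGroup 2 K :=
      hNq.of_equiv QuotientGroup.quotientBot
    have h2 : IsPGroup 2 (Cfsg.oddCore Q) := by
      have := hK2.map π
      rwa [hK, map_comap_eq_self_of_surjective hπs] at this
    obtain ⟨j, hj⟩ := h2.exists_card_eq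
    refine Subgroup.eq_bot_of_card_eq _ ?_
    have ho := CfsgLib.GW.DGroup.odd_oddCore Q
    rw [hj] at ho ⊢
    rcases j with _ | j
    · rfl
    · exact absurd ho (Nat.not_odd_iff_even.2 ((Nat.even_pow).2 ⟨even_two, by omega⟩))
  have hnsQ : ¬ Group.IsSolvable Q := fun hs => by
    haveI := hs
    haveI : Group.IsSolvable (zpowers b) := Group.isSolvable_of_comm fun x y => Subtype.ext (by
      exact congrArg Subtype.val (mul_comm' x y))
    exact h.nonsolv (CfsgLib.OddGated.isSolvable_of_normal (zpowers b) inferInstance inferInstance)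
  have hAQ : AbSylow Q := CfsgLib.AbelianSolvCent.abSylow_of_surjective h.abSylow π hπs
  -- Sylow subgroups of the quotient have order four
  have h4Q : ∀ T : Sylow 2 Q, Nat.card ↥(T : Subgroup Q) = 4 := by
    intro T
    have hX : Nat.card X = Nat.card Q * 2 := by
      rw [card_eq_card_quotient_mul_card_subgroup (zpowers b), Nat.card_zpowers, h.orderOf_b]
    have h1 := S.card_eq_multiplicity
    rw [h.card, hX, Nat.factorization_mul Nat.card_pos.ne' two_ne_zero, Finsupp.add_apply,
      Nat.prime_two.factorization_self] at h1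
    have h3 : (2 : ℕ) ^ 3 = 2 ^ ((Nat.card Q).factorization 2 + 1) := by rw [← h1]; norm_num
    have h4 := Nat.pow_right_injective le_rfl h3
    rw [T.card_eq_multiplicity, show (Nat.card Q).factorization 2 = 2 by omega]
    norm_num
  have hsqQ : ∀ T : Sylow 2 Q, ∀ y ∈ (T : Subgroup Q), y * y = 1 := by
    intro T y hy
    obtain ⟨g, hg⟩ := MulAction.exists_smul_eq Q (S.mapSurjective hπs) T
    rw [← hg, Sylow.coe_subgroup_smul] at hy
    obtain ⟨z, ⟨s, hs, rfl⟩, rfl⟩ := hy
    show g * π s * g⁻¹ * (g * π s * g⁻¹) = 1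
    rw [show g * π s * g⁻¹ * (g * π s * g⁻¹) = g * (π s * π s) * g⁻¹ by group, ← map_mul, h.sq s hs, map_one]
    group
  have hCQ : SolvCent Q := by
    intro u hu
    set C := centralizer ({u} : Set Q)
    have huC : u ∈ C := mem_centralizer_singleton_iff.2 rfl
    haveI : (zpowers (⟨u, huC⟩ : C)).Normal := ⟨fun x hx g => by
      obtain ⟨k, rfl⟩ := mem_zpowers_iff.1 hx
      have hc : (⟨u, huC⟩ : C) ∈ center C := mem_center_iff.2 fun y =>
        Subtype.ext (mem_centralizer_singleton_iff.1 y.2)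
      rw [mem_center_iff.1 (zpow_mem hc k) g, mul_inv_cancel_right]
      exact hx⟩
    set ρ := QuotientGroup.mk' (zpowers (⟨u, huC⟩ : C))
    obtain ⟨R⟩ := (inferInstance : Nonempty (Sylow 2 (C ⧸ zpowers (⟨u, huC⟩ : C))))
    have hRc : IsCyclic ↥(R : Subgroup (C ⧸ zpowers (⟨u, huC⟩ : C))) := by
      obtain ⟨j, hj⟩ := R.2.exists_card_eq
      have hCd : Nat.card C = Nat.card (C ⧸ zpowers (⟨u, huC⟩ : C)) * 2 := by
        rw [card_eq_card_quotient_mul_card_subgroup (zpowers (⟨u, huC⟩ : C)), Nat.card_zpowers,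
          Subgroup.orderOf_mk, hu]
      have hd : 2 ^ (j + 1) ∣ Nat.card Q := by
        refine dvd_trans ?_ (Subgroup.card_subgroup_dvd_card C)
        rw [hCd, pow_succ]
        exact mul_dvd_mul_right (hj ▸ Subgroup.card_subgroup_dvd_card _) _
      obtain ⟨T⟩ := (inferInstance : Nonempty (Sylow 2 Q))
      have h5 := Nat.le_of_dvd (by norm_num) (h4Q T ▸ T.pow_dvd_card_of_pow_dvd_card hd : 2 ^ (j + 1) ∣ 4)
      have hj1 : j ≤ 1 := by
        by_contra hlt
        have := Nat.pow_le_pow_right (show 1 ≤ 2 by norm_num) (show 3 ≤ j + 1 by omega)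
        norm_num at this
        omega
      rcases (show j = 0 ∨ j = 1 by omega) with rfl | rfl
      · haveI : Subsingleton ↥(R : Subgroup (C ⧸ zpowers (⟨u, huC⟩ : C))) :=
          (Nat.card_eq_one_iff_unique.1 (by simpa using hj)).1
        infer_instance
      · exact isCyclic_of_prime_card (p := 2) (by simpa using hj)
    have hodd : ∀ N : Subgroup (C ⧸ zpowers (⟨u, huC⟩ : C)), Odd (Nat.card N) → Group.IsSolvable N :=
      fun N hN => Cfsg.Agent.S0205.result hN
    haveI := CfsgLib.OddGated.isSolvable_of_complement hodd (CfsgLib.OddGated.complement_of_cyclic R hRc)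
    haveI : Group.IsSolvable (zpowers (⟨u, huC⟩ : C)) := Group.isSolvable_of_comm fun x y => mul_comm' x y
    exact CfsgLib.OddGated.isSolvable_of_normal (zpowers (⟨u, huC⟩ : C)) inferInstance inferInstance
  obtain ⟨N, hN, hsim, hNns, hNA, -, hcen⟩ :=
    CfsgLib.AbelianSolvCent.exists_socle_of_core hAQ hCQ hnsQ hOQ
  haveI := hN
  haveI := hsim
  obtain ⟨T⟩ := (inferInstance : Nonempty (Sylow 2 ↥N))
  obtain ⟨T', hT'⟩ := (T.2.map N.subtype).exists_le_sylow
  have hTd : Nat.card ↥(T : Subgroup ↥N) ∣ 4 := by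
    rw [Nat.card_congr ((T : Subgroup ↥N).equivMapOfInjective _ N.subtype_injective).toEquiv, ← h4Q T']
    exact card_dvd_of_le hT'
  have hTnc : ¬ IsCyclic ↥(T : Subgroup ↥N) := fun hc => hNns
    (CfsgLib.OddGated.isSolvable_of_complement (fun M hM => Cfsg.Agent.S0205.result hM)
      (CfsgLib.OddGated.complement_of_cyclic T hc))
  have hTsq : ∀ x : ↥(T : Subgroup ↥N), x * x = 1 := fun x => Subtype.ext (Subtype.ext
    (hsqQ T' _ (hT' ⟨_, x.2, rfl⟩)))
  obtain ⟨j, hj⟩ := T.2.exists_card_eq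
  have hj2 : j = 2 := by
    have h5 := Nat.le_of_dvd (by norm_num) hTd
    rw [hj] at h5
    have h6 : j ≤ 2 := by
      by_contra hlt
      have := Nat.pow_le_pow_right (show 1 ≤ 2 by norm_num) (show 3 ≤ j by omega)
      norm_num at this
      omega
    by_contra hne
    rcases (show j = 0 ∨ j = 1 by omega) with rfl | rfl
    · haveI : Subsingleton ↥(T : Subgroup ↥N) := (Nat.card_eq_one_iff_unique.1 (by simpa using hj)).1
      exact hTnc inferInstance
    · exact hTnc (isCyclic_of_prime_card (p := 2) (by simpa using hj))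
  subst hj2
  have hV : IsKleinFour ↥(T : Subgroup ↥N) := by
    refine ⟨by rw [hj]; norm_num, Nat.dvd_antisymm (Monoid.exponent_dvd_of_forall_pow_eq_one fun x => by
      rw [pow_two]; exact hTsq x) ?_⟩
    by_contra hne
    have h1 : Monoid.exponent ↥(T : Subgroup ↥N) ∣ 2 := Monoid.exponent_dvd_of_forall_pow_eq_one fun x => by
      rw [pow_two]; exact hTsq x
    rcases (Nat.dvd_prime Nat.prime_two).1 h1 with e | e
    · haveI : Subsingleton ↥(T : Subgroup ↥N) := Monoid.exp_eq_one_iff.1 e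
      exact hTnc inferInstance
    · exact hne (dvd_of_eq e.symm)
  obtain ⟨F, iF, iFt, ⟨hq, h5⟩, ⟨e⟩⟩ := CfsgLib.AbelianSolvCent.four_case hNns T hV
  have hodd : Odd (Fintype.card F) := Nat.odd_iff.2 (by omega)
  obtain ⟨P⟩ : Nonempty (Sylow 2 (Matrix.ProjectiveSpecialLinearGroup (Fin 2) F)) := inferInstance
  have hPab : IsMulCommutative ↥(P : Subgroup (Matrix.ProjectiveSpecialLinearGroup (Fin 2) F)) := by
    have hinj : Function.Injective e.symm.toMonoidHom := e.symm.injective
    obtain ⟨R, hR⟩ := (P.2.map e.symm.toMonoidHom).exists_le_sylow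
    exact ⟨⟨fun x y => Subtype.ext (hinj (by
      rw [Subgroup.coe_mul, Subgroup.coe_mul, map_mul, map_mul]
      exact congrArg Subtype.val ((hNA R).is_comm.comm ⟨_, hR (mem_map_of_mem _ x.2)⟩ ⟨_, hR (mem_map_of_mem _ y.2)⟩)))⟩⟩
  -- `res X` maps isomorphically onto `N`
  have hN2 : ⁅N, N⁆ = N := by
    rw [← map_subtype_commutator]
    have : commutator ↥N = ⊤ := ((inferInstance : (commutator ↥N).Normal).eq_bot_or_eq_top).resolve_left
      fun e' => hNns (Group.isSolvable_of_comm fun x y => by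
        have := commutator_mem_commutator (mem_top x) (mem_top y)
        rw [← _root_.commutator_def, e', mem_bot] at this
        exact commutatorElement_eq_one_iff_mul_comm.1 this)
    rw [this, ← MonoidHom.range_eq_map, range_subtype]
  have h4N : 4 ∣ Nat.card ↥N := (dvd_of_eq (by norm_num)).trans (hj ▸ Subgroup.card_subgroup_dvd_card _)
  have hNi : Odd N.index := by
    obtain ⟨R⟩ := (inferInstance : Nonempty (Sylow 2 Q))
    rw [← Nat.not_even_iff_odd, even_iff_two_dvd]
    intro h2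
    have h8 : 2 ^ 3 ∣ Nat.card Q := by
      rw [← N.index_mul_card]
      exact dvd_trans (dvd_of_eq (by norm_num)) (mul_dvd_mul h2 h4N)
    have h5 := R.pow_dvd_card_of_pow_dvd_card h8
    rw [h4Q R] at h5
    norm_num at h5
  have hresQ : res Q = N := by
    refine le_antisymm ?_ (le_res hN2)
    have hs : Group.IsSolvable (Q ⧸ N) := Cfsg.Agent.S0205.result (by rw [← index_eq_card]; exact hNi)
    have h1 := (map_res (G := Q) (QuotientGroup.mk'_surjective N)).trans (res_eq_bot hs)
    rw [Subgroup.map_eq_bot_iff, QuotientGroup.ker_mk'] at h1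
    exact h1
  have hmap : (res X).map π = N := (map_res hπs).trans hresQ
  set r : ↥(res X) →* ↥N := (π.comp (res X).subtype).codRestrict N (fun x => hmap ▸ mem_map_of_mem π x.2)
  have hker : ∀ x ∈ res X, x ∈ zpowers b → x = 1 := by
    intro x hx hxb
    obtain ⟨k, hk⟩ := mem_zpowers_iff.1 hxb
    rw [← zpow_mod_orderOf, h.orderOf_b] at hk
    rcases Int.emod_two_eq_zero_or_one k with e' | e'
    · rw [show k % ((2 : ℕ) : ℤ) = 0 from e', zpow_zero] at hk
      exact hk.symm
    · rw [show k % ((2 : ℕ) : ℤ) = 1 from e', zpow_one] at hk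
      exact absurd (hk ▸ hx) h.b_not_mem_res
  have hr : Function.Bijective r := by
    refine ⟨(injective_iff_map_eq_one r).2 fun x hx => ?_, fun y => ?_⟩
    · have h1 : π (x : X) = 1 := congrArg Subtype.val hx
      exact Subtype.ext (hker x x.2 ((QuotientGroup.eq_one_iff _).1 h1))
    · obtain ⟨x, hx, hxy⟩ := hmap.ge y.2
      exact ⟨⟨x, hx⟩, Subtype.ext hxy⟩
  let er := MulEquiv.ofBijective r hr
  refine ⟨⟨(CfsgLib.AbelianPSL.pslData hodd P hPab).of_equiv (er.trans e), F, iF, iFt, ⟨hq, h5⟩, ⟨er.trans e⟩⟩, fun x hx => ?_, ?_,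
    (Nat.card_congr er.toEquiv) ▸ h4N⟩
  · have hc : π x ∈ centralizer (N : Set Q) := mem_centralizer_iff.2 fun y hy => by
      obtain ⟨z, hz, rfl⟩ := hmap.ge hy
      rw [← map_mul, ← map_mul, hx z hz]
    rw [hcen, mem_bot] at hc
    exact (QuotientGroup.eq_one_iff _).1 hc
  · have h1 : res X ⊔ zpowers b = N.comap π := by
      rw [← hmap, comap_map_eq, QuotientGroup.ker_mk']
    rw [h1, index_comap_of_surjective _ hπs]
    exact hNi

theorem structure_res : PSLData ↥(res X) ∧
    (∀ x : X, (∀ y ∈ res X, x * y = y * x) → x ∈ zpowers b) ∧ Odd (res X ⊔ zpowers b).index ∧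
    4 ∣ Nat.card ↥(res X) :=
  ⟨h.structure_res'.1.1, h.structure_res'.2⟩

/-- `res X ≅ PSL(2, q)`, `q ≥ 5`. -/
theorem res_equiv : ∃ (F : Type) (_ : Field F) (_ : Fintype F),
    ((Fintype.card F % 8 = 3 ∨ Fintype.card F % 8 = 5) ∧ 5 ≤ Fintype.card F) ∧
    Nonempty (↥(res X) ≃* Matrix.ProjectiveSpecialLinearGroup (Fin 2) F) :=
  h.structure_res'.1.2

/-- An element of odd order inverted by an element of `S` lies in `res X`. -/
theorem mem_res_of_inverted {t y : X} (ht : t ∈ (S : Subgroup X)) (hy : Odd (orderOf y))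
    (hinv : t * y * t⁻¹ = y⁻¹) : y ∈ res X := by
  haveI : Fact (Nat.Prime 2) := ⟨Nat.prime_two⟩
  haveI := h.zpowers_normal
  obtain ⟨-, -, hi, -⟩ := h.structure_res
  set M := res X ⊔ zpowers b with hM
  haveI hMn : M.Normal := by
    rw [hM]; exact inferInstance
  -- a 2-element lies in `M`
  set μ := QuotientGroup.mk' M
  have hodd : Odd (Nat.card (X ⧸ M)) := by rw [← index_eq_card]; exact hi
  have ht2 : μ t = 1 := by
    refine CfsgLib.ZStar.eq_one_of_odd_of_sq ?_ (by rw [pow_two, ← map_mul, h.sq t ht, map_one])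
    exact hodd.of_dvd_nat (orderOf_dvd_natCard _)
  have hy2 : μ y ^ 2 = 1 := by
    have := congrArg μ hinv
    rw [map_mul, map_mul, map_inv, ht2, map_inv, one_mul, inv_one, mul_one] at this
    rw [pow_two]; nth_rw 2 [this]; exact mul_inv_cancel _
  have hyM : y ∈ M :=
    (QuotientGroup.eq_one_iff y).1 (CfsgLib.ZStar.eq_one_of_odd_of_sq (hy.of_dvd_nat (orderOf_map_dvd μ y)) hy2)
  rw [hM, mem_sup_of_normal_right] at hyM
  obtain ⟨n, hn, z, hz, rfl⟩ := hyM
  have hz2 : z * z = 1 := by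
    obtain ⟨k, rfl⟩ := mem_zpowers_iff.1 hz
    rw [← (Commute.refl b).mul_zpow, h.sq b h.mem, one_zpow]
  have hc : Commute n z := (mem_center_iff.1 ((zpowers_le.2 h.central) hz) n)
  obtain ⟨j, hj⟩ := hy
  have h1 : (n * z) ^ orderOf (n * z) = 1 := pow_orderOf_eq_one _
  rw [hj, hc.mul_pow, pow_succ z, pow_mul, show z ^ 2 = 1 by rw [pow_two, hz2], one_pow, one_mul] at h1
  have h2 : z ∈ res X := by
    rw [eq_inv_of_mul_eq_one_right h1]
    exact inv_mem (pow_mem hn _)
  exact mul_mem hn h2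

/-- A `p`-subgroup generated by elements inverted by an involution `t ≠ b` of `S` and normalised by `C(t)` is
trivial. -/
theorem inverted_eq_bot {t : X} (ht : t ∈ (S : Subgroup X)) (ht1 : t ≠ 1) {p : ℕ} [Fact p.Prime]
    (hp : p ≠ 2) {Y : Subgroup X} (hY : IsPGroup p Y) (T : Set X) (hT : closure T = Y)
    (hinv : ∀ y ∈ T, t * y * t⁻¹ = y⁻¹) (hn : centralizer ({t} : Set X) ≤ normalizer (Y : Set X)) :
    Y = ⊥ := by
  obtain ⟨hD, hcen, hi, h4⟩ := h.structure_res
  haveI : Fact (Nat.Prime 2) := ⟨Nat.prime_two⟩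
  haveI := h.zpowers_normal
  have hbc : ∀ y : X, b * y = y * b := fun y => (mem_center_iff.1 h.central y).symm
  have hodd : ∀ x ∈ Y, Odd (orderOf x) := fun x hx => by
    obtain ⟨k, hk⟩ := IsPGroup.iff_orderOf.1 hY ⟨x, hx⟩
    rw [Subgroup.orderOf_mk] at hk
    rw [hk]; exact ((Fact.out : p.Prime).odd_of_ne_two hp).pow
  have hTy : ∀ y ∈ T, y ∈ Y := fun y hy => hT ▸ subset_closure hy
  have hYR : Y ≤ res X := hT ▸ (closure_le _).2 fun y hy =>
    h.mem_res_of_inverted ht (hodd y (hTy y hy)) (hinv y hy)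
  -- the component of `t` in `res X`
  have htM : t ∈ res X ⊔ zpowers b := by
    haveI : (res X ⊔ zpowers b).Normal := inferInstance
    refine (QuotientGroup.eq_one_iff t).1 (CfsgLib.ZStar.eq_one_of_odd_of_sq ?_ ?_)
    · exact (show Odd (Nat.card (X ⧸ (res X ⊔ zpowers b))) by rw [← index_eq_card]; exact hi).of_dvd_nat
        (orderOf_dvd_natCard _)
    · rw [pow_two, ← QuotientGroup.mk_mul, h.sq t ht, QuotientGroup.mk_one]
  rw [mem_sup_of_normal_right] at htM
  obtain ⟨v, hv, z, hz, hvz⟩ := htM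
  have hzc : ∀ y : X, z * y = y * z := by
    obtain ⟨k, rfl⟩ := mem_zpowers_iff.1 hz
    exact fun y => (Commute.zpow_left (hbc y : Commute b y) k).eq
  have hz2 : z * z = 1 := by
    obtain ⟨k, rfl⟩ := mem_zpowers_iff.1 hz
    rw [← (Commute.refl b).mul_zpow, h.sq b h.mem, one_zpow]
  have hv2 : v * v = 1 := by
    have h1 := h.sq t ht
    rw [← hvz, mul_assoc, ← mul_assoc z v z, hzc v, mul_assoc, hz2, mul_one] at h1
    exact h1
  have hconj : ∀ y : X, t * y * t⁻¹ = v * y * v⁻¹ := fun y => by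
    rw [← hvz, mul_inv_rev, mul_assoc v z y, hzc y]; group
  by_cases hv1 : v = 1
  · refine hT ▸ le_bot_iff.1 ((closure_le _).2 fun y hy => mem_bot.2 ?_)
    have h1 := hinv y hy
    rw [hconj, hv1, one_mul, inv_one, mul_one] at h1
    exact CfsgLib.ZStar.eq_one_of_odd_of_sq (hodd y (hTy y hy)) (by rw [pow_two]; nth_rw 2 [h1]; exact mul_inv_cancel y)
  have hord : orderOf (⟨v, hv⟩ : res X) = 2 := by
    rw [Subgroup.orderOf_mk]; exact orderOf_eq_two_of hv1 hv2
  have hTs : T ⊆ (res X : Set X) := fun y hy => hYR (hTy y hy)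
  have hYp : IsPGroup p (Y.subgroupOf (res X)) := hY.of_equiv (subgroupOfEquivOfLe hYR).symm
  have h0 := psl_eq_bot hD hord hp hYp ((res X).subtype ⁻¹' T) ?_ (fun y hy => Subtype.ext ?_) ?_
  · exact le_bot_iff.1 fun y hy => by
      have h1 : (⟨y, hYR hy⟩ : res X) ∈ Y.subgroupOf (res X) := hy
      rw [h0, mem_bot] at h1
      exact mem_bot.2 (congrArg (fun x : ↥(res X) => (x : X)) h1)
  · refine map_injective (res X).subtype_injective ?_
    rw [MonoidHom.map_closure, Set.image_preimage_eq_of_subset (fun y hy => ⟨⟨y, hTs hy⟩, rfl⟩), hT,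
      subgroupOf_map_subtype, inf_of_le_left hYR]
  · show v * (y : X) * v⁻¹ = (y : X)⁻¹
    rw [← hconj]; exact hinv _ hy
  · intro c hc
    have hcv : (c : X) * v = v * c := congrArg Subtype.val (mem_centralizer_singleton_iff.1 hc)
    have hct : (c : X) ∈ centralizer ({t} : Set X) := by
      rw [mem_centralizer_singleton_iff, ← hvz, ← mul_assoc, hcv, mul_assoc, ← hzc, ← mul_assoc]
    refine mem_normalizer_iff.2 fun y => ?_
    exact mem_normalizer_iff.1 (hn hct) (y : X)

end Local

end Local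

end CfsgLib.Walter.Three
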