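import Cfsg.Agent.Lib.Recog.Walter.Three.Maximal
import Cfsg.Agent.Lib.Recog.Walter.Three.Quotient
import Cfsg.Agent.Lib.TwoFusion.AbelianPSL.Main
import Cfsg.Agent.Lib.TwoGroups.Bender
import Cfsg.Agent.Lib.Signalizer.Basic

/-!
Owner: helper29. Lemma Y of the Walter blueprint.

* `centralizes_of_inverted`: an odd element inverted by an involution `a` and centralizing `C_R(a)` centralizes
  the coprime odd group `R`.
* `le_pCore_of_inverted`: in odd `K`, a `p`-group generated by elements inverted by `a` and normalised by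
  `C_K(a)` lies in `O_p(K)`.
* `Setting.inverted_le_part`: if `C(b) ≤ H` then such a subgroup of `H` lies in `O_p(H)`.
* `Setting.lemmaY`: `[O_p(M) ∩ H, a] ≤ O_p(H)`.
-/

set_option autoImplicit false
set_option linter.style.haveILetI false
set_option linter.unusedSectionVars false

namespace CfsgLib.Walter.Three

open Subgroup
open CfsgLib.TwoGroups.Bender (part)
open scoped commutatorElement

universe u

section Coprime

variable {X : Type u} [Group X] [Finite X]

theorem centralizes_of_inverted {s : ℕ} [Fact s.Prime] (hs : s ≠ 2) {R : Subgroup X} (hR : IsPGroup s R)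
    {a y : X} (ha : orderOf a = 2) (haR : a ∈ normalizer (R : Set X)) (hyR : y ∈ normalizer (R : Set X))
    (hy : Odd (orderOf y)) (hco : Nat.Coprime (orderOf y) s) (hinv : a * y * a⁻¹ = y⁻¹)
    (hfix : ∀ x ∈ R, x * a = a * x → x * y = y * x) : ∀ x ∈ R, x * y = y * x := by
  haveI : Fact (Nat.Prime 2) := ⟨Nat.prime_two⟩
  set K := R ⊓ centralizer ({y} : Set X) with hK
  suffices hRK : R ≤ K from fun x hx => mem_centralizer_singleton_iff.1 (hRK hx).2
  by_contra hnot
  have hKp : IsPGroup s K := hR.to_le inf_le_left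
  have haK : a ∈ normalizer (K : Set X) := by
    refine mem_normalizer_iff.2 fun x => ?_
    have key : ∀ x ∈ K, a * x * a⁻¹ ∈ K := fun x hx => by
      refine ⟨(mem_normalizer_iff.1 haR x).1 hx.1, mem_centralizer_singleton_iff.2 ?_⟩
      have hc : Commute x y := mem_centralizer_singleton_iff.1 hx.2
      calc a * x * a⁻¹ * y = a * (x * y⁻¹) * a⁻¹ := by
            conv_lhs => rw [show y = (a * y * a⁻¹)⁻¹ by rw [hinv, inv_inv]]
            group
        _ = a * (y⁻¹ * x) * a⁻¹ := by rw [hc.inv_right.eq]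
        _ = (a * y * a⁻¹)⁻¹ * (a * x * a⁻¹) := by group
        _ = y * (a * x * a⁻¹) := by rw [hinv, inv_inv]
    refine ⟨key x, fun hx => ?_⟩
    have h2 := key _ hx
    rwa [show a * (a * x * a⁻¹) * a⁻¹ = (a * a) * x * (a * a)⁻¹ by group,
      CfsgLib.Signalizer.involution_sq ha, one_mul, inv_one, mul_one] at h2
  have hyK : y ∈ normalizer (K : Set X) := by
    refine mem_normalizer_iff.2 fun x => ?_
    constructor
    · intro hx
      rwa [← mem_centralizer_singleton_iff.1 hx.2, mul_inv_cancel_right]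
    · intro hx
      have h1 := mem_centralizer_singleton_iff.1 hx.2
      have h2 : x * y = y * x := by
        calc x * y = y⁻¹ * (y * x * y⁻¹ * y) * y := by group
          _ = y⁻¹ * (y * (y * x * y⁻¹)) * y := by rw [h1]
          _ = y * x := by group
      rw [← h2, mul_inv_cancel_right] at hx
      exact hx
  -- `K` grows in `R`
  obtain ⟨x₀, hx₀R, hx₀n, hx₀K⟩ : ∃ x₀ ∈ R, x₀ ∈ normalizer (K : Set X) ∧ x₀ ∉ K := by
    have hlt : K.subgroupOf R < ⊤ := lt_top_iff_ne_top.2 fun e => hnot (subgroupOf_eq_top.1 e)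
    haveI := hR.isNilpotent
    obtain ⟨x₀, hx₀, hx₀K⟩ := SetLike.exists_of_lt
      (normalizerCondition_of_isNilpotent (G := R) (K.subgroupOf R) hlt)
    refine ⟨x₀, x₀.2, mem_normalizer_iff.2 fun z => ?_, hx₀K⟩
    refine ⟨fun hz => (mem_normalizer_iff.1 hx₀ ⟨z, hz.1⟩).1 hz, fun hz => ?_⟩
    have hzR : z ∈ R := by
      have := mul_mem (mul_mem (inv_mem x₀.2) hz.1) x₀.2
      simpa [mul_assoc] using this
    exact (mem_normalizer_iff.1 hx₀ ⟨z, hzR⟩).2 hz
  set N := normalizer (K : Set X) with hN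
  set K' := K.subgroupOf N with hK'
  haveI : K'.Normal := normal_in_normalizer
  set π := QuotientGroup.mk' K' with hπ
  have hKco : (Nat.card K').Coprime 2 := by
    rw [Nat.card_congr (subgroupOfEquivOfLe le_normalizer).toEquiv]
    obtain ⟨k, hk⟩ := hKp.exists_card_eq
    rw [hk]
    exact Nat.Coprime.pow_left k ((Nat.coprime_primes Fact.out Nat.prime_two).2 hs)
  set W : Subgroup (↥N ⧸ K') := (R.subgroupOf N).map π with hW
  have haN2 : orderOf (π ⟨a, haK⟩) = 2 := by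
    refine CfsgLib.Signalizer.orderOf_eq_two_of (fun e => ?_) (by
      rw [← map_mul, ← map_one π]; exact congrArg π (Subtype.ext (CfsgLib.Signalizer.involution_sq ha)))
    have haK' : (⟨a, haK⟩ : N) ∈ K' := (QuotientGroup.eq_one_iff _).1 e
    obtain ⟨k, hk⟩ := IsPGroup.iff_orderOf.1 hKp ⟨a, mem_subgroupOf.1 haK'⟩
    rw [Subgroup.orderOf_mk, ha] at hk
    exact hs ((Nat.prime_dvd_prime_iff_eq Nat.prime_two (Fact.out : s.Prime)).1
      (Nat.prime_two.dvd_of_dvd_pow (by rw [← hk]))).symm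
  have haW : π ⟨a, haK⟩ ∈ normalizer (W : Set (↥N ⧸ K')) := by
    refine le_normalizer_map π ⟨⟨a, haK⟩, mem_normalizer_iff.2 fun z => ?_, rfl⟩
    exact mem_normalizer_iff.1 haR (z : X)
  have hfixW : ∀ w ∈ W, w * π ⟨a, haK⟩ = π ⟨a, haK⟩ * w → w = 1 := by
    rintro _ ⟨z, hz, rfl⟩ hzc
    have hP : IsPGroup 2 (zpowers (⟨a, haK⟩ : N)) :=
      CfsgLib.Signalizer.isPGroup_zpowers_involution (by rw [Subgroup.orderOf_mk]; exact ha)
    have h1 : π z ∈ centralizer (((zpowers (⟨a, haK⟩ : N)).map π : Subgroup (↥N ⧸ K')) : Set (↥N ⧸ K')) := by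
      rw [MonoidHom.map_zpowers, zpowers_eq_closure, centralizer_closure]
      exact mem_centralizer_singleton_iff.2 hzc
    rw [← CfsgLib.PLocal.map_centralizer_eq K' hKco hP] at h1
    obtain ⟨c, hc, hcz⟩ := h1
    obtain ⟨k, hk, hck⟩ := (QuotientGroup.mk'_eq_mk' _).1 hcz
    have hcR : (c : X) ∈ R := by
      have e : (c : X) = (z : X) * (k : X)⁻¹ := by
        rw [← hck, Subgroup.coe_mul, mul_inv_cancel_right]
      rw [e]
      exact mul_mem hz (inv_mem (mem_subgroupOf.1 hk).1)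
    have hca : (c : X) * a = a * c := (congrArg Subtype.val (mem_centralizer_iff.1 hc _ (mem_zpowers _))).symm
    rw [hπ, QuotientGroup.mk'_apply, QuotientGroup.eq_one_iff, ← hck]
    exact mul_mem (show (c : X) ∈ K from ⟨hcR, mem_centralizer_singleton_iff.2 (hfix _ hcR hca)⟩) hk
  have hinvW : ∀ w ∈ W, π ⟨a, haK⟩ * w * (π ⟨a, haK⟩)⁻¹ = w⁻¹ := fun w hw =>
    CfsgLib.AbelianPSL.inverted_of_fixed_eq_one haN2 haW hfixW hw
  set w := π ⟨x₀, hx₀n⟩ with hw
  set A := π ⟨a, haK⟩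
  set Y := π ⟨y, hyK⟩ with hY
  have hwW : w ∈ W := ⟨⟨x₀, hx₀n⟩, hx₀R, rfl⟩
  have hAY : A * Y * A⁻¹ = Y⁻¹ := by
    rw [← map_inv, ← map_mul, ← map_mul, hY, ← map_inv]
    exact congrArg π (Subtype.ext hinv)
  have hYw : ∀ v ∈ W, Y * v * Y⁻¹ ∈ W := fun v hv => (mem_normalizer_iff.1
    (le_normalizer_map π ⟨⟨y, hyK⟩, mem_normalizer_iff.2 fun z => mem_normalizer_iff.1 hyR (z : X), rfl⟩) v).1 hv
  -- `y²` centralises `N_R(K) / K`
  have h2 : Y * Y * w * (Y * Y)⁻¹ = w := by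
    have e1 := hinvW _ (hYw w hwW)
    have e2 : A * (Y * w * Y⁻¹) * A⁻¹ = (A * Y * A⁻¹) * (A * w * A⁻¹) * (A * Y * A⁻¹)⁻¹ := by group
    rw [e2, hAY, hinvW w hwW] at e1
    have e3 : Y⁻¹ * w * Y = Y * w * Y⁻¹ := inv_injective (by rw [← e1]; group)
    calc Y * Y * w * (Y * Y)⁻¹ = Y * (Y * w * Y⁻¹) * Y⁻¹ := by group
      _ = Y * (Y⁻¹ * w * Y) * Y⁻¹ := by rw [e3]
      _ = w := by group
  have h3 : Y * w * Y⁻¹ = w := by
    have hc : Commute (Y * Y) w := mul_inv_eq_iff_eq_mul.1 h2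
    obtain ⟨j, hj⟩ := hy.of_dvd_nat ((orderOf_map_dvd π ⟨y, hyK⟩).trans (dvd_of_eq (Subgroup.orderOf_mk y hyK)))
    have hpow : (Y * Y) ^ (j + 1) = Y := by
      rw [← pow_two, ← pow_mul, show 2 * (j + 1) = orderOf Y + 1 by rw [hj]; ring, pow_succ, pow_orderOf_eq_one, one_mul]
    exact mul_inv_eq_iff_eq_mul.2 (hpow ▸ (hc.pow_left (j + 1))).eq
  rw [hY, hw, ← map_inv, ← map_mul, ← map_mul] at h3
  obtain ⟨k, hk, hk'⟩ := (QuotientGroup.mk'_eq_mk' _).1 h3
  have he : y * x₀ * y⁻¹ * (k : X) = x₀ := congrArg Subtype.val hk'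
  have hky : Commute y (k : X) := (mem_centralizer_singleton_iff.1 (mem_subgroupOf.1 hk).2).symm
  have hn : ∀ n : ℕ, y ^ n * x₀ * (y ^ n)⁻¹ = x₀ * ((k : X) ^ n)⁻¹ := by
    intro n
    induction n with
    | zero => simp
    | succ n ih =>
      calc y ^ (n + 1) * x₀ * (y ^ (n + 1))⁻¹ = y * (y ^ n * x₀ * (y ^ n)⁻¹) * y⁻¹ := by rw [pow_succ']; group
        _ = y * x₀ * ((k : X) ^ n)⁻¹ * y⁻¹ := by rw [ih]; group
        _ = y * x₀ * y⁻¹ * ((k : X) ^ n)⁻¹ := by
          rw [mul_assoc (y * x₀), ← ((hky.pow_right n).inv_right.inv_left).eq, ← mul_assoc]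
        _ = x₀ * (k : X)⁻¹ * ((k : X) ^ n)⁻¹ := by rw [eq_mul_inv_of_mul_eq he]
        _ = _ := by rw [pow_succ, mul_inv_rev, mul_assoc]
  have h4 := hn (orderOf y)
  rw [pow_orderOf_eq_one, one_mul, inv_one, mul_one] at h4
  have h5 : (k : X) ^ orderOf y = 1 := inv_eq_one.1 (mul_left_cancel ((mul_one x₀).trans h4).symm)
  obtain ⟨i, hi⟩ := IsPGroup.iff_orderOf.1 hKp ⟨(k : X), mem_subgroupOf.1 hk⟩
  rw [Subgroup.orderOf_mk] at hi
  have h6 : (k : X) = 1 := orderOf_eq_one_iff.1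
    (Nat.eq_one_of_dvd_coprimes (hco.pow_right i) (orderOf_dvd_of_pow_eq_one h5) (hi ▸ dvd_rfl))
  rw [h6, mul_one] at he
  exact hx₀K ⟨hx₀R, mem_centralizer_singleton_iff.2 (mul_inv_eq_iff_eq_mul.1 he).symm⟩

/-- In an odd normal subgroup `K`: a `p`-group generated by elements inverted by `a` and normalised by
`C_K(a)` lies in `O_p`. -/
theorem le_pCore_of_inverted {p : ℕ} [Fact p.Prime] (K : Subgroup X) [K.Normal] (hK : Odd (Nat.card K))
    {a : X} (ha : orderOf a = 2) {Y : Subgroup X} (hY : IsPGroup p Y) (T : Set X) (hT : closure T = Y)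
    (hYK : Y ≤ K) (hinv : ∀ y ∈ T, a * y * a⁻¹ = y⁻¹)
    (hn : K ⊓ centralizer ({a} : Set X) ≤ normalizer (Y : Set X)) : Y ≤ Cfsg.pCore p X := by
  haveI : Fact (Nat.Prime 2) := ⟨Nat.prime_two⟩
  rcases eq_or_ne p 2 with rfl | hp
  · refine fun y hy => ?_
    obtain ⟨k, hk⟩ := IsPGroup.iff_orderOf.1 hY ⟨y, hy⟩
    rw [Subgroup.orderOf_mk] at hk
    have h1 : Odd (orderOf y) := hK.of_dvd_nat (Subgroup.orderOf_dvd_natCard _ (hYK hy))
    rw [hk] at h1
    rcases k with _ | k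
    · rw [pow_zero, orderOf_eq_one_iff] at hk
      exact hk ▸ one_mem _
    · exact absurd h1 (Nat.not_odd_iff_even.2 ((Nat.even_pow).2 ⟨even_two, by omega⟩))
  haveI := CfsgLib.Core.normal_pCore p X
  set P := Cfsg.pCore p X
  set π := QuotientGroup.mk' P with hπ
  have hPco : (Nat.card P).Coprime 2 := by
    obtain ⟨k, hk⟩ := (CfsgLib.Core.isPGroup_pCore p X).exists_card_eq
    rw [hk]
    exact Nat.Coprime.pow_left k ((Nat.coprime_primes Fact.out Nat.prime_two).2 hp)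
  haveI hKn : (K.map π).Normal := (inferInstance : K.Normal).map π (QuotientGroup.mk'_surjective P)
  set K₁ := K.map π with hK₁
  have hK1 : Odd (Nat.card K₁) := hK.of_dvd_nat (Subgroup.card_map_dvd _ _)
  haveI : Group.IsSolvable K₁ := Cfsg.Agent.S0205.result hK1
  have hcoreK : Cfsg.pCore p K₁ = ⊥ := by
    have h1 := CfsgLib.Core.map_subtype_pCore_le (p := p) K₁
    rw [CfsgLib.Core.pCore_quotient_pCore, le_bot_iff, map_eq_bot_iff_of_injective _ K₁.subtype_injective] at h1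
    exact h1
  have ha1 : orderOf (π a) = 2 := by
    refine CfsgLib.Signalizer.orderOf_eq_two_of (fun e => ?_)
      (by rw [← map_mul, CfsgLib.Signalizer.involution_sq ha, map_one])
    have h2 : orderOf a ∣ Nat.card P := P.orderOf_dvd_natCard ((QuotientGroup.eq_one_iff a).1 e)
    rw [ha] at h2
    exact (Nat.prime_two.coprime_iff_not_dvd.1 hPco.symm) h2
  have hP2 : IsPGroup 2 (zpowers a) := CfsgLib.Signalizer.isPGroup_zpowers_involution ha
  -- fixed points lift
  have hlift : ∀ c ∈ K₁, c * π a = π a * c → ∃ c₀ ∈ K ⊔ P, c₀ * a = a * c₀ ∧ π c₀ = c := by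
    intro c hc hca
    have h1 : c ∈ centralizer (((zpowers a).map π : Subgroup (X ⧸ P)) : Set (X ⧸ P)) := by
      rw [MonoidHom.map_zpowers, zpowers_eq_closure, centralizer_closure]
      exact mem_centralizer_singleton_iff.2 hca
    rw [← CfsgLib.PLocal.map_centralizer_eq P hPco hP2] at h1
    obtain ⟨c₀, hc₀, rfl⟩ := h1
    refine ⟨c₀, ?_, (mem_centralizer_iff.1 hc₀ a (mem_zpowers a)).symm, rfl⟩
    have h2 : c₀ ∈ K₁.comap π := hc
    rwa [hK₁, comap_map_eq, QuotientGroup.ker_mk'] at h2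
  have hYodd : ∀ y ∈ Y, Odd (orderOf y) := fun y hy => hK.of_dvd_nat (Subgroup.orderOf_dvd_natCard _ (hYK hy))
  have hnP : ∀ c₀ ∈ K ⊔ P, c₀ * a = a * c₀ → π c₀ ∈ normalizer (Y.map π : Set (X ⧸ P)) := by
    intro c₀ hc₀ hca
    obtain ⟨k, hk, q, hq, rfl⟩ := mem_sup_of_normal_right.1 hc₀
    have e1 : π (k * q) = π k := by rw [map_mul, show π q = 1 from (QuotientGroup.eq_one_iff q).2 hq, mul_one]
    have hka : π k * π a = π a * π k := by rw [← e1, ← map_mul, ← map_mul, hca]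
    -- a fixed point of `a` in `K` over `k`
    haveI : ((P ⊓ K).subgroupOf K).Normal := by
      rw [inf_subgroupOf_right]; infer_instance
    have hc' : ∃ k' ∈ K, k' * a = a * k' ∧ π k' = π k := by
      set d := k⁻¹ * (a * k * a⁻¹) with hd
      have hdP : d ∈ P := by
        rw [← QuotientGroup.eq_one_iff (N := P)]
        show π d = 1
        rw [hd, map_mul, map_inv, map_mul, map_mul, map_inv, ← hka]
        group
      have hdK : d ∈ K := mul_mem (inv_mem hk) ((inferInstance : K.Normal).conj_mem k hk a)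
      have haa : a * a = 1 := CfsgLib.Signalizer.involution_sq ha
      have hda : a * d * a⁻¹ = d⁻¹ := by
        rw [hd]
        calc a * (k⁻¹ * (a * k * a⁻¹)) * a⁻¹ = a * k⁻¹ * a * k * (a * a)⁻¹ := by group
          _ = a * k⁻¹ * a * k := by rw [haa]; group
          _ = a * k⁻¹ * a⁻¹ * k := by rw [CfsgLib.Signalizer.involution_inv ha]
          _ = (k⁻¹ * (a * k * a⁻¹))⁻¹ := by group
      obtain ⟨j, hj⟩ : Odd (orderOf d) := hK.of_dvd_nat (Subgroup.orderOf_dvd_natCard _ hdK)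
      refine ⟨k * d ^ (j + 1), mul_mem hk (pow_mem hdK _), ?_, ?_⟩
      · have h1 : a * (k * d ^ (j + 1)) * a⁻¹ = k * d ^ (j + 1) := by
          have h2 : a * d ^ (j + 1) * a⁻¹ = (d ^ (j + 1))⁻¹ := by
            rw [← conj_pow, hda, inv_pow]
          have h3 : (d ^ (j + 1))⁻¹ = d ^ j := by
            refine inv_eq_of_mul_eq_one_right ?_
            rw [← pow_add, show j + 1 + j = orderOf d by rw [hj]; ring, pow_orderOf_eq_one]
          calc a * (k * d ^ (j + 1)) * a⁻¹ = (a * k * a⁻¹) * (a * d ^ (j + 1) * a⁻¹) := by group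
            _ = k * d * d ^ j := by rw [h2, h3, hd]; group
            _ = k * d ^ (j + 1) := by rw [mul_assoc, ← pow_succ']
        exact (mul_inv_eq_iff_eq_mul.1 h1).symm
      · rw [map_mul, show π (d ^ (j + 1)) = 1 from (QuotientGroup.eq_one_iff _).2 (pow_mem hdP _), mul_one]
    obtain ⟨k', hk', hk'a, hk'e⟩ := hc'
    rw [e1, ← hk'e]
    exact le_normalizer_map π ⟨k', hn ⟨hk', mem_centralizer_singleton_iff.2 hk'a⟩, rfl⟩
  have hYle : Y.map π ≤ K₁ := map_mono hYK
  have hcent : ∀ y ∈ T, π y = 1 := by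
    intro y hy
    have hyY : y ∈ Y := hT ▸ subset_closure hy
    obtain ⟨i, hi⟩ := IsPGroup.iff_orderOf.1 hY ⟨y, hyY⟩
    rw [Subgroup.orderOf_mk] at hi
    have hyK₁ : π y ∈ K₁ := hYle ⟨y, hyY, rfl⟩
    -- `π y` centralises the Fitting subgroup of `K₁`
    have hF : (⟨π y, hyK₁⟩ : K₁) ∈ centralizer (Cfsg.fittingSubgroup K₁ : Set K₁) := by
      rw [CfsgLib.Core.fittingSubgroup_eq_iSup_pCore]
      suffices hle : (⨆ s : Nat.Primes, Cfsg.pCore (s : ℕ) K₁) ≤ centralizer ({⟨π y, hyK₁⟩} : Set K₁) from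
        mem_centralizer_iff.2 fun f hf => mem_centralizer_singleton_iff.1 (hle hf)
      refine iSup_le fun s => ?_
      rcases eq_or_ne (s : ℕ) p with hsp | hsp
      · rw [hsp, hcoreK]; exact bot_le
      haveI : Fact (Nat.Prime (s : ℕ)) := ⟨s.2⟩
      set R := (Cfsg.pCore (s : ℕ) K₁).map K₁.subtype with hR
      have hRp : IsPGroup (s : ℕ) R := (CfsgLib.Core.isPGroup_pCore _ _).map _
      rcases eq_or_ne (s : ℕ) 2 with hs2 | hs2
      · intro f hf
        have h1 : Odd (orderOf f) := hK1.of_dvd_nat (orderOf_dvd_natCard f)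
        obtain ⟨m, hm⟩ := IsPGroup.iff_orderOf.1 (CfsgLib.Core.isPGroup_pCore (s : ℕ) K₁) ⟨f, hf⟩
        rw [Subgroup.orderOf_mk] at hm
        rw [hm, hs2] at h1
        rcases m with _ | m
        · rw [pow_zero, orderOf_eq_one_iff] at hm
          exact hm ▸ one_mem _
        · exact absurd h1 (Nat.not_odd_iff_even.2 ((Nat.even_pow).2 ⟨even_two, by omega⟩))
      have hRn : R.Normal := by
        exact ConjAct.normal_of_characteristic_of_normal
      intro f hf
      refine mem_centralizer_singleton_iff.2 (Subtype.ext ?_)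
      refine centralizes_of_inverted hs2 hRp ha1 (by rw [normalizer_eq_top]; trivial)
        (by rw [normalizer_eq_top]; trivial) ?_ ?_ ?_ ?_ _ ⟨f, hf, rfl⟩
      · exact (hYodd y hyY).of_dvd_nat (orderOf_map_dvd π y)
      · exact Nat.Coprime.coprime_dvd_left (orderOf_map_dvd π y)
          (hi ▸ Nat.Coprime.pow_left i ((Nat.coprime_primes Fact.out s.2).2 hsp.symm))
      · rw [← map_inv, ← map_mul, ← map_mul, hinv y hy, map_inv]
      · intro x hx hxa
        obtain ⟨x₀, hx₀, hx₀a, rfl⟩ := hlift x (map_subtype_le _ hx) hxa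
        have hn' := hnP x₀ hx₀ hx₀a
        -- the commutator lies in `R ∩ Y = 1`
        have h1 : π x₀ * π y * (π x₀)⁻¹ * (π y)⁻¹ ∈ Y.map π :=
          mul_mem ((mem_normalizer_iff.1 hn' (π y)).1 ⟨y, hyY, rfl⟩) (inv_mem ⟨y, hyY, rfl⟩)
        have h2 : π x₀ * π y * (π x₀)⁻¹ * (π y)⁻¹ ∈ R := by
          rw [show π x₀ * π y * (π x₀)⁻¹ * (π y)⁻¹ = π x₀ * (π y * (π x₀)⁻¹ * (π y)⁻¹) by group]
          exact mul_mem hx (hRn.conj_mem _ (inv_mem hx) _)
        have h3 := (IsPGroup.disjoint_of_ne p (s : ℕ) hsp.symm _ _ (hY.map π) hRp).le_bot ⟨h1, h2⟩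
        rw [mem_bot, mul_inv_eq_one, mul_inv_eq_iff_eq_mul] at h3
        exact h3
    have h4 := CfsgLib.Components.centralizer_fitting_le_of_isSolvable hF
    have h5 : (⟨π y, hyK₁⟩ : K₁) ∈ Cfsg.pCore p K₁ := by
      have h6 : π y ∈ part p K₁ := CfsgLib.TwoGroups.Bender.mem_part_of_mem ⟨_, h4, rfl⟩
        (k := ((Nat.dvd_prime_pow (Fact.out : p.Prime)).1 (hi ▸ orderOf_map_dvd π y)).choose)
        ((Nat.dvd_prime_pow (Fact.out : p.Prime)).1 (hi ▸ orderOf_map_dvd π y)).choose_spec.2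
      obtain ⟨z, hz, hze⟩ := h6
      rwa [show (⟨π y, hyK₁⟩ : K₁) = z from Subtype.ext hze.symm]
    rw [hcoreK, mem_bot] at h5
    exact congrArg Subtype.val h5
  rw [← hT, closure_le]
  exact fun y hy => (QuotientGroup.eq_one_iff y).1 (hcent y hy)

end Coprime

variable {G : Type u} [Group G] [Finite G] {S : Sylow 2 G}

namespace Setting

variable (h : Setting S)
include h

variable {a b : G} (ha : a ∈ (S : Subgroup G)) (ha1 : a ≠ 1) (hb : b ∈ (S : Subgroup G)) (hb1 : b ≠ 1)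
  {H : Subgroup G} (hH : centralizer ({b} : Set G) ≤ H) (hne : H ≠ ⊤)
include ha ha1 hb hb1 hH hne

omit ha ha1 in
/-- `H / O(H)` satisfies `Local`. -/
theorem local_quotient : Local ((S.subtype (h.sylow_le hb hb1 hH hne)).mapSurjective
    (f := QuotientGroup.mk' (Cfsg.oddCore ↥H)) (QuotientGroup.mk'_surjective _))
    (QuotientGroup.mk' (Cfsg.oddCore ↥H) ⟨b, h.sylow_le hb hb1 hH hne hb⟩) := by
  haveI : Fact (Nat.Prime 2) := ⟨Nat.prime_two⟩
  have hSH := h.sylow_le hb hb1 hH hne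
  set π := QuotientGroup.mk' (Cfsg.oddCore ↥H) with hπ
  have hOodd := CfsgLib.GW.DGroup.odd_oddCore ↥H
  set SH := S.subtype hSH with hSHdef
  set S' := SH.mapSurjective (f := π) (QuotientGroup.mk'_surjective _) with hS'
  have hinjS : ∀ x ∈ (SH : Subgroup H), π x = 1 → x = 1 := by
    intro x hx hx1
    refine CfsgLib.ZStar.eq_one_of_odd_of_sq
      (hOodd.of_dvd_nat (Subgroup.orderOf_dvd_natCard _ ((QuotientGroup.eq_one_iff x).1 hx1)))
      (by rw [pow_two]; exact Subtype.ext (h.sq _ hx))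
  set jb : H := ⟨b, hSH hb⟩
  refine ⟨CfsgLib.Core.pPrimeCore_quotient_pPrimeCore 2 ↥H, ?_, ?_, ⟨jb, hb, rfl⟩, ?_, ?_, ?_⟩
  · have h1 : Nat.card ↥(S' : Subgroup (↥H ⧸ Cfsg.oddCore ↥H)) = Nat.card ↥(SH : Subgroup H) := by
      rw [hS', Sylow.coe_mapSurjective]
      refine Nat.card_congr (Equiv.ofBijective (fun x : ↥(SH : Subgroup H) => (⟨π x, mem_map_of_mem π x.2⟩ :
        ↥((SH : Subgroup H).map π))) ⟨fun x y hxy => ?_, fun z => ?_⟩).symm
      · have := hinjS _ (mul_mem (inv_mem x.2) y.2) (by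
          rw [map_mul, map_inv, show π (x : H) = π y from congrArg Subtype.val hxy, inv_mul_cancel])
        exact Subtype.ext (inv_mul_eq_one.1 this)
      · obtain ⟨x, hx, hxz⟩ := z.2
        exact ⟨⟨x, hx⟩, Subtype.ext hxz⟩
    rw [h1, hSHdef, Sylow.coe_subtype, Nat.card_congr (subgroupOfEquivOfLe hSH).toEquiv, h.card]
  · rintro _ ⟨x, hx, rfl⟩
    rw [← map_mul, show x * x = 1 from Subtype.ext (h.sq _ hx), map_one]
  · exact fun e => hb1 (congrArg Subtype.val (hinjS jb hb e))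
  · refine mem_center_iff.2 fun g => ?_
    obtain ⟨m, rfl⟩ := QuotientGroup.mk'_surjective _ g
    obtain ⟨o, ho, hoe⟩ := h.mem_oddCore_of_mem hb hb1 hH hne m.2
    have e : jb * m = o * (m * jb) := Subtype.ext (by
      show b * (m : G) = (o : G) * ((m : G) * b)
      rw [show (o : G) = b * m * b⁻¹ * (m : G)⁻¹ from hoe]; group)
    rw [← map_mul, ← map_mul, e, map_mul π o, show π o = 1 from (QuotientGroup.eq_one_iff o).2 ho, one_mul]
  · refine CfsgLib.GW.DGroup.not_isSolvable_quotient _ (Cfsg.Agent.S0205.result hOodd) fun hs => ?_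
    haveI := hs
    exact h.centralizer_nonsolvable hb hb1
      (Group.isSolvable_of_isSolvable_injective (f := inclusion hH) (inclusion_injective _))

/-- A `p`-subgroup of `H ≥ C(b)` generated by elements inverted by `a` and normalised by `C_H(a)` lies in
`O_p(H)`. -/
theorem inverted_le_part {p : ℕ} [Fact p.Prime] (hp : p ≠ 2) {Y : Subgroup G} (hY : IsPGroup p Y) (hYH : Y ≤ H)
    (T : Set G) (hT : closure T = Y) (hinv : ∀ y ∈ T, a * y * a⁻¹ = y⁻¹)
    (hn : H ⊓ centralizer ({a} : Set G) ≤ normalizer (Y : Set G)) : Y ≤ part p H := by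
  haveI : Fact (Nat.Prime 2) := ⟨Nat.prime_two⟩
  have hSH := h.sylow_le hb hb1 hH hne
  set π := QuotientGroup.mk' (Cfsg.oddCore ↥H) with hπ
  have hOodd := CfsgLib.GW.DGroup.odd_oddCore ↥H
  set SH := S.subtype hSH with hSHdef
  set S' := SH.mapSurjective (f := π) (QuotientGroup.mk'_surjective _) with hS'
  have hinjS : ∀ x ∈ (SH : Subgroup H), π x = 1 → x = 1 := by
    intro x hx hx1
    refine CfsgLib.ZStar.eq_one_of_odd_of_sq
      (hOodd.of_dvd_nat (Subgroup.orderOf_dvd_natCard _ ((QuotientGroup.eq_one_iff x).1 hx1)))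
      (by rw [pow_two]; exact Subtype.ext (h.sq _ hx))
  set jb : H := ⟨b, hSH hb⟩
  set ja : H := ⟨a, hSH ha⟩
  have hloc : Local S' (π jb) := h.local_quotient hb hb1 hH hne
  have hYp : IsPGroup p (Y.subgroupOf H) := hY.of_equiv (subgroupOfEquivOfLe hYH).symm
  have hTH : T ⊆ (H : Set G) := fun y hy => hYH (hT ▸ subset_closure hy)
  have hTc : closure (H.subtype ⁻¹' T) = Y.subgroupOf H := map_injective H.subtype_injective (by
    rw [MonoidHom.map_closure, Set.image_preimage_eq_of_subset (fun y hy => ⟨⟨y, hTH hy⟩, rfl⟩), hT,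
      subgroupOf_map_subtype, inf_of_le_left hYH])
  have hja : orderOf ja = 2 := by rw [Subgroup.orderOf_mk]; exact h.orderOf_eq ha ha1
  have hinvH : ∀ y ∈ H.subtype ⁻¹' T, ja * y * ja⁻¹ = y⁻¹ := fun y hy => Subtype.ext (hinv _ hy)
  have hnH : centralizer ({ja} : Set H) ≤ normalizer (Y.subgroupOf H : Set H) := fun c hc =>
    mem_normalizer_iff.2 fun y => mem_normalizer_iff.1
      (hn ⟨c.2, mem_centralizer_singleton_iff.2 (congrArg Subtype.val (mem_centralizer_singleton_iff.1 hc))⟩)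
      (y : G)
  -- modulo the core
  have h0 : (Y.subgroupOf H).map π = ⊥ := by
    refine hloc.inverted_eq_bot ⟨ja, ha, rfl⟩ (fun e => ha1 (congrArg Subtype.val (hinjS ja ha e))) hp
      (hYp.map π) (π '' (H.subtype ⁻¹' T)) (by rw [← hTc, MonoidHom.map_closure]) ?_ ?_
    · rintro _ ⟨y, hy, rfl⟩
      rw [← map_inv, ← map_mul, ← map_mul, hinvH y hy, map_inv]
    · rw [← CfsgLib.GW.DGroup.map_centralizer_singleton hja]
      exact (map_mono hnH).trans (le_normalizer_map π)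
  have hYO : Y.subgroupOf H ≤ Cfsg.oddCore ↥H := fun y hy =>
    (QuotientGroup.eq_one_iff y).1 (mem_bot.1 (h0 ▸ mem_map_of_mem π hy))
  have h1 : Y.subgroupOf H ≤ Cfsg.pCore p ↥H := le_pCore_of_inverted (Cfsg.oddCore ↥H) hOodd hja hYp _ hTc hYO
    hinvH (inf_le_right.trans hnH)
  intro y hy
  exact ⟨⟨y, hYH hy⟩, h1 hy, rfl⟩

omit hH in
/-- **Lemma Y.** -/
theorem lemmaY (hH : centralizer ({b} : Set G) ≤ H) {M : Subgroup G} (hM : centralizer ({a} : Set G) ≤ M)
    {p : ℕ} [Fact p.Prime] (hp : p ≠ 2) : ⁅part p M ⊓ H, zpowers a⁆ ≤ part p H := by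
  set P₀ := part p M ⊓ H with hP₀
  have haH : a ∈ H := h.sylow_le hb hb1 hH hne ha
  have haC : a ∈ centralizer ({a} : Set G) := mem_centralizer_singleton_iff.2 rfl
  have haP : a ∈ normalizer (P₀ : Set G) :=
    inf_normalizer_le_normalizer_inf ⟨CfsgLib.TwoGroups.Bender.le_normalizer_part p M (hM haC), le_normalizer haH⟩
  set T : Set G := {g | ∃ x ∈ P₀, g = x * a * x⁻¹ * a⁻¹} with hT
  have hTY : closure T = ⁅P₀, zpowers a⁆ := by
    refine le_antisymm ((closure_le _).2 ?_) (commutator_le.2 fun x hx z hz => ?_)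
    · rintro _ ⟨x, hx, rfl⟩
      exact commutator_mem_commutator hx (mem_zpowers a)
    · obtain ⟨k, rfl⟩ := mem_zpowers_iff.1 hz
      rw [← zpow_mod_orderOf, h.orderOf_eq ha ha1]
      rcases Int.emod_two_eq_zero_or_one k with e | e
      · rw [show k % ((2 : ℕ) : ℤ) = 0 from e, zpow_zero, commutatorElement_one_right]
        exact one_mem _
      · rw [show k % ((2 : ℕ) : ℤ) = 1 from e, zpow_one]
        exact subset_closure ⟨x, hx, commutatorElement_def x a⟩
  have hle : closure T ≤ P₀ := (closure_le _).2 fun g ⟨x, hx, hg⟩ => hg ▸ by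
    rw [show x * a * x⁻¹ * a⁻¹ = x * (a * x⁻¹ * a⁻¹) by group]
    exact mul_mem hx ((mem_normalizer_iff.1 haP _).1 (inv_mem hx))
  rw [← hTY]
  refine h.inverted_le_part ha ha1 hb hb1 hH hne hp
    ((CfsgLib.TwoGroups.Bender.isPGroup_part p M).to_le (hle.trans inf_le_left)) (hle.trans inf_le_right) T rfl ?_ ?_
  · rintro _ ⟨x, hx, rfl⟩
    have haa := h.sq a ha
    calc a * (x * a * x⁻¹ * a⁻¹) * a⁻¹ = a * x * a * x⁻¹ * (a * a)⁻¹ := by group
      _ = a * x * a⁻¹ * x⁻¹ := by rw [haa, inv_eq_of_mul_eq_one_right haa]; group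
      _ = (x * a * x⁻¹ * a⁻¹)⁻¹ := by group
  · rintro c ⟨hcH, hca⟩
    have hcP : c ∈ normalizer (P₀ : Set G) :=
      inf_normalizer_le_normalizer_inf ⟨CfsgLib.TwoGroups.Bender.le_normalizer_part p M (hM hca), le_normalizer hcH⟩
    have hca' : c * a * c⁻¹ = a := mul_inv_eq_iff_eq_mul.2 (mem_centralizer_singleton_iff.1 hca)
    have key : ∀ d : G, d * a * d⁻¹ = a → d ∈ normalizer (P₀ : Set G) → ∀ g ∈ closure T, d * g * d⁻¹ ∈ closure T := by
      intro d hd hdP g hg
      have hle' : closure T ≤ (closure T).comap (MulAut.conj d).toMonoidHom := (closure_le _).2 (by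
        rintro _ ⟨x, hx, rfl⟩
        show d * (x * a * x⁻¹ * a⁻¹) * d⁻¹ ∈ closure T
        refine subset_closure ⟨d * x * d⁻¹, (mem_normalizer_iff.1 hdP x).1 hx, ?_⟩
        conv_rhs => rw [← hd]
        group)
      exact hle' hg
    refine mem_normalizer_iff.2 fun g => ⟨key c hca' hcP g, fun hg => ?_⟩
    have h1 := key c⁻¹ (by
      calc c⁻¹ * a * c⁻¹⁻¹ = c⁻¹ * (c * a * c⁻¹) * c := by rw [hca']; group
        _ = a := by group) (inv_mem hcP) _ hg
    simpa [mul_assoc] using h1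

end Setting

end CfsgLib.Walter.Three
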