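import Cfsg.Agent.Lib.Recog.Walter.Three.Main
import Cfsg.Agent.Lib.Recog.Walter.Three.LemmaY
import Cfsg.Agent.Lib.Recog.Walter.Three.BenderTwoMain
import Cfsg.Agent.Lib.Recog.Walter.Three.BenderTwoLayer
import Cfsg.Agent.Lib.Recog.Walter.Sections.JR
import Cfsg.Agent.Lib.Recog.Walter.Sections.Two
import Cfsg.Agent.Lib.Recog.Walter.Sections.Shape
import Cfsg.Agent.Lib.Recog.Walter.Sections.Aut
import Cfsg.Agent.Lib.Components.Quasisimple

/-!
Owner: helper29 (taken over from helper11). Walter, rank three: case B2 from `BendTwo.caseTwo`.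

* `four_le_sylow`: an elementary Sylow 2-subgroup of a quasisimple group has at least four elements;
* `eq_of_component`: a proper `H ≥ S` has at most one component;
* `le_of_faithful`: if `S` acts faithfully on it then it contains `S`;
* `central_of_fixed`: then `C_K(s)` normalises no noncentral odd `p`-group centralised by `s`;
* `Setting.layer_le_centralizer`: the layer hypothesis of `caseTwo`;
* `Setting.caseBTwo`: case B2.
-/

set_option autoImplicit false
set_option linter.style.haveILetI false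
set_option linter.unusedSectionVars false

namespace CfsgLib.Walter.Three

open Subgroup
open CfsgLib.TwoGroups.Bender (part isPGroup_part le_normalizer_part part_le_fittingOf)
open scoped commutatorElement

universe u

section Quasi

variable {Q : Type u} [Group Q] [Finite Q] (hQ : Cfsg.IsQuasisimple Q)
  (hA : CfsgLib.AbelianSolvCent.AbSylow Q)
include hQ hA

/-- The center has no involution. -/
theorem center_no_involution {z : Q} (hz : z ∈ center Q) (hzz : z * z = 1) : z = 1 := by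
  haveI : Fact (Nat.Prime 2) := ⟨Nat.prime_two⟩
  by_contra hz1
  have hz2 := CfsgLib.Signalizer.orderOf_eq_two_of hz1 hzz
  obtain ⟨P, hP⟩ := (CfsgLib.Signalizer.isPGroup_zpowers_involution hz2).exists_le_sylow
  haveI := hQ.1
  exact not_central_of_perfect (show commutator Q = ⊤ from Group.IsPerfect.commutator_eq_top) P (hA P) hz2 (hP (mem_zpowers z)) hz

/-- A perfect group has no nontrivial map `k ↦ [t, k]` into its center. -/
theorem eq_one_of_crossed (β : Q → Q) (hc : ∀ k, β k ∈ center Q) (hm : ∀ k l, β (k * l) = β k * β l) (k : Q) :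
    β k = 1 := by
  haveI := hQ.1
  let f : Q →* ↥(center Q) := MonoidHom.mk' (fun k => ⟨β k, hc k⟩) fun k l => Subtype.ext (hm k l)
  have hle : commutator Q ≤ f.ker := by
    rw [_root_.commutator_def, commutator_le]
    intro x _ y _
    rw [MonoidHom.mem_ker, commutatorElement_def, map_mul, map_mul, map_mul, map_inv, map_inv]
    have hc' : f x * f y = f y * f x := Subtype.ext (mem_center_iff.1 (f y).2 (f x : Q))
    rw [hc']; group
  exact congrArg Subtype.val (hle ((show commutator Q = ⊤ from Group.IsPerfect.commutator_eq_top) ▸ mem_top k) : f k = 1)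

/-- A Sylow 2-subgroup of exponent two has at least four elements. -/
theorem four_le_sylow (P : Sylow 2 Q) (hsq : ∀ x ∈ (P : Subgroup Q), x * x = 1) :
    4 ≤ Nat.card ↥(P : Subgroup Q) := by
  classical
  haveI : Fact (Nat.Prime 2) := ⟨Nat.prime_two⟩
  by_contra hlt
  obtain ⟨j, hj⟩ := IsPGroup.iff_card.1 P.2
  have hns := CfsgLib.Components.IsQuasisimple.not_isSolvable hQ
  rcases j with _ | _ | j
  · refine hns (Cfsg.Agent.S0205.result (Nat.not_even_iff_odd.1 fun he => ?_))
    have h1 : 2 ∣ Nat.card ↥(P : Subgroup Q) := P.dvd_card_of_dvd_card (even_iff_two_dvd.1 he)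
    rw [hj] at h1
    norm_num at h1
  · obtain ⟨x, hx, hx1⟩ := (bot_or_exists_ne_one (P : Subgroup Q)).resolve_left fun e => by
      rw [e, Subgroup.card_bot] at hj
      norm_num at hj
    have hx2 := CfsgLib.Signalizer.orderOf_eq_two_of hx1 (hsq x hx)
    have hPx : (P : Subgroup Q) = zpowers x := (eq_of_le_of_card_ge (zpowers_le.2 hx) (by
      rw [hj, Nat.card_zpowers, hx2]; norm_num)).symm
    have hiso := Sections.isolated_of_normalizer P (hA P) hx2 hx fun n hn => by
      have h1 := (mem_normalizer_iff.1 hn x).1 hx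
      rw [hPx] at h1
      obtain ⟨i, hi⟩ := mem_zpowers_iff.1 h1
      rw [← zpow_mod_orderOf, hx2] at hi
      rcases Int.emod_two_eq_zero_or_one i with e | e
      · rw [show i % ((2 : ℕ) : ℤ) = 0 from e, zpow_zero] at hi
        exact absurd (conj_eq_one_iff.1 hi.symm) hx1
      · rw [show i % ((2 : ℕ) : ℤ) = 1 from e, zpow_one] at hi
        exact mul_inv_eq_iff_eq_mul.1 hi.symm
    have hO : Cfsg.oddCore Q ≤ center Q := by
      refine CfsgLib.Components.IsQuasisimple.le_center_of_ne_top hQ inferInstance fun e => hns ?_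
      haveI : Group.IsSolvable (⊤ : Subgroup Q) :=
        e ▸ Cfsg.Agent.S0205.result (CfsgLib.GW.DGroup.odd_oddCore Q)
      exact Group.isSolvable_of_surjective (f := Subgroup.topEquiv.toMonoidHom) (MulEquiv.surjective _)
    refine hx1 (center_no_involution hQ hA (mem_center_iff.2 fun k => ?_) (hsq x hx))
    have h1 := eq_one_of_crossed hQ hA (fun k => x * k * x⁻¹ * k⁻¹)
      (fun k => hO (CfsgLib.ZStar.mem_oddCore_of_isolated hiso k)) (fun k l => by
        have hc : k * (x * l * x⁻¹ * l⁻¹) = (x * l * x⁻¹ * l⁻¹) * k :=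
          mem_center_iff.1 (hO (CfsgLib.ZStar.mem_oddCore_of_isolated hiso l)) k
        calc x * (k * l) * x⁻¹ * (k * l)⁻¹
            = x * k * x⁻¹ * k⁻¹ * (k * (x * l * x⁻¹ * l⁻¹) * k⁻¹) := by group
          _ = _ := by rw [hc, mul_inv_cancel_right]) k
    rw [mul_inv_eq_one, mul_inv_eq_iff_eq_mul] at h1
    exact h1.symm
  · rw [hj] at hlt
    have : 4 ≤ 2 ^ (j + 1 + 1) := by
      rw [pow_succ, pow_succ]
      have := Nat.one_le_pow j 2 two_pos
      omega
    omega

end Quasi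

variable {G : Type u} [Group G] [Finite G] {S : Sylow 2 G}

namespace Setting

variable (h : Setting S)
include h

variable {H : Subgroup G} (hSH : (S : Subgroup G) ≤ H)
include hSH

theorem four_le_component {K : Subgroup ↥H} (hK : Cfsg.IsComponent K) :
    4 ≤ Nat.card ↥(((S : Subgroup G).subgroupOf H ⊓ K : Subgroup ↥H)) := by
  haveI : Fact (Nat.Prime 2) := ⟨Nat.prime_two⟩
  set SH := S.subtype hSH
  have hAK := CfsgLib.AbelianSolvCent.abSylow_subgroup (CfsgLib.AbelianSolvCent.abSylow_subgroup h.abSylow H) K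
  obtain ⟨P, hP⟩ := Sections.exists_sylow_component SH hK
  have h1 := four_le_sylow hK.2 hAK P fun x hx => by
    rw [hP] at hx
    exact Subtype.ext (Subtype.ext (h.sq ((x : ↥H) : G) hx))
  rw [hP, ← inf_subgroupOf_right, Nat.card_congr (subgroupOfEquivOfLe inf_le_right).toEquiv] at h1
  exact h1

/-- `H` has at most one component. -/
theorem eq_of_component {K L : Subgroup ↥H} (hK : Cfsg.IsComponent K) (hL : Cfsg.IsComponent L) : L = K := by
  by_contra hne
  have hc : ∀ l ∈ L, ∀ k ∈ K, k * l = l * k := fun l hl k hk => mem_centralizer_iff.1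
    (commutator_eq_bot_iff_le_centralizer.1 (CfsgLib.Components.components_commute hL hK hne) hl) k hk
  have hAK := CfsgLib.AbelianSolvCent.abSylow_subgroup (CfsgLib.AbelianSolvCent.abSylow_subgroup h.abSylow H) K
  set S₁ := (S : Subgroup G).subgroupOf H
  set A := S₁ ⊓ K
  set B := S₁ ⊓ L
  let f : A × B → S₁ := fun p => ⟨(p.1 : ↥H) * p.2, mul_mem p.1.2.1 p.2.2.1⟩
  have hf : Function.Injective f := by
    rintro ⟨x, y⟩ ⟨x', y'⟩ e
    have e1 : (x : ↥H) * y = (x' : ↥H) * y' := congrArg Subtype.val e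
    have e2 : (x' : ↥H)⁻¹ * x = (y' : ↥H) * (y : ↥H)⁻¹ := by
      calc (x' : ↥H)⁻¹ * x = (x' : ↥H)⁻¹ * ((x : ↥H) * y) * (y : ↥H)⁻¹ := by group
        _ = _ := by rw [e1]; group
    have hz : (x' : ↥H)⁻¹ * x ∈ A := mul_mem (inv_mem x'.2) x.2
    have hzL : (x' : ↥H)⁻¹ * x ∈ L := e2 ▸ mul_mem y'.2.2 (inv_mem y.2.2)
    have h1 := center_no_involution hK.2 hAK (z := (⟨_, hz.2⟩ : ↥K))
      (mem_center_iff.2 fun k => Subtype.ext (hc _ hzL k k.2))
      (Subtype.ext (Subtype.ext (h.sq _ hz.1)))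
    have h2 : (x : ↥H) = x' := (inv_mul_eq_one.1 (congrArg Subtype.val h1)).symm
    rw [h2] at e1
    exact Prod.ext (Subtype.ext h2) (Subtype.ext (mul_left_cancel e1))
  have hcard := Nat.card_le_card_of_injective f hf
  rw [Nat.card_prod, Nat.card_congr (subgroupOfEquivOfLe hSH).toEquiv, h.card] at hcard
  have h1 : 4 * 4 ≤ Nat.card A * Nat.card B :=
    Nat.mul_le_mul (h.four_le_component hSH hK) (h.four_le_component hSH hL)
  omega

theorem component_normal {K : Subgroup ↥H} (hK : Cfsg.IsComponent K) : K.Normal :=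
  normalizer_eq_top_iff.1 (eq_top_iff.2 fun x _ => mem_normalizer_iff_map_conj_eq.2
    (h.eq_of_component hSH hK (CfsgLib.Components.isComponent_map_equiv (MulAut.conj x) hK)))

/-- If `S` is faithful on the component it lies in it. -/
theorem le_of_faithful {K : Subgroup ↥H} (hK : Cfsg.IsComponent K)
    (hf : (S : Subgroup G).subgroupOf H ⊓ centralizer (K : Set ↥H) = ⊥) : (S : Subgroup G).subgroupOf H ≤ K := by
  haveI : Fact (Nat.Prime 2) := ⟨Nat.prime_two⟩
  haveI hKn := h.component_normal hSH hK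
  have hAH := CfsgLib.AbelianSolvCent.abSylow_subgroup h.abSylow H
  set π := QuotientGroup.mk' (Cfsg.oddCore ↥H) with hπ
  have hπs : Function.Surjective π := QuotientGroup.mk'_surjective _
  have hOodd := CfsgLib.GW.DGroup.odd_oddCore ↥H
  have hOs : Group.IsSolvable (Cfsg.oddCore ↥H) := Cfsg.Agent.S0205.result hOodd
  have hOK : ∀ k ∈ K, ∀ o ∈ Cfsg.oddCore ↥H, o * k = k * o := fun k hk o ho =>
    mem_centralizer_iff.1 (commutator_eq_bot_iff_le_centralizer.1
      (CfsgLib.Components.component_commutes_of_solvable_subnormal hK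
        (inferInstance : (Cfsg.oddCore ↥H).Normal).isSubnormal hOs) hk) o ho
  have hKne : K.map π ≠ ⊥ := fun e => by
    rw [Subgroup.map_eq_bot_iff, QuotientGroup.ker_mk'] at e
    haveI := hOs
    exact CfsgLib.Components.IsComponent.not_isSolvable hK
      (Group.isSolvable_of_isSolvable_injective (f := inclusion e) (inclusion_injective e))
  set SH := S.subtype hSH
  intro s hs
  obtain ⟨xb, ⟨hxS, hxK⟩, hconj⟩ := Sections.exists_projection
    (CfsgLib.AbelianSolvCent.abSylow_of_surjective hAH π hπs)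
    (CfsgLib.Core.pPrimeCore_quotient_pPrimeCore 2 ↥H) (SH.mapSurjective hπs)
    (CfsgLib.Components.isComponent_map_of_surjective hπs hK hKne) (s := π s) ⟨s, hs, rfl⟩
  obtain ⟨x, hx, rfl⟩ := hxS
  obtain ⟨k, hk, hkx⟩ := hxK
  obtain ⟨o, ho, hko⟩ := (QuotientGroup.mk'_eq_mk' _).1 hkx
  have hxx : x * x = 1 := Subtype.ext (h.sq (x : G) hx)
  have hoK : o ∈ K := by
    have h1 : o * o ∈ K := by
      have h2 : k * k * (o * o) = 1 := by
        rw [← hxx, ← hko, mul_assoc k o, ← mul_assoc o k o, hOK k hk o ho]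
        group
      rw [eq_inv_of_mul_eq_one_right h2]
      exact inv_mem (mul_mem hk hk)
    obtain ⟨m, hm⟩ := exists_pow_eq_self_of_coprime (x := o) (n := 2)
      (Nat.coprime_two_left.2 (hOodd.of_dvd_nat (Subgroup.orderOf_dvd_natCard _ ho)))
    rw [← hm, pow_two]
    exact pow_mem h1 m
  have hxK : x ∈ K := hko ▸ mul_mem hk hoK
  set t := x⁻¹ * s with ht
  have hcen : ∀ l : ↥K, t * (l : ↥H) * t⁻¹ * (l : ↥H)⁻¹ ∈ Cfsg.oddCore ↥H := fun l => by
    rw [← QuotientGroup.eq_one_iff]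
    show π _ = 1
    rw [ht, map_mul, map_mul, map_mul, map_inv, map_inv, map_mul, map_inv]
    have h1 := hconj (π l) (mem_map_of_mem π l.2)
    calc (π x)⁻¹ * π s * π (l : ↥H) * ((π x)⁻¹ * π s)⁻¹ * (π (l : ↥H))⁻¹
        = (π x)⁻¹ * (π s * π (l : ↥H) * (π s)⁻¹) * π x * (π (l : ↥H))⁻¹ := by group
      _ = 1 := by rw [h1]; group
  have htl : ∀ l : ↥K, t * (l : ↥H) = (l : ↥H) * t := fun l => by
    have hmem : ∀ l : ↥K, t * (l : ↥H) * t⁻¹ * (l : ↥H)⁻¹ ∈ K := fun l =>
      mul_mem (hKn.conj_mem _ l.2 t) (inv_mem l.2)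
    have h1 := eq_one_of_crossed hK.2 (CfsgLib.AbelianSolvCent.abSylow_subgroup hAH K)
      (fun l => ⟨_, hmem l⟩)
      (fun l => mem_center_iff.2 fun m => Subtype.ext (hOK m m.2 _ (hcen l)).symm)
      (fun l m => Subtype.ext (by
        show t * ((l : ↥H) * m) * t⁻¹ * ((l : ↥H) * m)⁻¹ =
          t * (l : ↥H) * t⁻¹ * (l : ↥H)⁻¹ * (t * (m : ↥H) * t⁻¹ * (m : ↥H)⁻¹)
        have hc : (l : ↥H) * (t * (m : ↥H) * t⁻¹ * (m : ↥H)⁻¹) =
            (t * (m : ↥H) * t⁻¹ * (m : ↥H)⁻¹) * l := (hOK l l.2 _ (hcen m)).symm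
        calc t * ((l : ↥H) * m) * t⁻¹ * ((l : ↥H) * m)⁻¹
            = t * (l : ↥H) * t⁻¹ * (l : ↥H)⁻¹ * ((l : ↥H) * (t * (m : ↥H) * t⁻¹ * (m : ↥H)⁻¹) * (l : ↥H)⁻¹) := by
              group
          _ = _ := by rw [hc, mul_inv_cancel_right])) l
    have h2 : t * (l : ↥H) * t⁻¹ * (l : ↥H)⁻¹ = 1 := congrArg Subtype.val h1
    rwa [mul_inv_eq_one, mul_inv_eq_iff_eq_mul] at h2
  have ht1 : t = 1 := mem_bot.1 (hf ▸ Subgroup.mem_inf.2 ⟨mul_mem (inv_mem hx) hs,
    mem_centralizer_iff.2 fun l hl => (htl ⟨l, hl⟩).symm⟩)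
  rw [← inv_mul_eq_one.1 ht1]
  exact hxK

omit hSH in
/-- In a quasisimple `K ≥ S` the centralizer of `s` normalises no noncentral odd `p`-subgroup it contains. -/
theorem central_of_fixed (hI : Smaller G) {K : Subgroup G} (hK : Cfsg.IsQuasisimple ↥K) (hKne : K ≠ ⊤)
    (hSK : (S : Subgroup G) ≤ K) {s : G} (hs : s ∈ (S : Subgroup G)) (hs1 : s ≠ 1) {p : ℕ} [Fact p.Prime]
    (hp : p ≠ 2) {U : Subgroup G} (hU : IsPGroup p U) (hUK : U ≤ K ⊓ centralizer ({s} : Set G))
    (hn : K ⊓ centralizer ({s} : Set G) ≤ normalizer (U : Set G)) : U ≤ centralizer (K : Set G) := by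
  haveI : Fact (Nat.Prime 2) := ⟨Nat.prime_two⟩
  have hAK := CfsgLib.AbelianSolvCent.abSylow_subgroup h.abSylow K
  haveI := hK.2
  set π := QuotientGroup.mk' (center ↥K) with hπ
  have hπs : Function.Surjective π := QuotientGroup.mk'_surjective _
  have hna : ¬ IsMulCommutative (↥K ⧸ center ↥K) :=
    CfsgLib.Components.IsQuasisimple.not_isMulCommutative
      (CfsgLib.Components.IsQuasisimple.quotient hK (CfsgLib.Components.IsQuasisimple.center_ne_top hK))
  have hlt : Nat.card (↥K ⧸ center ↥K) < Nat.card G :=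
    (Nat.card_le_card_of_surjective π hπs).trans_lt
      (lt_of_le_of_ne (card_le_card_group K) fun e => hKne (eq_top_of_card_eq K e))
  have hAb := CfsgLib.AbelianSolvCent.abSylow_of_surjective hAK π hπs
  have hW := hI (↥K ⧸ center ↥K) hna hAb hlt
  set SK := (S : Subgroup G).subgroupOf K
  have hinj : ∀ x ∈ SK, π x = 1 → x = 1 := fun x hx e =>
    center_no_involution hK hAK ((QuotientGroup.eq_one_iff x).1 e) (Subtype.ext (h.sq _ hx))
  have h8 : 8 ∣ Nat.card (↥K ⧸ center ↥K) := by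
    have hinj' : Function.Injective (π.comp SK.subtype) := (injective_iff_map_eq_one _).2 fun x hx =>
      Subtype.ext (hinj x x.2 hx)
    have h1 := Subgroup.card_dvd_of_injective (π.comp SK.subtype) hinj'
    rwa [Nat.card_congr (subgroupOfEquivOfLe hSK).toEquiv, h.card] at h1
  set sk : ↥K := ⟨s, hSK hs⟩ with hsk
  have hsv : orderOf (π sk) = 2 := CfsgLib.Signalizer.orderOf_eq_two_of
    (fun e => hs1 (congrArg Subtype.val (hinj sk hs e)))
    (by rw [← map_mul, show sk * sk = 1 from Subtype.ext (h.sq s hs), map_one])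
  set Ub := (U.subgroupOf K).map π with hUb
  have hUodd : Odd (Nat.card Ub) := by
    obtain ⟨n, hn'⟩ := IsPGroup.iff_card.1 ((hU.comap_of_injective K.subtype K.subtype_injective).map π)
    rw [hUb, Subgroup.subgroupOf, hn']
    exact ((Fact.out : p.Prime).odd_of_ne_two hp).pow
  have hUn : centralizer ({π sk} : Set (↥K ⧸ center ↥K)) ≤ normalizer (Ub : Set (↥K ⧸ center ↥K)) := by
    intro c hc
    obtain ⟨c, rfl⟩ := hπs c
    have hz : c * sk * c⁻¹ * sk⁻¹ ∈ center ↥K := by
      rw [← QuotientGroup.eq_one_iff]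
      show π _ = 1
      rw [map_mul, map_mul, map_mul, map_inv, map_inv, mem_centralizer_singleton_iff.1 hc]
      group
    have hss : sk * sk = 1 := Subtype.ext (h.sq s hs)
    have hz1 : c * sk * c⁻¹ * sk⁻¹ = 1 := by
      refine center_no_involution hK hAK hz ?_
      calc c * sk * c⁻¹ * sk⁻¹ * (c * sk * c⁻¹ * sk⁻¹)
          = c * sk * c⁻¹ * (sk⁻¹ * (c * sk * c⁻¹ * sk⁻¹)) := by group
        _ = c * sk * c⁻¹ * ((c * sk * c⁻¹ * sk⁻¹) * sk⁻¹) := by rw [mem_center_iff.1 hz sk⁻¹]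
        _ = c * (sk * sk) * c⁻¹ * (sk * sk)⁻¹ := by group
        _ = 1 := by rw [hss]; group
    rw [mul_inv_eq_one, mul_inv_eq_iff_eq_mul] at hz1
    refine le_normalizer_map π ⟨c, mem_normalizer_iff.2 fun y => ?_, rfl⟩
    exact mem_normalizer_iff.1 (hn (Subgroup.mem_inf.2
      ⟨c.2, mem_centralizer_singleton_iff.2 (congrArg Subtype.val hz1)⟩)) (y : G)
  have hbot : Ub = ⊥ := by
    rcases hW with hT | hO | hJ
    · exact Sections.two_eq_bot hT hsv hUodd hUn
    · exact absurd h8 (Sections.not_eight_dvd hO.pslData)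
    · exact Sections.jr_eq_bot hJ hsv hUodd hUn
  intro x hx
  have h1 : π ⟨x, (hUK hx).1⟩ = 1 := mem_bot.1 (hbot ▸ ⟨⟨x, (hUK hx).1⟩, hx, rfl⟩)
  exact mem_centralizer_iff.2 fun k hk =>
    congrArg Subtype.val (mem_center_iff.1 ((QuotientGroup.eq_one_iff _).1 h1) ⟨k, hk⟩)

end Setting

namespace Setting

variable (h : Setting S)
include h

theorem isElementary : Cfsg.IsElementaryAbelian 2 (S : Subgroup G) :=
  ⟨h.isComm, fun x hx => by rw [pow_two]; exact h.sq x hx⟩

omit h in
theorem card_fittingOf_conj (M : Subgroup G) (g : G) :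
    Nat.card (Cfsg.fittingOf (M.map (MulAut.conj g).toMonoidHom)) = Nat.card (Cfsg.fittingOf M) := by
  unfold Cfsg.fittingOf
  rw [card_map_of_injective (subtype_injective _), card_map_of_injective (subtype_injective _),
    ← CfsgLib.Core.map_equiv_fittingSubgroup (M.equivMapOfInjective _ (MulAut.conj g).injective)]
  exact card_map_of_injective (MulEquiv.injective _)

variable {a : G} (ha : a ∈ (S : Subgroup G)) (ha1 : a ≠ 1) {M : Subgroup G} (hmax : IsCoatom M)
  (hM : centralizer ({a} : Set G) ≤ M) (hneC : M ≠ centralizer ({a} : Set G))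
  (hE : Cfsg.layer ↥(centralizer ({a} : Set G)) = ⊥)
include ha ha1 hmax hM hneC hE

/-- The neighbours. -/
theorem exists_nbr {p : ℕ} [Fact p.Prime] (hp : p ≠ 2) {s : G} (hs : s ∈ (S : Subgroup G)) (hs1 : s ≠ 1)
    (hsa : s ≠ a) : ∃ N : Subgroup G, BendTwo.Nbr a s M N ∧
      ⁅part p M ⊓ centralizer ({s} : Set G), zpowers a⁆ ≤ part p N := by
  haveI := h.simple
  obtain ⟨σ, hσ, hσa⟩ := h.one_class ha ha1 hs hs1
  set N := M.map (MulAut.conj σ).toMonoidHom with hN
  have hsN : centralizer ({s} : Set G) ≤ N := by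
    intro c hc
    refine CfsgLib.Techniques.mem_map_conj_iff.2 (hM (mem_centralizer_singleton_iff.2 ?_))
    have hcs := mem_centralizer_singleton_iff.1 hc
    rw [← hσa] at hcs
    calc σ⁻¹ * c * σ * a = σ⁻¹ * (c * (σ * a * σ⁻¹)) * σ := by group
      _ = σ⁻¹ * (σ * a * σ⁻¹ * c) * σ := by rw [hcs]
      _ = a * (σ⁻¹ * c * σ) := by group
  have hNmax : IsCoatom N := ((MulAut.conj σ).mapSubgroup.isCoatom_iff M).2 hmax
  have hlay : Cfsg.layer ↥(centralizer ({s} : Set G)) = ⊥ := by_contra fun hne =>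
    h.layer_ne_bot hs hs1 ha ha1 hne hE
  refine ⟨N, ⟨h.sq s hs, h.comm ha hs, hNmax, hsN, h.layer_eq_bot hs hs1 hsN hNmax.1 hlay,
    fun q _ => by rw [card_fittingOf_conj M σ], fun hNM => hsa ?_⟩, ?_⟩
  · have hσM : σ ∈ M := by
      have h1 : σ ∈ normalizer (M : Set G) := mem_normalizer_iff_map_conj_eq.2 hNM
      rcases hmax.le_iff.1 (le_normalizer : M ≤ normalizer (M : Set G)) with e | e
      · exfalso
        rcases (normalizer_eq_top_iff.1 e).eq_bot_or_eq_top with e' | e'
        · exact ha1 (mem_bot.1 (e' ▸ h.sylow_le ha ha1 hM hmax.1 ha))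
        · exact hmax.1 e'
      · exact e ▸ h1
    rw [← hσa, h.normalizer_fixes ha ha1 hM hmax.1 hσM hσ]
  · exact (commutator_mono (inf_le_inf_left _ hsN) le_rfl).trans (h.lemmaY ha ha1 hs hs1 hNmax.1 hsN hM hp)

/-- The layer hypothesis of `caseTwo`. -/
theorem layer_le_centralizer (hI : Smaller G) {p : ℕ} [Fact p.Prime] (hp : p ≠ 2) {H : Subgroup G}
    (hH : IsCoatom H) (hSH : (S : Subgroup G) ≤ H) {D : Subgroup G} (hD : D ≤ part p M ⊓ H)
    (hCD : centralizer ({a} : Set G) ≤ normalizer (D : Set G)) (hDa : ⁅D, zpowers a⁆ = D) :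
    (Cfsg.layer ↥H).map H.subtype ≤ centralizer (D : Set G) := by
  haveI : Fact (Nat.Prime 2) := ⟨Nat.prime_two⟩
  rw [map_le_iff_le_comap, CfsgLib.Components.layer_le_iff]
  intro K hK
  rw [← map_le_iff_le_comap, Subgroup.le_centralizer_iff]
  haveI hKn := h.component_normal hSH hK
  set K' := K.map H.subtype with hK'
  have hq : Cfsg.IsQuasisimple ↥K' := CfsgLib.Components.IsQuasisimple.congr
    (K.equivMapOfInjective H.subtype H.subtype_injective) hK.2
  have hHK : H ≤ normalizer (K' : Set G) := CfsgLib.TwoGroups.Bender.le_normalizer_map_subtype K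
  have hK'H : K' ≤ H := map_subtype_le K
  have hDp : IsPGroup p D := (isPGroup_part p M).to_le (hD.trans inf_le_left)
  have hDodd : Odd (Nat.card D) := by
    obtain ⟨n, hn⟩ := IsPGroup.iff_card.1 hDp
    rw [hn]; exact ((Fact.out : p.Prime).odd_of_ne_two hp).pow
  refine BendTwo.centralizes_component (h.sq a ha) hDp hDodd hDa h.isElementary (by rw [h.card]; norm_num) ha
    ((h.le_centralizer ha).trans hCD) hq ((hD.trans inf_le_right).trans hHK) (hSH.trans hHK) ?_ ?_
  · intro s hs hs1 hsa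
    obtain ⟨N, hN, hY⟩ := h.exists_nbr ha ha1 hmax hM hneC hE hp hs hs1 hsa
    exact ⟨N, hN.cent, (commutator_mono (inf_le_inf_right _ (hD.trans inf_le_left)) le_rfl).trans hY⟩
  · intro hf
    have hf' : (S : Subgroup G).subgroupOf H ⊓ centralizer (K : Set ↥H) = ⊥ := by
      refine (eq_bot_iff_forall _).2 fun x hx => ?_
      have h1 : (x : G) ∈ (S : Subgroup G) ⊓ centralizer (K' : Set G) := by
        refine Subgroup.mem_inf.2 ⟨hx.1, mem_centralizer_iff.2 ?_⟩
        rintro _ ⟨y, hy, rfl⟩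
        exact congrArg Subtype.val (mem_centralizer_iff.1 hx.2 y hy)
      rw [hf, mem_bot] at h1
      exact Subtype.ext h1
    have hSK : (S : Subgroup G) ≤ K' := fun x hx =>
      ⟨⟨x, hSH hx⟩, h.le_of_faithful hSH hK hf' hx, rfl⟩
    refine ⟨hSK, fun s hs hs1 U hU hUK hn => h.central_of_fixed hI hq ?_ hSK hs hs1 hp hU hUK hn⟩
    intro e
    exact hH.1 (top_le_iff.1 (e ▸ hK'H))

end Setting

/-- **Case B2.** -/
theorem Setting.caseBTwo (h : Setting S) (hI : Smaller G) : CaseBTwo S := by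
  haveI : Fact (Nat.Prime 2) := ⟨Nat.prime_two⟩
  intro a ha ha1 M hmax hM hneC hE ⟨q, r, hq, hr, _, _, hqr, hqd, hrd⟩
  haveI := h.simple
  have hE0 : Cfsg.layer ↥M = ⊥ := h.layer_eq_bot ha ha1 hM hmax.1 hE
  have hp2 := h.part_two_eq_bot ha ha1 hM hmax.1 hneC
  have hFodd : Odd (Nat.card (Cfsg.fittingOf M)) := by
    rw [← Nat.not_even_iff_odd, even_iff_two_dvd]
    intro h2
    obtain ⟨x, hx⟩ := exists_prime_orderOf_dvd_card' (G := Cfsg.fittingOf M) 2 h2
    have h1 := CfsgLib.TwoGroups.Bender.mem_part_of_mem (p := 2) (k := 1) x.2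
      (by rw [Subgroup.orderOf_coe, hx, pow_one])
    rw [hp2, mem_bot] at h1
    rw [show x = 1 from Subtype.ext h1, orderOf_one] at hx
    omega
  have hctx : BendTwo.Ctx a M :=
    { hna := h.nonab, sq := h.sq a ha, max := hmax, cent := hM, layer_bot := hE0, odd := hFodd
      two := ⟨q, r, hq, hr, hqr, hqd, hrd⟩
      overgroup := fun H hH hHa => h.layer_eq_bot ha ha1 hHa hH.1 hE }
  obtain ⟨p, hp, hpd, hmove⟩ : ∃ p : ℕ, p.Prime ∧ p ∣ Nat.card (Cfsg.fittingOf M) ∧
      ¬ part p M ≤ centralizer ({a} : Set G) := by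
    by_contra hall
    push Not at hall
    have hFC : Cfsg.fittingOf M ≤ centralizer ({a} : Set G) :=
      BendTwo.fitting_le fun q hq hd => hall q hq hd
    have haM : a ∈ M := hM (mem_centralizer_singleton_iff.2 rfl)
    have haF : a ∈ Cfsg.fittingOf M := by
      refine ⟨⟨a, haM⟩, CfsgLib.Components.centralizer_fitting_le_of_layer_eq_bot hE0
        (mem_centralizer_iff.2 fun y hy => Subtype.ext ?_), rfl⟩
      exact mem_centralizer_singleton_iff.1 (hFC (mem_map_of_mem M.subtype hy))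
    have h1 := (Cfsg.fittingOf M).orderOf_dvd_natCard haF
    rw [h.orderOf_eq ha ha1] at h1
    exact Nat.not_even_iff_odd.2 hFodd (even_iff_two_dvd.2 h1)
  haveI := Fact.mk hp
  have hp' : p ≠ 2 := fun e => Nat.not_even_iff_odd.2 hFodd (even_iff_two_dvd.2 (e ▸ hpd))
  refine BendTwo.caseTwo hctx ha1 ha h.sq (by rw [h.card]; norm_num) (p := p) hmove (fun s hs hs1 hsa => ?_)
    fun H hH hSH D hD hCD hDa => h.layer_le_centralizer ha ha1 hmax hM hneC hE hI hp' hH hSH hD hCD hDa
  obtain ⟨N, hN, hY⟩ := h.exists_nbr ha ha1 hmax hM hneC hE hp' hs hs1 hsa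
  exact ⟨N, hN, hY.trans (part_le_fittingOf p N)⟩

end CfsgLib.Walter.Three
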