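import Cfsg.Agent.Lib.Recog.Walter.Three.Maximal
import Cfsg.Agent.Lib.LocalEvenB.StronglyClosedQd
import Cfsg.Agent.Lib.Bender.Gen.NoMoveZJ
import Cfsg.Agent.Lib.LocalEven.Generation
import Cfsg.Agent.Lib.TwoGroups.BenderUnique
import Cfsg.Agent.Lib.Techniques.Basic

/-!
Owner: helper29. Walter, rank three, case B1 (notes/walter_blueprint_helper15.md).

* `Setting.part_two_le`: `O₂(M) ≤ ⟨a⟩` for `C(a) ≤ M` proper;
* `Setting.part_two_eq_bot`: `O₂(M) = 1` if moreover `M ≠ C(a)`;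
* `Setting.fittingOf_le_part`: `F(M) = O_p(M)` if `p` is its only odd prime;
* `Setting.benderOne`: a maximal `M ≥ C(a)` other than `C(a)` with `E(C(a)) = 1` has two odd primes in `F(M)`.
-/

set_option autoImplicit false
set_option linter.style.haveILetI false
set_option linter.unusedSectionVars false

namespace CfsgLib.Walter.Three

open Subgroup
open CfsgLib.TwoGroups.Bender (part)
open scoped commutatorElement Pointwise

universe u

variable {G : Type u} [Group G] [Finite G] {S : Sylow 2 G}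

namespace Setting

variable (h : Setting S)
include h

variable {a : G} (ha : a ∈ (S : Subgroup G)) (ha1 : a ≠ 1) {M : Subgroup G}
  (hM : centralizer ({a} : Set G) ≤ M) (hne : M ≠ ⊤)
include ha ha1 hM hne

/-- `O₂(M) ≤ ⟨a⟩`. -/
theorem part_two_le : part 2 M ≤ zpowers a := by
  haveI : Fact (Nat.Prime 2) := ⟨Nat.prime_two⟩
  have hSM := h.sylow_le ha ha1 hM hne
  set R := part 2 M with hR
  set C := centralizer ({a} : Set G) with hC
  have hRS : R ≤ (S : Subgroup G) := by
    rintro _ ⟨y, hy, rfl⟩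
    exact CfsgLib.Core.pCore_le_sylow (S.subtype hSM) hy
  have hMR := CfsgLib.TwoGroups.Bender.le_normalizer_part 2 M
  have hLM : L a ≤ M := (L_le a).trans hM
  set N := R ⊓ L a with hN
  have hNV : N ≤ V S a := le_inf (inf_le_left.trans hRS) inf_le_right
  have hNn : C ≤ normalizer (N : Set G) :=
    (le_inf (hM.trans hMR) (le_normalizer_L a)).trans inf_normalizer_le_normalizer_inf
  have hNbot : N = ⊥ := by
    by_contra hne'
    obtain ⟨v, hv, hv1⟩ := N.bot_or_exists_ne_one.resolve_left hne'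
    have hVN : V S a ≤ N := by
      intro w hw
      rcases eq_or_ne w 1 with rfl | hw1
      · exact one_mem _
      obtain ⟨k, -, hka, rfl⟩ := h.conj_V ha ha1 (hNV hv) hv1 hw hw1
      exact (mem_normalizer_iff.1 (hNn (mem_centralizer_singleton_iff.2 (mul_inv_eq_iff_eq_mul.1 hka))) v).1 hv
    set N' := N.subgroupOf (L a) with hN'
    haveI : N'.Normal := normal_subgroupOf_of_le_normalizer ((L_le a).trans hNn)
    have hcard : Nat.card N' = 4 := by
      rw [Nat.card_congr (subgroupOfEquivOfLe (inf_le_right : N ≤ L a)).toEquiv]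
      exact (congrArg (fun X : Subgroup G => Nat.card X) (le_antisymm hNV hVN)).trans (h.card_V ha ha1)
    have hodd : Odd N'.index := by
      rw [← Nat.not_even_iff_odd, even_iff_two_dvd]
      intro h2
      have h8 : 2 ^ 3 ∣ Nat.card ↥(L a) := by
        rw [← N'.card_mul_index, hcard, show (2 ^ 3 : ℕ) = 4 * 2 by norm_num]
        exact mul_dvd_mul_left 4 h2
      obtain ⟨Q, hQ⟩ := Sylow.exists_subgroup_card_pow_prime 2 h8
      obtain ⟨g, hg, hgQ⟩ := h.two_group_L_le ha ha1 ((IsPGroup.of_card hQ).map (L a).subtype) (map_subtype_le Q)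
      have hle : ((Q.map (L a).subtype).map (MulAut.conj g).toMonoidHom) ≤ V S a := by
        rintro _ ⟨x, hx, rfl⟩
        exact hgQ x hx
      have h3 := Subgroup.card_le_of_le hle
      rw [h.card_V ha ha1, card_map_of_injective (MulAut.conj g).injective,
        card_map_of_injective (L a).subtype_injective, hQ] at h3
      norm_num at h3
    have hcomm : ∀ x y : ↥N', x * y = y * x := fun x y => Subtype.ext (Subtype.ext
      (h.comm (hNV x.2).1 (hNV y.2).1))
    haveI : Group.IsSolvable ↥N' := Group.isSolvable_of_comm hcomm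
    haveI : Group.IsSolvable (↥(L a) ⧸ N') := by
      refine CfsgLib.OddLocal.FTFinal.odd_order_solvable ?_
      rwa [← Subgroup.index_eq_card]
    haveI hLs : Group.IsSolvable ↥(L a) := Group.isSolvable_of_ker_le_range N'.subtype (QuotientGroup.mk' N')
      (by rw [QuotientGroup.ker_mk', range_subtype])
    haveI : Nontrivial ↥(L a) := (nontrivial_iff_ne_bot _).2 (h.L_ne_bot ha ha1)
    refine (Group.IsSolvable.commutator_lt_top_of_nontrivial ↥(L a)).ne ?_
    apply map_injective (L a).subtype_injective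
    rw [map_subtype_commutator, ← MonoidHom.range_eq_map, range_subtype, h.L_perfect ha ha1]
  intro x hx
  have hxS := hRS hx
  have hxC : x ∈ C := h.le_centralizer ha hxS
  have hxL : ∀ l ∈ L a, x * l = l * x := by
    intro l hl
    have h1 : x * l * x⁻¹ * l⁻¹ ∈ N := by
      refine Subgroup.mem_inf.2 ⟨?_, mul_mem ((mem_normalizer_iff.1 (le_normalizer_L a hxC) l).1 hl) (inv_mem hl)⟩
      rw [show x * l * x⁻¹ * l⁻¹ = x * (l * x⁻¹ * l⁻¹) by group]
      exact mul_mem hx ((mem_normalizer_iff.1 (hMR (hLM hl)) _).1 (inv_mem hx))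
    rw [hNbot, mem_bot, mul_inv_eq_one, mul_inv_eq_iff_eq_mul] at h1
    exact h1
  by_contra hxa
  have hx1 : x ≠ 1 := fun e => hxa (e ▸ one_mem _)
  have haL : ∀ l ∈ L a, a * l = l * a := fun l hl => (mem_centralizer_singleton_iff.1 (L_le a hl)).symm
  obtain ⟨v, hvV, hv1, hvL⟩ : ∃ v ∈ V S a, v ≠ 1 ∧ ∀ l ∈ L a, v * l = l * v := by
    by_cases hxV : x ∈ V S a
    · exact ⟨x, hxV, hx1, hxL⟩
    · refine ⟨a * x, h.mul_mem_V ha ha1 ha hxS (h.not_mem_V ha ha1) hxV, fun e => hxa ?_, fun l hl => ?_⟩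
      · rw [← inv_eq_of_mul_eq_one_right e]
        exact inv_mem (mem_zpowers a)
      · rw [mul_assoc, hxL l hl, ← mul_assoc, haL l hl, mul_assoc]
  set K := L a
  have hp : commutator K = ⊤ := map_injective K.subtype_injective (by
    rw [map_subtype_commutator, h.L_perfect ha ha1, ← MonoidHom.range_eq_map, range_subtype])
  have hord : orderOf (⟨v, hvV.2⟩ : K) = 2 := by rw [Subgroup.orderOf_mk]; exact h.orderOf_eq hvV.1 hv1
  obtain ⟨P, hP⟩ := (CfsgLib.Signalizer.isPGroup_zpowers_involution hord).exists_le_sylow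
  exact not_central_of_perfect hp P (CfsgLib.AbelianSolvCent.abSylow_subgroup h.abSylow K P) hord
    (hP (mem_zpowers _)) (mem_center_iff.2 fun l => Subtype.ext (hvL l l.2).symm)

/-- `O₂(M) = 1` unless `M = C(a)`. -/
theorem part_two_eq_bot (hneC : M ≠ centralizer ({a} : Set G)) : part 2 M = ⊥ := by
  haveI : Fact (Nat.Prime 2) := ⟨Nat.prime_two⟩
  refine (eq_bot_iff_forall _).2 fun x hx => ?_
  obtain ⟨k, rfl⟩ := mem_zpowers_iff.1 (h.part_two_le ha ha1 hM hne hx)
  by_contra hx1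
  have haR : a ∈ part 2 M := by
    rw [← zpow_mod_orderOf, h.orderOf_eq ha ha1] at hx hx1
    rcases Int.emod_two_eq_zero_or_one k with e | e
    · rw [show k % ((2 : ℕ) : ℤ) = 0 from e, zpow_zero] at hx1
      exact absurd rfl hx1
    · rwa [show k % ((2 : ℕ) : ℤ) = 1 from e, zpow_one] at hx
  have hMR := CfsgLib.TwoGroups.Bender.le_normalizer_part 2 M
  have hOn : M ≤ normalizer (coreIn M : Set G) :=
    CfsgLib.TwoGroups.Bender.le_normalizer_map_subtype (Cfsg.oddCore ↥M)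
  have hOodd : Odd (Nat.card (coreIn M)) :=
    (CfsgLib.GW.DGroup.odd_oddCore ↥M).of_dvd_nat (card_map_dvd _ _)
  refine hneC (le_antisymm (fun m hm => ?_) hM)
  obtain ⟨o, ho, c, hc, rfl⟩ := h.exists_mul ha ha1 hM hne hm
  refine mul_mem (mem_centralizer_singleton_iff.2 ?_) hc
  have haM : a ∈ M := h.sylow_le ha ha1 hM hne ha
  have hoM : o ∈ M := map_subtype_le _ ho
  have h1 : a * o * a⁻¹ * o⁻¹ ∈ coreIn M := mul_mem ((mem_normalizer_iff.1 (hOn haM) o).1 ho) (inv_mem ho)
  have h2 : a * o * a⁻¹ * o⁻¹ ∈ part 2 M := by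
    rw [show a * o * a⁻¹ * o⁻¹ = a * (o * a⁻¹ * o⁻¹) by group]
    exact mul_mem haR ((mem_normalizer_iff.1 (hMR hoM) _).1 (inv_mem haR))
  obtain ⟨i, hi⟩ := IsPGroup.iff_orderOf.1 (CfsgLib.TwoGroups.Bender.isPGroup_part 2 M) ⟨_, h2⟩
  rw [Subgroup.orderOf_mk] at hi
  have h3 : Odd (orderOf (a * o * a⁻¹ * o⁻¹)) := hOodd.of_dvd_nat (Subgroup.orderOf_dvd_natCard _ h1)
  rw [hi] at h3
  rcases i with _ | i
  · rw [pow_zero, orderOf_eq_one_iff, mul_inv_eq_one, mul_inv_eq_iff_eq_mul] at hi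
    exact hi.symm
  · exact absurd h3 (Nat.not_odd_iff_even.2 ((Nat.even_pow).2 ⟨even_two, by omega⟩))

/-- `F(M) = O_p(M)` if no other odd prime divides it. -/
theorem fittingOf_le_part (hneC : M ≠ centralizer ({a} : Set G)) {p : ℕ}
    (hone : ∀ q : ℕ, q.Prime → q ≠ 2 → q ∣ Nat.card (Cfsg.fittingOf M) → q = p) :
    Cfsg.fittingOf M ≤ part p M := by
  refine CfsgLib.TwoGroups.Bender.le_of_parts le_rfl fun q hq hd => inf_le_left.trans ?_
  rcases eq_or_ne q 2 with rfl | hq2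
  · rw [h.part_two_eq_bot ha ha1 hM hne hneC]; exact bot_le
  · rw [hone q hq hq2 hd]

end Setting

namespace Setting

variable (h : Setting S)
include h

/-- **Case B1**: `F(M)` has two odd primes. -/
theorem benderOne {a : G} (ha : a ∈ (S : Subgroup G)) (ha1 : a ≠ 1) {M : Subgroup G} (hmax : IsCoatom M)
    (hM : centralizer ({a} : Set G) ≤ M) (hneC : M ≠ centralizer ({a} : Set G))
    (hE : Cfsg.layer ↥(centralizer ({a} : Set G)) = ⊥) {p : ℕ} [Fact p.Prime] (hp : p ≠ 2)
    (hone : ∀ q : ℕ, q.Prime → q ≠ 2 → q ∣ Nat.card (Cfsg.fittingOf M) → q = p) : False := by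
  haveI : Fact (Nat.Prime 2) := ⟨Nat.prime_two⟩
  haveI := h.simple
  have hSM := h.sylow_le ha ha1 hM hmax.1
  have haM : a ∈ M := hSM ha
  set P := part p M with hP
  have hPM : P ≤ M := CfsgLib.TwoGroups.Bender.part_le p M
  have hPp : IsPGroup p P := CfsgLib.TwoGroups.Bender.isPGroup_part p M
  have hMP := CfsgLib.TwoGroups.Bender.le_normalizer_part p M
  have hFP := h.fittingOf_le_part ha ha1 hM hmax.1 hneC hone
  -- the Fitting subgroup is self-centralising
  have hlay := h.layer_eq_bot ha ha1 hM hmax.1 hE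
  have hCF := CfsgLib.Components.centralizer_fitting_le_of_layer_eq_bot hlay
  have hFeq : Cfsg.fittingSubgroup ↥M = Cfsg.pCore p ↥M := by
    refine le_antisymm (fun x hx => ?_) (CfsgLib.Components.pCore_le_fitting p)
    obtain ⟨y, hy, hyx⟩ := hFP (mem_map_of_mem M.subtype hx)
    exact M.subtype_injective hyx ▸ hy
  rw [hFeq] at hCF
  have hCP : ∀ x ∈ M, (∀ y ∈ P, x * y = y * x) → x ∈ P := fun x hxM hx =>
    ⟨⟨x, hxM⟩, hCF (mem_centralizer_iff.2 fun y hy => Subtype.ext (hx _ (mem_map_of_mem M.subtype hy)).symm), rfl⟩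
  have haP : a ∉ P := fun e => by
    obtain ⟨k, hk⟩ := IsPGroup.iff_orderOf.1 hPp ⟨a, e⟩
    rw [Subgroup.orderOf_mk, h.orderOf_eq ha ha1] at hk
    exact hp ((Nat.prime_dvd_prime_iff_eq Nat.prime_two (Fact.out : p.Prime)).1
      (Nat.prime_two.dvd_of_dvd_pow (by rw [← hk]))).symm
  have hPne : P ≠ ⊥ := fun e => haP (hCP a haM fun y hy => by
    rw [e, mem_bot] at hy; rw [hy, mul_one, one_mul])
  -- `Z J(Q)` is normal in `M`
  have hnq : CfsgLib.PLocal.SLTwo.NoQd p G :=
    CfsgLib.Bender.noQd_of_comm_sylow_two hp S fun x hx y hy => h.comm hx hy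
  obtain ⟨Q⟩ : Nonempty (Sylow p M) := inferInstance
  have hchar := CfsgLib.PLocal.zCore_characteristic hp (CfsgLib.PLocal.goodPred_abelian (G := ↥M) p) hCF Q
    (CfsgLib.PLocal.SLTwo.stableAt_of_noQd hp (CfsgLib.PLocal.SLTwo.noQd_subgroup hnq M) (Q : Subgroup M))
  rw [CfsgLib.PLocal.zCore_abelian_eq] at hchar
  set Q₀ := (Q : Subgroup M).map M.subtype with hQ₀
  set Z := Cfsg.centerThompsonAOf Q₀ with hZ
  have hQp : IsPGroup p Q₀ := Q.2.map _
  have hPQ : P ≤ Q₀ := map_mono (CfsgLib.Core.pCore_le_sylow Q)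
  have hQM : Q₀ ≤ M := map_subtype_le _
  have hZQ : Z ≤ Q₀ := CfsgLib.PLocal.centerThompsonA_le Q₀
  have hZn : M ≤ normalizer (Z : Set G) := by
    haveI := hchar
    rw [hZ, hQ₀, ← CfsgLib.PLocal.centerThompsonA_map M.subtype _
      (by rw [M.ker_subtype]; exact disjoint_bot_right)]
    exact CfsgLib.TwoGroups.Bender.le_normalizer_map_subtype _
  have hZne : Z ≠ ⊥ := CfsgLib.PLocal.centerThompsonA_ne_bot hQp fun e => hPne (le_bot_iff.1 (e ▸ hPQ))
  have hNZ : normalizer (Z : Set G) = M := by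
    refine (hmax.le_iff.1 hZn).resolve_left fun htop => ?_
    rcases (normalizer_eq_top_iff.1 htop).eq_bot_or_eq_top with e | e
    · exact hZne e
    · exact hmax.1 (eq_top_iff.2 (e ▸ hZQ.trans hQM))
  -- `Q` is a Sylow subgroup of `G`
  obtain ⟨R, hR⟩ := hQp.exists_le_sylow
  have hRQ : (R : Subgroup G) = Q₀ := by
    refine le_antisymm ?_ hR
    by_contra hnot
    obtain ⟨g, hgR, hgN, hgQ⟩ := CfsgLib.Techniques.exists_mem_normalizer_not_mem R.2 hR hnot
    have hgM : g ∈ M := hNZ ▸ CfsgLib.PLocal.normalizer_le_normalizer_centerThompsonA Q₀ hgN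
    have hQR : (Q : Subgroup M) ≤ (R : Subgroup G).subgroupOf M := fun x hx => hR ⟨x, hx, rfl⟩
    have heq := Q.3 R.2.comap_subtype hQR
    exact hgQ ⟨⟨g, hgM⟩, heq ▸ (show (⟨g, hgM⟩ : M) ∈ (R : Subgroup G).subgroupOf M from hgR), rfl⟩
  have hfus := CfsgLib.LocalEvenB.controlsFusion_centerThompsonA_noQd (p := p) hp R (R : Subgroup G)
    ⟨le_rfl, fun _ _ _ hgx => hgx⟩ hnq
  rw [hRQ, ← hZ, hNZ] at hfus
  -- `a` centralises the fixed points of every involution of `S`
  have key : ∀ b ∈ (S : Subgroup G), b ≠ 1 → P ⊓ centralizer ({b} : Set G) ≤ centralizer ({a} : Set G) := by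
    intro b hb hb1
    set Y := P ⊓ centralizer ({b} : Set G) with hY
    obtain ⟨σ, hσ, hσb⟩ := h.one_class hb hb1 ha ha1
    have hYb : ∀ y ∈ Y, b * y = y * b := fun y hy => (mem_centralizer_singleton_iff.1 hy.2).symm
    have hσY : ∀ y ∈ Y, σ * y * σ⁻¹ ∈ centralizer ({a} : Set G) := by
      intro y hy
      rw [mem_centralizer_singleton_iff, ← hσb]
      calc σ * y * σ⁻¹ * (σ * b * σ⁻¹) = σ * (y * b) * σ⁻¹ := by group
        _ = σ * (b * y) * σ⁻¹ := by rw [hYb y hy]
        _ = σ * b * σ⁻¹ * (σ * y * σ⁻¹) := by group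
    have hYσ : Y.map (MulAut.conj σ).toMonoidHom ≤ M := by
      rintro _ ⟨y, hy, rfl⟩
      exact hM (hσY y hy)
    obtain ⟨m₀, hm₀⟩ := CfsgLib.Techniques.exists_conj_mem_sylow Q
      (((hPp.to_le (inf_le_left : Y ≤ P)).map (MulAut.conj σ).toMonoidHom).comap_subtype (K := M))
    obtain ⟨n, hn, hne⟩ := hfus Y (inf_le_left.trans hPQ) ((m₀ : G) * σ) fun y hy => by
      refine ⟨m₀ * ⟨σ * y * σ⁻¹, hYσ ⟨y, hy, rfl⟩⟩ * m₀⁻¹, hm₀ _ ⟨y, hy, rfl⟩, ?_⟩
      show (m₀ : G) * (σ * y * σ⁻¹) * (m₀ : G)⁻¹ = _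
      group
    set m := (m₀ : G)⁻¹ * n with hm
    have hmM : m ∈ M := mul_mem (inv_mem m₀.2) hn
    have hmy : ∀ y ∈ Y, m * y * m⁻¹ = σ * y * σ⁻¹ := fun y hy => by
      calc m * y * m⁻¹ = (m₀ : G)⁻¹ * (n * y * n⁻¹) * m₀ := by rw [hm]; group
        _ = (m₀ : G)⁻¹ * ((m₀ : G) * σ * y * ((m₀ : G) * σ)⁻¹) * m₀ := by rw [hne y hy]
        _ = σ * y * σ⁻¹ := by group
    set a' := m⁻¹ * a * m with ha'
    have ha'Y : ∀ y ∈ Y, y * a' = a' * y := fun y hy => by
      have h1 := mem_centralizer_singleton_iff.1 (hσY y hy)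
      rw [← hmy y hy] at h1
      calc y * a' = m⁻¹ * (m * y * m⁻¹ * a) * m := by rw [ha']; group
        _ = m⁻¹ * (a * (m * y * m⁻¹)) * m := by rw [h1]
        _ = a' * y := by rw [ha']; group
    have hOn : M ≤ normalizer (coreIn M : Set G) :=
      CfsgLib.TwoGroups.Bender.le_normalizer_map_subtype (Cfsg.oddCore ↥M)
    have ha'O : a' * a⁻¹ ∈ coreIn M := by
      have h1 := (mem_normalizer_iff.1 (hOn (inv_mem hmM)) _).1 (h.mem_oddCore_of_mem ha ha1 hM hmax.1 hmM)
      convert h1 using 1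
      rw [ha']; group
    set T := M ⊓ centralizer (Y : Set G) with hT
    have hST : (S : Subgroup G) ≤ normalizer (T : Set G) := by
      refine (le_inf (hSM.trans le_normalizer) ?_).trans inf_normalizer_le_normalizer_inf
      refine le_trans ?_ (CfsgLib.Transfer.normalizer_le_normalizer_centralizer Y)
      refine (le_inf (hSM.trans hMP) ?_).trans inf_normalizer_le_normalizer_inf
      exact (h.le_centralizer hb).trans le_normalizer
    have ha'T : a' ∈ T :=
      Subgroup.mem_inf.2 ⟨mul_mem (mul_mem (inv_mem hmM) haM) hmM, mem_centralizer_iff.2 fun y hy => ha'Y y hy⟩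
    obtain ⟨g, hg, hgS⟩ := h.exists_conj_mem (H := (S : Subgroup G) ⊔ T) le_sup_left
      (mem_sup_right ha'T) (by
        rw [ha', show m⁻¹ * a * m * (m⁻¹ * a * m) = m⁻¹ * (a * a) * m by group, h.sq a ha]; group)
    have hg' : g ∈ ((S : Subgroup G) : Set G) * (T : Set G) := by
      rw [← Subgroup.coe_mul_of_left_le_normalizer_right _ _ hST]
      exact hg
    obtain ⟨s, hs, t, ht, rfl⟩ := Set.mem_mul.1 hg'
    have hu : t * a' * t⁻¹ ∈ (S : Subgroup G) := by
      have := mul_mem (mul_mem (inv_mem hs) hgS) hs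
      simpa [mul_assoc] using this
    have huO : t * a' * t⁻¹ * a⁻¹ ∈ coreIn M := by
      have h2 := mul_mem ((mem_normalizer_iff.1 (hOn ht.1) _).1 ha'O)
        (inv_mem (h.mem_oddCore_of_mem ha ha1 hM hmax.1 ht.1))
      convert h2 using 1
      group
    have hua : t * a' * t⁻¹ = a := by
      refine mul_inv_eq_one.1 (CfsgLib.ZStar.eq_one_of_odd_of_sq ?_ ?_)
      · exact ((CfsgLib.GW.DGroup.odd_oddCore ↥M).of_dvd_nat (card_map_dvd _ _)).of_dvd_nat
          (Subgroup.orderOf_dvd_natCard _ huO)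
      · rw [pow_two]; exact h.sq _ (mul_mem hu (inv_mem ha))
    have haT : a ∈ T := hua ▸ mul_mem (mul_mem ht ha'T) (inv_mem ht)
    exact fun y hy => mem_centralizer_singleton_iff.2 (mem_centralizer_iff.1 haT.2 y hy)
  -- so `a` centralises `P`
  have hPC : P ≤ centralizer ({a} : Set G) := by
    haveI : IsMulCommutative ↥(V S a) := ⟨⟨fun x y => Subtype.ext (h.comm x.2.1 y.2.1)⟩⟩
    refine CfsgLib.LocalEven.le_of_centralizers_le (p := 2) (A := V S a)
      (fun x hx => by rw [pow_two]; exact h.sq x hx.1) (by rw [h.card_V ha ha1]; norm_num)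
      ((inf_le_left.trans hSM).trans hMP) ?_ fun v hv hv1 => key v hv.1 hv1
    intro hd
    obtain ⟨k, hk⟩ := hPp.exists_card_eq
    rw [hk] at hd
    exact hp ((Nat.prime_dvd_prime_iff_eq Nat.prime_two (Fact.out : p.Prime)).1
      (Nat.prime_two.dvd_of_dvd_pow hd)).symm
  exact haP (hCP a haM fun y hy => (mem_centralizer_singleton_iff.1 (hPC hy)).symm)

end Setting

end CfsgLib.Walter.Three
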