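import Cfsg.Agent.Lib.Recog.Walter.Three.BenderTwoBasic
import Cfsg.Agent.Lib.Techniques.BenderPair
import Cfsg.Agent.S1312

/-!
Owner: helper11. Walter, case B2 (notes/walter_blueprint_helper15.md), stated for an involution `a`, a
maximal subgroup `M ≥ C(a)` with `E(M) = 1`, `F(M)` of odd order with two prime divisors, and
neighbours `N ≥ C(s)` of the same shape.

* `unique`: every nontrivial `C(a)`-invariant subgroup `Q` of `F(M)` has `N(Q) ≤ M` (two neighbours
  `s, a s` suffice);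
* `false_of_pick`: no `Z ≠ 1` in `F(M) ∩ F(N)` is normalised by `a` and by a `C(a)`-invariant
  `D = [D, a] ≠ 1` in `F(M)`, given that `D` centralises the layers of the overgroups of `N(Z)`;
* `exists_moved`: the subgroup `D`, with its fixed points central;
* `exists_pick`: the choice of `Z` from an elementary group of order eight.
-/

set_option autoImplicit false
set_option linter.all false

namespace CfsgLib.Walter.BendTwo

open Subgroup CfsgLib.LocalEven.GoldS CfsgLib.Components CfsgLib.TwoGroups.Bender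
open CfsgLib.Techniques.BenderPair (part_inf_eq_bot dvd_of_dvd)
open scoped commutatorElement

variable {G : Type*} [Group G]

/-- The hypotheses on the maximal subgroup `M ≥ C(a)`. -/
structure Ctx (a : G) (M : Subgroup G) : Prop where
  hna : ¬ IsMulCommutative G
  sq : a * a = 1
  max : IsCoatom M
  cent : centralizer ({a} : Set G) ≤ M
  layer_bot : Cfsg.layer ↥M = ⊥
  odd : Odd (Nat.card (Cfsg.fittingOf M))
  two : ∃ q r : ℕ, q.Prime ∧ r.Prime ∧ q ≠ r ∧ q ∣ Nat.card (Cfsg.fittingOf M) ∧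
    r ∣ Nat.card (Cfsg.fittingOf M)
  overgroup : ∀ H : Subgroup G, IsCoatom H → centralizer ({a} : Set G) ≤ H → Cfsg.layer ↥H = ⊥

/-- A neighbour `N ≥ C(s)` of `M`, for an involution `s` commuting with `a`. -/
structure Nbr (a s : G) (M N : Subgroup G) : Prop where
  sq : s * s = 1
  comm : a * s = s * a
  max : IsCoatom N
  cent : centralizer ({s} : Set G) ≤ N
  layer_bot : Cfsg.layer ↥N = ⊥
  primes : ∀ q : ℕ, q.Prime → (q ∣ Nat.card (Cfsg.fittingOf N) ↔ q ∣ Nat.card (Cfsg.fittingOf M))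
  ne : N ≠ M

theorem mem_cent {a x : G} : x ∈ centralizer ({a} : Set G) ↔ a * x = x * a := by
  rw [mem_centralizer_singleton_iff]
  exact eq_comm

theorem conj_mem {H : Subgroup G} {g : G} (hg : g ∈ normalizer (H : Set G)) {x : G} (hx : x ∈ H) :
    g * x * g⁻¹ ∈ H := (mem_normalizer_iff.mp hg x).mp hx

variable [Finite G]

theorem fitting_le {H J : Subgroup G}
    (h : ∀ q : ℕ, q.Prime → q ∣ Nat.card (Cfsg.fittingOf H) → part q H ≤ J) :
    Cfsg.fittingOf H ≤ J :=
  le_of_parts le_rfl fun q hq hd => inf_le_left.trans (h q hq hd)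

theorem part_eq_bot {H : Subgroup G} {r : ℕ} [Fact r.Prime]
    (h : ¬ r ∣ Nat.card (Cfsg.fittingOf H)) : part r H = ⊥ :=
  by_contra fun hne => h (dvd_of_part_ne_bot hne)

theorem gFit_eq {M : Subgroup G} (h : Cfsg.layer ↥M = ⊥) :
    (Cfsg.generalizedFittingSubgroup ↥M).map M.subtype = Cfsg.fittingOf M := by
  rw [(gFitting_eq_fitting_iff (G := ↥M)).mpr h]; rfl

theorem gFit_le {H J : Subgroup G} (hL : (Cfsg.layer ↥H).map H.subtype ≤ J)
    (hF : Cfsg.fittingOf H ≤ J) : (Cfsg.generalizedFittingSubgroup ↥H).map H.subtype ≤ J := by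
  rw [Cfsg.generalizedFittingSubgroup, Subgroup.map_sup]
  exact sup_le hL hF

theorem leadsTo_of_normalizer {M H Q : Subgroup G} (hQ : Q ≠ ⊥) (hQF : Q ≤ Cfsg.fittingOf M)
    (h : normalizer (Q : Set G) ≤ H) : Cfsg.leadsTo M H := ⟨Q, hQ, hQF, inf_le_right.trans h⟩

theorem leadsTo_of_le {M H : Subgroup G} (hF : Cfsg.fittingOf M ≠ ⊥)
    (h : (Cfsg.generalizedFittingSubgroup ↥M).map M.subtype ≤ H) : Cfsg.leadsTo M H :=
  ⟨Cfsg.fittingOf M, hF, le_rfl, inf_le_left.trans h⟩

namespace Ctx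

variable {a : G} {M : Subgroup G} (h : Ctx a M)
include h

theorem mem : a ∈ M := h.cent (mem_cent.mpr rfl)

theorem other (q : ℕ) : ∃ r : ℕ, r.Prime ∧ r ≠ q ∧ r ∣ Nat.card (Cfsg.fittingOf M) := by
  obtain ⟨q1, r1, hq1, hr1, hne, hqd, hrd⟩ := h.two
  rcases eq_or_ne q1 q with rfl | hq
  · exact ⟨r1, hr1, hne.symm, hrd⟩
  · exact ⟨q1, hq1, hq, hqd⟩

theorem fitting_ne_bot : Cfsg.fittingOf M ≠ ⊥ := fun hb => by
  obtain ⟨r, hr, -, hd⟩ := h.other 0
  rw [hb, Subgroup.card_bot] at hd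
  exact hr.not_dvd_one hd

theorem odd_prime {q : ℕ} (hd : q ∣ Nat.card (Cfsg.fittingOf M)) : Odd q := h.odd.of_dvd_nat hd

theorem not_isPGroup {p : ℕ} (hp : p.Prime) : ¬ IsPGroup p (Cfsg.fittingOf M) := fun hP => by
  haveI := Fact.mk hp
  obtain ⟨n, hn⟩ := IsPGroup.iff_card.mp hP
  obtain ⟨r, hr, hne, hd⟩ := h.other p
  rw [hn] at hd
  exact hne ((Nat.prime_dvd_prime_iff_eq hr hp).mp (hr.dvd_of_dvd_pow hd))

/-- An overgroup with trivial foreign parts and layer inside `M` is `M`. -/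
theorem eq_of_parts [IsSimpleGroup G] {H : Subgroup G} (hH : IsCoatom H) (hMH : Cfsg.leadsTo M H)
    (hR : ∀ r : ℕ, r.Prime → ¬ r ∣ Nat.card (Cfsg.fittingOf M) → part r H = ⊥)
    (hL : (Cfsg.layer ↥H).map H.subtype ≤ M) (hF : Cfsg.fittingOf H ≠ ⊥) : H = M := by
  have hFM : Cfsg.fittingOf H ≤ M := fitting_le fun q hq hd => by
    haveI := Fact.mk hq
    by_cases hqd : q ∣ Nat.card (Cfsg.fittingOf M)
    · obtain ⟨r, hr, hne, hrd⟩ := h.other q
      haveI := Fact.mk hr
      exact Techniques.BenderPair.part_le h.max hMH hne hqd hrd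
    · rw [hR q hq hqd]; exact bot_le
  have hGM := gFit_le hL hFM
  have hHM : Cfsg.leadsTo H M := leadsTo_of_le hF hGM
  have hMF : Cfsg.fittingOf M ≤ H := fitting_le fun q hq hd => by
    obtain ⟨r, hr, hne, hrd⟩ := h.other q
    haveI := Fact.mk hq
    haveI := Fact.mk hr
    exact Techniques.BenderPair.part_le hH hHM hne (dvd_of_dvd hHM hMH hd) (dvd_of_dvd hHM hMH hrd)
  by_contra hne
  obtain ⟨p, hp, hpM, -⟩ := Cfsg.Agent.S1312.result h.hna M H h.max hH (Ne.symm hne)
    (by rw [gFit_eq h.layer_bot]; exact hMF) hGM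
  have hpM' := hpM.map M.subtype
  rw [gFit_eq h.layer_bot] at hpM'
  exact h.not_isPGroup hp hpM'

/-- `O_2(H)` is trivial when it meets `M` trivially and `a ∈ H`. -/
theorem part_two {H : Subgroup G} (haH : a ∈ H) [Fact (Nat.Prime 2)]
    (hRM : part 2 H ⊓ M = ⊥) : part 2 H = ⊥ := by
  set R := part 2 H
  have haR : ∀ y ∈ R, a * y * a⁻¹ ∈ R := fun y hy => conj_mem (le_normalizer_part 2 H haH) hy
  have hfix : ∀ y ∈ R, a * y = y * a → y = 1 := fun y hy hc =>
    mem_bot.mp (hRM.le ⟨hy, h.cent (mem_cent.mpr hc)⟩)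
  by_contra hne
  haveI : Nontrivial R := (Subgroup.nontrivial_iff_ne_bot R).mpr hne
  have hP : IsPGroup 2 R := isPGroup_part 2 H
  haveI := hP.center_nontrivial
  obtain ⟨n, hn⟩ := IsPGroup.iff_card.mp (hP.to_subgroup (center R))
  have hn0 : n ≠ 0 := by
    rintro rfl
    rw [pow_zero] at hn
    exact absurd hn (Nat.ne_of_gt Finite.one_lt_card)
  obtain ⟨z, hz⟩ := exists_prime_orderOf_dvd_card' (G := center R) 2 (hn ▸ dvd_pow_self 2 hn0)
  set y : G := ((z : R) : G) with hydef
  have hyo : orderOf y = 2 := by rw [hydef, orderOf_coe, orderOf_coe, hz]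
  have hyR : y ∈ R := (z : R).2
  have hy' := haR y hyR
  have hcy : y * (a * y * a⁻¹) = a * y * a⁻¹ * y :=
    (congrArg Subtype.val (mem_center_iff.mp z.2 ⟨_, hy'⟩)).symm
  have hsq : y * y = 1 := by rw [← pow_two, ← hyo, pow_orderOf_eq_one]
  have hfixed : a * (y * (a * y * a⁻¹)) = y * (a * y * a⁻¹) * a := by
    refine commute_iff_conj.2 ?_
    rw [hcy, show a * (a * y * a⁻¹ * y) * a⁻¹ = (a * a) * y * (a * a)⁻¹ * (a * y * a⁻¹) by group,
      h.sq, one_mul, inv_one, mul_one]
    exact hcy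
  have h1 := hfix _ (R.mul_mem hyR hy') hfixed
  have e : a * y * a⁻¹ = y := by
    rw [← mul_left_cancel_iff (a := y), h1, hsq]
  have := hfix y hyR (commute_iff_conj.2 e)
  rw [this, orderOf_one] at hyo
  exact absurd hyo (by norm_num)

/-- For `r` outside `π(F(M))`, `a` inverts `O_r(H)` when it meets `M` trivially. -/
theorem inverted_part {H : Subgroup G} (haH : a ∈ H) {r : ℕ} [Fact r.Prime]
    (hRM : part r H ⊓ M = ⊥) : ∀ x ∈ part r H, Inverted a x := by
  intro x hx
  rcases (Fact.out : r.Prime).eq_two_or_odd' with rfl | hr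
  · rw [h.part_two haH hRM] at hx
    rw [mem_bot.mp hx]; exact Inverted.one a
  · obtain ⟨n, hn⟩ := IsPGroup.iff_card.mp (isPGroup_part r H)
    exact inverted_of_no_fixed h.sq (by rw [hn]; exact hr.pow)
      (fun y hy => conj_mem (le_normalizer_part r H haH) hy)
      (fun y hy hc => mem_bot.mp (hRM.le ⟨hy, h.cent (mem_cent.mpr hc)⟩)) hx

/-- An element of a foreign part centralised by a neighbour involution is trivial, if `C(a) ≤ H`. -/
theorem kill_nbr {H N : Subgroup G} {s : G} (hs : Nbr a s M N)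
    (hCH : centralizer ({a} : Set G) ≤ H) {r : ℕ} [Fact r.Prime]
    (hr : ¬ r ∣ Nat.card (Cfsg.fittingOf M)) (hRM : part r H ⊓ M = ⊥) {x : G} (hx : x ∈ part r H)
    (hsx : s * x = x * s) : x = 1 := by
  have haH : a ∈ H := hCH (mem_cent.mpr rfl)
  have hinv := h.inverted_part haH hRM x hx
  have haN : a ∈ N := hs.cent (mem_cent.mpr hs.comm.symm)
  have hxN : x ∈ N := hs.cent (mem_cent.mpr hsx)
  obtain ⟨k, hk⟩ := CfsgLib.Techniques.BenderPair.isPGroup_orderOf (isPGroup_part r H) hx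
  have hrN : ¬ r ∣ Nat.card (Cfsg.fittingOf N) := fun hd => hr ((hs.primes r Fact.out).mp hd)
  -- `x` is of odd order, as `O_2(H)` is trivial
  have hxo : Odd (orderOf x) := by
    rcases (Fact.out : r.Prime).eq_two_or_odd' with rfl | hro
    · rw [h.part_two haH hRM] at hx
      rw [mem_bot.mp hx, orderOf_one]; decide
    · rw [hk]; exact hro.pow
  have hcent : ∀ q : ℕ, q.Prime → q ∣ Nat.card (Cfsg.fittingOf N) →
      part q N ≤ centralizer ({x} : Set G) := by
    intro q hq hd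
    haveI := Fact.mk hq
    have hqr : r ≠ q := fun e => hrN (e ▸ hd)
    obtain ⟨n, hn⟩ := IsPGroup.iff_card.mp (isPGroup_part q N)
    have hc := inverted_centralizes (isPGroup_part q N)
      (by rw [hn]; exact ((h.odd_prime ((hs.primes q hq).mp hd)).pow)) h.sq
      (fun y hy => conj_mem (le_normalizer_part q N haN) hy) (le_normalizer_part q N hxN) hinv hxo
      (by rw [hk, hn]; exact Nat.coprime_pow_primes k n Fact.out hq hqr)
      (fun f hf hfa => by
        have hfH : f ∈ H := hCH (mem_cent.mpr hfa)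
        have h1 : x * f * x⁻¹ * f⁻¹ ∈ part r H ⊓ part q N := by
          refine ⟨?_, Subgroup.mul_mem _ (conj_mem (le_normalizer_part q N hxN) hf) (inv_mem hf)⟩
          rw [show x * f * x⁻¹ * f⁻¹ = x * (f * x⁻¹ * f⁻¹) by group]
          exact Subgroup.mul_mem _ hx (conj_mem (le_normalizer_part r H hfH) (inv_mem hx))
        have hd1 := (IsPGroup.disjoint_of_ne r q hqr _ _ (isPGroup_part r H) (isPGroup_part q N)).le_bot h1
        exact mul_inv_eq_iff_eq_mul.mp (mul_inv_eq_one.mp (mem_bot.mp hd1)))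
    exact fun y hy => mem_centralizer_singleton_iff.mpr (mem_centralizer_iff.mp hc y hy)
  have hFc : Cfsg.fittingOf N ≤ centralizer ({x} : Set G) := fitting_le hcent
  have hxc : (⟨x, hxN⟩ : ↥N) ∈ centralizer (Cfsg.fittingSubgroup ↥N : Set ↥N) :=
    mem_centralizer_iff.mpr fun f hf => Subtype.ext
      (mem_centralizer_singleton_iff.mp (hFc (mem_map_of_mem _ hf)))
  have hxF : x ∈ Cfsg.fittingOf N :=
    mem_map_of_mem N.subtype (centralizer_fitting_le_of_layer_eq_bot hs.layer_bot hxc)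
  have := mem_part_of_mem hxF hk
  rw [part_eq_bot hrN] at this
  exact mem_bot.mp this

/-- Every nontrivial `C(a)`-invariant subgroup of `F(M)` has its normalizer in `M`. -/
theorem unique [IsSimpleGroup G] {b : G} {N N' : Subgroup G} (hb : Nbr a b M N)
    (hc : Nbr a (a * b) M N') {Q : Subgroup G} (hQ : Q ≠ ⊥) (hQF : Q ≤ Cfsg.fittingOf M)
    (hCQ : centralizer ({a} : Set G) ≤ normalizer (Q : Set G)) :
    normalizer (Q : Set G) ≤ M := by
  have hne : normalizer (Q : Set G) ≠ ⊤ := fun e => by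
    rcases IsSimpleGroup.eq_bot_or_eq_top_of_normal _ (normalizer_eq_top_iff.mp e) with h' | h'
    · exact hQ h'
    · exact h.max.1 (top_le_iff.mp (h'.ge.trans (hQF.trans (fittingOf_le M))))
  obtain ⟨H, hH, hNH⟩ := (eq_top_or_exists_le_coatom (normalizer (Q : Set G))).resolve_left hne
  have hCH := hCQ.trans hNH
  have hMH : Cfsg.leadsTo M H := leadsTo_of_normalizer hQ hQF hNH
  have hlay := h.overgroup H hH hCH
  suffices hR : ∀ r : ℕ, r.Prime → ¬ r ∣ Nat.card (Cfsg.fittingOf M) → part r H = ⊥ by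
    refine hNH.trans (h.eq_of_parts hH hMH hR (by rw [hlay, Subgroup.map_bot]; exact bot_le) fun hF => ?_).le
    haveI : Nontrivial ↥H := by
      refine (Subgroup.nontrivial_iff_ne_bot H).mpr fun hb' => hQ (eq_bot_iff.mpr ?_)
      exact le_normalizer.trans (hNH.trans hb'.le)
    refine gFitting_ne_bot (G := ↥H) ?_
    rw [(gFitting_eq_fitting_iff (G := ↥H)).mpr hlay]
    exact (map_eq_bot_iff_of_injective _ H.subtype_injective).mp hF
  intro r hr hrd
  haveI := Fact.mk hr
  have hRM := part_inf_eq_bot hMH hrd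
  have haH : a ∈ H := hCH (mem_cent.mpr rfl)
  have hbH : b ∈ H := hCH (mem_cent.mpr hb.comm)
  refine eq_bot_iff.mpr fun x hx => mem_bot.mpr ?_
  have hinv := h.inverted_part haH hRM
  rcases eq_or_ne r 2 with rfl | hr2
  · rw [h.part_two haH hRM] at hx
    exact mem_bot.mp hx
  obtain ⟨n, hn⟩ := IsPGroup.iff_card.mp (isPGroup_part r H)
  obtain ⟨f, i, hf, hi, hfb, hib, rfl⟩ := exists_fixed_mul_inverted hb.sq
    (show Odd (Nat.card (part r H)) by rw [hn]; exact (hr.odd_of_ne_two hr2).pow)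
    (fun y hy => conj_mem (le_normalizer_part r H hbH) hy) hx
  have hi' : (a * b) * i = i * (a * b) := by
    refine commute_iff_conj.2 ?_
    calc a * b * i * (a * b)⁻¹ = a * (b * i * b⁻¹) * a⁻¹ := by group
      _ = (a * i * a⁻¹)⁻¹ := by rw [hib]; group
      _ = i := by rw [hinv i hi, inv_inv]
  rw [h.kill_nbr hb hCH hrd hRM hf hfb, h.kill_nbr hc hCH hrd hRM hi hi', one_mul]

/-- **The end of B2.** -/
theorem false_of_pick [IsSimpleGroup G] {b : G} {N N' : Subgroup G} (hb : Nbr a b M N)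
    (hc : Nbr a (a * b) M N') {D Z : Subgroup G} (hD : D ≠ ⊥) (hDF : D ≤ Cfsg.fittingOf M)
    (hCD : centralizer ({a} : Set G) ≤ normalizer (D : Set G)) (hDa : ⁅D, zpowers a⁆ = D)
    {s : G} {L : Subgroup G} (hs : Nbr a s M L) (hZ : Z ≠ ⊥) (hZM : Z ≤ Cfsg.fittingOf M)
    (hZL : Z ≤ Cfsg.fittingOf L) (haZ : a ∈ normalizer (Z : Set G))
    (hDZ : D ≤ normalizer (Z : Set G))
    (hlay : ∀ H : Subgroup G, IsCoatom H → normalizer (Z : Set G) ≤ H →
      (Cfsg.layer ↥H).map H.subtype ≤ centralizer (D : Set G)) : False := by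
  have hCDM : centralizer (D : Set G) ≤ M :=
    (centralizer_le_normalizer _).trans (h.unique hb hc hD hDF hCD)
  have hne : normalizer (Z : Set G) ≠ ⊤ := fun e => by
    rcases IsSimpleGroup.eq_bot_or_eq_top_of_normal _ (normalizer_eq_top_iff.mp e) with h' | h'
    · exact hZ h'
    · exact h.max.1 (top_le_iff.mp (h'.ge.trans (hZM.trans (fittingOf_le M))))
  obtain ⟨H, hH, hNH⟩ := (eq_top_or_exists_le_coatom (normalizer (Z : Set G))).resolve_left hne
  have hMH : Cfsg.leadsTo M H := leadsTo_of_normalizer hZ hZM hNH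
  have hR : ∀ r : ℕ, r.Prime → ¬ r ∣ Nat.card (Cfsg.fittingOf M) → part r H = ⊥ := fun r hr hrd => by
    haveI := Fact.mk hr
    have hRM := part_inf_eq_bot hMH hrd
    have hDR := commutator_centralizes_inverted h.sq
      ((hDZ.trans hNH).trans (le_normalizer_part r H)) (h.inverted_part (hNH haZ) hRM)
    rw [hDa] at hDR
    exact eq_bot_iff.mpr fun x hx => hRM.le ⟨hx, hCDM (le_centralizer_iff.mp hDR hx)⟩
  have hL : (Cfsg.layer ↥H).map H.subtype ≤ M := (hlay H hH hNH).trans hCDM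
  have hF : Cfsg.fittingOf H ≠ ⊥ := fun hb' => by
    -- otherwise `D` would centralise `F*(H) = E(H)`
    obtain ⟨d, hd, hd1⟩ := (Subgroup.bot_or_exists_ne_one D).resolve_left hD
    have hF0 : Cfsg.fittingSubgroup ↥H = ⊥ := (map_eq_bot_iff_of_injective _ H.subtype_injective).mp hb'
    have hdH : d ∈ H := hNH (hDZ hd)
    have hdc : (⟨d, hdH⟩ : ↥H) ∈ centralizer (Cfsg.generalizedFittingSubgroup ↥H : Set ↥H) := by
      rw [centralizer_gFitting, hF0]
      exact ⟨mem_centralizer_iff.mpr fun e he => Subtype.ext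
          (mem_centralizer_iff.mp (hlay H hH hNH (mem_map_of_mem _ he)) d hd).symm,
        mem_centralizer_iff.mpr fun e he => by rw [mem_bot.mp he, one_mul, mul_one]⟩
    haveI := gFitting_normal (G := ↥H)
    set Y := centralizer (Cfsg.generalizedFittingSubgroup ↥H : Set ↥H)
    haveI : IsMulCommutative Y := ⟨⟨fun u v => Subtype.ext
      (mem_centralizer_iff.mp v.2 u (centralizer_gFitting_le u.2))⟩⟩
    have hYn : Group.IsNilpotent Y := by
      letI : CommGroup Y := { (inferInstance : Group Y) with mul_comm := fun u v => Std.Commutative.comm u v }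
      exact CommGroup.isNilpotent
    have := CfsgLib.Components.le_fitting (N := Y) inferInstance hYn hdc
    rw [hF0, mem_bot] at this
    exact hd1 (congrArg Subtype.val this)
  have hHM := h.eq_of_parts hH hMH hR hL hF
  rw [hHM] at hNH
  have hLM : Cfsg.leadsTo L M := leadsTo_of_normalizer hZ hZL hNH
  have hFML : Cfsg.fittingOf M ≤ L := fitting_le fun q hq hd => by
    obtain ⟨r, hr, hne', hrd⟩ := h.other q
    haveI := Fact.mk hq
    haveI := Fact.mk hr
    exact Techniques.BenderPair.part_le hs.max hLM hne' ((hs.primes q hq).mpr hd) ((hs.primes r hr).mpr hrd)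
  have hML : Cfsg.leadsTo M L := leadsTo_of_le h.fitting_ne_bot (by rw [gFit_eq h.layer_bot]; exact hFML)
  have hFLM : Cfsg.fittingOf L ≤ M := fitting_le fun q hq hd => by
    obtain ⟨r, hr, hne', hrd⟩ := h.other q
    haveI := Fact.mk hq
    haveI := Fact.mk hr
    exact Techniques.BenderPair.part_le h.max hML hne' ((hs.primes q hq).mp hd) hrd
  obtain ⟨p, hp, hpM, -⟩ := Cfsg.Agent.S1312.result h.hna M L h.max hs.max (Ne.symm hs.ne)
    (by rw [gFit_eq h.layer_bot]; exact hFML) (by rw [gFit_eq hs.layer_bot]; exact hFLM)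
  have hpM' := hpM.map M.subtype
  rw [gFit_eq h.layer_bot] at hpM'
  exact h.not_isPGroup hp hpM'

end Ctx

end CfsgLib.Walter.BendTwo
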