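import Cfsg.Agent.Lib.LocalEven.GoldS.Inverted
import Cfsg.Agent.Lib.Techniques.Basic

/-!
Owner: helper11. Small facts on an involution acting on groups of odd order, for Walter's case B2
(notes/walter_blueprint_helper15.md).

* `commutator_centralizes_inverted`: what is `[X, a]` centralises a normalised group inverted by `a`;
* `commutator_centralizes_fixed`: likewise for a normalised group fixed by `a`;
* `inverted_centralizes`: an element inverted by `a` that normalises an odd `p`-group `Q` and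
  centralises `C_Q(a)` centralises `Q`.
-/

set_option autoImplicit false
set_option linter.all false

namespace CfsgLib.Walter.BendTwo

open Subgroup CfsgLib.LocalEven.GoldS
open scoped commutatorElement

variable {G : Type*} [Group G]

theorem inv_of_sq {a : G} (ha : a * a = 1) : a⁻¹ = a := inv_eq_of_mul_eq_one_right ha

/-- the elements of `⟨a⟩` -/
theorem eq_of_mem_zpowers {a z : G} (ha : a * a = 1) (hz : z ∈ zpowers a) : z = 1 ∨ z = a := by
  obtain ⟨n, rfl⟩ := hz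
  rcases Int.even_or_odd' n with ⟨k, rfl | rfl⟩
  · left
    show a ^ (2 * k) = 1
    rw [zpow_mul, zpow_two, ha, one_zpow]
  · right
    show a ^ (2 * k + 1) = a
    rw [zpow_add, zpow_mul, zpow_two, ha, one_zpow, one_mul, zpow_one]

/-- generators of `[X, a]` -/
theorem commutator_zpowers_le {a : G} (ha : a * a = 1) {X J : Subgroup G}
    (h : ∀ x ∈ X, ⁅x, a⁆ ∈ J) : ⁅X, zpowers a⁆ ≤ J := by
  rw [commutator_le]
  intro x hx z hz
  rcases eq_of_mem_zpowers ha hz with rfl | rfl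
  · rw [commutatorElement_one_right]; exact J.one_mem
  · exact h x hx

/-- `[x, a]` is inverted by `a`. -/
theorem inverted_commutator {a : G} (ha : a * a = 1) (x : G) : Inverted a ⁅x, a⁆ := by
  unfold Inverted
  simp only [commutatorElement_def, mul_inv_rev, inv_inv, inv_of_sq ha]
  simp [mul_assoc, ha, inv_of_sq ha]

theorem commutator_centralizes_inverted {a : G} (ha : a * a = 1) {X R : Subgroup G}
    (hXR : X ≤ normalizer (R : Set G)) (hR : ∀ r ∈ R, Inverted a r) :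
    ⁅X, zpowers a⁆ ≤ centralizer (R : Set G) := by
  refine commutator_zpowers_le ha fun x hx => mem_centralizer_iff.mpr fun r hr => ?_
  have h1 : x⁻¹ * r * x ∈ R := (mem_normalizer_iff''.mp (hXR hx) r).mp hr
  have h2 : a * (x⁻¹ * r * x) * a⁻¹ = (x⁻¹ * r * x)⁻¹ := hR _ h1
  have h3 : a * r * a⁻¹ = r⁻¹ := hR r hr
  -- conjugation by `x a x⁻¹ a⁻¹` fixes `r`
  have key : ⁅x, a⁆ * r * ⁅x, a⁆⁻¹ = r := by
    have e : ⁅x, a⁆ * r * ⁅x, a⁆⁻¹ = x * (a * (x⁻¹ * (a⁻¹ * r * a) * x) * a⁻¹) * x⁻¹ := by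
      simp only [commutatorElement_def]; group
    have e2 : a⁻¹ * r * a = r⁻¹ := by
      have h3' := h3
      rw [inv_of_sq ha] at h3' ⊢
      exact h3'
    rw [e, e2, show x⁻¹ * r⁻¹ * x = (x⁻¹ * r * x)⁻¹ by group,
      show a * (x⁻¹ * r * x)⁻¹ * a⁻¹ = (a * (x⁻¹ * r * x) * a⁻¹)⁻¹ by group, h2, inv_inv]
    group
  exact (mul_inv_eq_iff_eq_mul.mp key).symm

theorem commutator_centralizes_fixed {a : G} (ha : a * a = 1) {X R : Subgroup G}
    (hXR : X ≤ normalizer (R : Set G)) (hR : ∀ r ∈ R, a * r = r * a) :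
    ⁅X, zpowers a⁆ ≤ centralizer (R : Set G) := by
  refine commutator_zpowers_le ha fun x hx => mem_centralizer_iff.mpr fun r hr => ?_
  have h1 : x⁻¹ * r * x ∈ R := (mem_normalizer_iff''.mp (hXR hx) r).mp hr
  have h2 : a * (x⁻¹ * r * x) * a⁻¹ = x⁻¹ * r * x := commute_iff_conj.1 (hR _ h1)
  have key : ⁅x, a⁆ * r * ⁅x, a⁆⁻¹ = r := by
    have e : ⁅x, a⁆ * r * ⁅x, a⁆⁻¹ = x * (a * (x⁻¹ * (a⁻¹ * r * a) * x) * a⁻¹) * x⁻¹ := by
      simp only [commutatorElement_def]; group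
    have e2 : a⁻¹ * r * a = r := by
      rw [inv_of_sq ha]
      have h3 := commute_iff_conj.1 (hR r hr)
      rwa [inv_of_sq ha] at h3
    rw [e, e2, h2]
    group
  exact (mul_inv_eq_iff_eq_mul.mp key).symm

variable [Finite G]

/-- An element inverted by `a` that normalises an odd `p`-group and centralises its `a`-fixed points
centralises it. -/
theorem inverted_centralizes {q : ℕ} [Fact q.Prime] {a y : G} {Q : Subgroup G} (hQ : IsPGroup q Q)
    (hQodd : Odd (Nat.card Q)) (ha : a * a = 1) (haQ : ∀ x ∈ Q, a * x * a⁻¹ ∈ Q)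
    (hyQ : y ∈ normalizer (Q : Set G)) (hy : Inverted a y) (hyo : Odd (orderOf y))
    (hcop : (orderOf y).Coprime (Nat.card Q))
    (hfix : ∀ f ∈ Q, a * f = f * a → y * f = f * y) : y ∈ centralizer (Q : Set G) := by
  have ha' := inv_of_sq ha
  set K := Q ⊓ centralizer ({y} : Set G) with hKdef
  suffices hle : Q ≤ K from
    mem_centralizer_iff.mpr fun x hx => mem_centralizer_singleton_iff.mp (hle hx).2
  by_contra hne
  obtain ⟨g, hgQ, hgN, hgK⟩ :=
    CfsgLib.Techniques.exists_mem_normalizer_not_mem hQ (inf_le_left : K ≤ Q) hne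
  have hmemK : ∀ {k : G}, k ∈ K ↔ k ∈ Q ∧ y * k = k * y := by
    intro k
    rw [hKdef, Subgroup.mem_inf, mem_centralizer_singleton_iff]
    exact ⟨fun h => ⟨h.1, h.2.symm⟩, fun h => ⟨h.1, h.2.symm⟩⟩
  -- `a` and `y` act on `N = N_Q(K)`
  set N := Q ⊓ normalizer (K : Set G) with hNdef
  have hyK : y ∈ normalizer (K : Set G) := by
    refine mem_normalizer_iff.mpr fun k => ⟨fun hk => ?_, fun hk => ?_⟩
    · rw [mul_inv_eq_iff_eq_mul.mpr (hmemK.mp hk).2]; exact hk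
    · have h := (hmemK.mp hk).2
      have : y * k * y⁻¹ = k := by
        have h' : y * (y * k * y⁻¹) * y⁻¹ = y * k * y⁻¹ := mul_inv_eq_iff_eq_mul.mpr h
        calc y * k * y⁻¹ = y⁻¹ * (y * (y * k * y⁻¹) * y⁻¹) * y := by group
          _ = y⁻¹ * (y * k * y⁻¹) * y := by rw [h']
          _ = k := by group
      rwa [this] at hk
  have hyN : y ∈ normalizer (N : Set G) :=
    inf_normalizer_le_normalizer_inf ⟨hyQ, le_normalizer hyK⟩
  have haK : ∀ k ∈ K, a * k * a⁻¹ ∈ K := fun k hk => by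
    refine hmemK.mpr ⟨haQ k (hmemK.mp hk).1, ?_⟩
    have h1 : y⁻¹ * k = k * y⁻¹ := Commute.inv_left (hmemK.mp hk).2
    have h2 : a * y⁻¹ * a⁻¹ = y := by
      rw [show a * y⁻¹ * a⁻¹ = (a * y * a⁻¹)⁻¹ by group, hy, inv_inv]
    calc y * (a * k * a⁻¹) = a * y⁻¹ * a⁻¹ * (a * k * a⁻¹) := by rw [h2]
      _ = a * (y⁻¹ * k) * a⁻¹ := by group
      _ = a * (k * y⁻¹) * a⁻¹ := by rw [h1]
      _ = a * k * a⁻¹ * (a * y⁻¹ * a⁻¹) := by group
      _ = _ := by rw [h2]
  have haN : ∀ x ∈ N, a * x * a⁻¹ ∈ N := fun x hx => by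
    refine ⟨haQ x hx.1, ?_⟩
    have haKn : a ∈ normalizer (K : Set G) := mem_normalizer_iff.mpr fun k => ⟨haK k, fun hk => by
      have := haK _ hk
      rwa [ha', show a * (a * k * a) * a = (a * a) * k * (a * a) by group, ha, one_mul, mul_one] at this⟩
    exact (normalizer (K : Set G)).mul_mem ((normalizer (K : Set G)).mul_mem haKn hx.2)
      ((normalizer (K : Set G)).inv_mem haKn)
  have hNodd : Odd (Nat.card N) := hQodd.of_dvd_nat (card_dvd_of_le inf_le_left)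
  -- modulo `K`, `a` inverts `N`
  have hinv : ∀ n ∈ N, ∃ k ∈ K, a * n * a⁻¹ = n⁻¹ * k := by
    intro n hn
    obtain ⟨f, i, hf, hi, hfa, hia, rfl⟩ := exists_fixed_mul_inverted ha hNodd haN hn
    have hfK : f ∈ K := hmemK.mpr ⟨hf.1, hfix f hf.1 hfa⟩
    refine ⟨f * (i * f * i⁻¹), K.mul_mem hfK ((mem_normalizer_iff.mp (mem_inf.mp hi).2 f).mp hfK), ?_⟩
    calc a * (f * i) * a⁻¹ = (a * f * a⁻¹) * (a * i * a⁻¹) := by group
      _ = f * i⁻¹ := by rw [commute_iff_conj.1 hfa, hia]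
      _ = _ := by group
  obtain ⟨f, i, hf, hi, hfa, hia, rfl⟩ :=
    exists_fixed_mul_inverted ha hNodd haN (show g ∈ N from ⟨hgQ, hgN⟩)
  have hfK : f ∈ K := hmemK.mpr ⟨hf.1, hfix f hf.1 hfa⟩
  refine hgK (K.mul_mem hfK (hmemK.mpr ⟨hi.1, ?_⟩))
  have hn' : y * i * y⁻¹ ∈ N := (mem_normalizer_iff.mp hyN i).mp hi
  obtain ⟨k, hk, hk'⟩ := hinv _ hn'
  have hky : y * k = k * y := (hmemK.mp hk).2
  have e1 : y⁻¹ * i⁻¹ * y = y * i⁻¹ * y⁻¹ * k := by
    calc y⁻¹ * i⁻¹ * y = (a * y * a⁻¹) * (a * i * a⁻¹) * (a * y * a⁻¹)⁻¹ := by rw [hy, hia, inv_inv]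
      _ = a * (y * i * y⁻¹) * a⁻¹ := by group
      _ = (y * i * y⁻¹)⁻¹ * k := hk'
      _ = _ := by group
  have hstep : (y * y)⁻¹ * i⁻¹ * (y * y) = i⁻¹ * k := by
    calc (y * y)⁻¹ * i⁻¹ * (y * y) = y⁻¹ * (y⁻¹ * i⁻¹ * y) * y := by group
      _ = y⁻¹ * (y * i⁻¹ * y⁻¹ * k) * y := by rw [e1]
      _ = i⁻¹ * (y⁻¹ * (k * y)) := by group
      _ = i⁻¹ * (y⁻¹ * (y * k)) := by rw [hky]
      _ = _ := by group
  have hk2 : k * (y * y) = y * y * k := by
    rw [← mul_assoc, ← hky, mul_assoc, ← hky, ← mul_assoc]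
  have hiter : ∀ n : ℕ, ((y * y) ^ n)⁻¹ * i⁻¹ * (y * y) ^ n = i⁻¹ * k ^ n := by
    intro n
    induction n with
    | zero => simp
    | succ n ih =>
      calc ((y * y) ^ (n + 1))⁻¹ * i⁻¹ * (y * y) ^ (n + 1)
          = (y * y)⁻¹ * (((y * y) ^ n)⁻¹ * i⁻¹ * (y * y) ^ n) * (y * y) := by rw [pow_succ]; group
        _ = (y * y)⁻¹ * i⁻¹ * (k ^ n * (y * y)) := by rw [ih]; group
        _ = (y * y)⁻¹ * i⁻¹ * ((y * y) * k ^ n) := by rw [(Commute.pow_left hk2 n).eq]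
        _ = (y * y)⁻¹ * i⁻¹ * (y * y) * k ^ n := by group
        _ = _ := by rw [hstep, pow_succ']; group
  have hk1 : k = 1 := by
    have h := hiter (orderOf y)
    rw [← pow_two, ← pow_mul, mul_comm 2, pow_mul, pow_orderOf_eq_one, one_pow, inv_one, one_mul,
      mul_one, left_eq_mul] at h
    exact orderOf_eq_one_iff.mp
      (Nat.eq_one_of_dvd_coprimes hcop (orderOf_dvd_of_pow_eq_one h) (Q.orderOf_dvd_natCard (hmemK.mp hk).1))
  rw [hk1, mul_one, mul_assoc, inv_mul_eq_iff_eq_mul] at hstep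
  have h3 : i⁻¹ * y = y * i⁻¹ := commute_of_commute_sq hyo hstep
  calc y * i = i * (i⁻¹ * y) * i := by group
    _ = i * (y * i⁻¹) * i := by rw [h3]
    _ = i * y := by group

end CfsgLib.Walter.BendTwo
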