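import Cfsg.Agent.Lib.AbelianSolvCent.Embedded
import Cfsg.Agent.Lib.Signalizer.Solvable.Cores
import Cfsg.Agent.Lib.InvCentTwoNilp.G4Core
import Cfsg.Agent.Lib.Bender.Gen.NoMoveZJ
import Cfsg.Agent.Lib.PLocal.SLTwo.ZJFusion
import Cfsg.Agent.Lib.PLocal.PStable
import Cfsg.Agent.S0217

/-!
Owner: helper23. Walter, step B3 (any rank): the centralizer of an involution `a` is not maximal when `a` is
the only involution of `S` centralizing some `O_p(C(a))`, `p` odd, and `N(S)` is transitive on `S#`.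

No structure of `C(a)/O(C(a))` is used.
-/

set_option autoImplicit false
set_option linter.style.haveILetI false
set_option linter.unusedSectionVars false

namespace CfsgLib.Walter

open Subgroup
open CfsgLib.AbelianSolvCent (AbSylow)
open CfsgLib.Signalizer.Solv (oq oq_le oq_isPGroup le_normalizer_oq le_oq)

universe u

variable {G : Type u} [Group G] [Finite G]

/-- `O_p(C(x))`. -/
abbrev cenCore (p : ℕ) (x : G) : Subgroup G := oq p (centralizer ({x} : Set G))

theorem cenCore_le (p : ℕ) (x : G) : cenCore p x ≤ centralizer ({x} : Set G) := oq_le p _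

theorem cenCore_conj {p : ℕ} {x y g : G} (h : g * x * g⁻¹ = y) {w : G} (hw : w ∈ cenCore p x) :
    g * w * g⁻¹ ∈ cenCore p y := by
  subst h
  have hle : (cenCore p x).map (MulAut.conj g).toMonoidHom ≤ cenCore p (g * x * g⁻¹) := by
    refine le_oq ?_ ((oq_isPGroup p _).map _) ?_
    · rintro _ ⟨w, hw, rfl⟩
      have hc : Commute w x := mem_centralizer_singleton_iff.1 (cenCore_le p x hw)
      exact mem_centralizer_singleton_iff.2 (hc.map (MulAut.conj g)).eq
    · intro c hc
      have hc' : g⁻¹ * c * g ∈ centralizer ({x} : Set G) := by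
        have h1 : Commute c (g * x * g⁻¹) := mem_centralizer_singleton_iff.1 hc
        have h2 := h1.map (MulAut.conj g⁻¹)
        simp only [MulAut.conj_apply, inv_inv] at h2
        exact mem_centralizer_singleton_iff.2 (by
          simpa [mul_assoc] using h2.eq)
      refine CfsgLib.Signalizer.Solv.mem_normalizer_of_forall_le ?_
      rintro _ ⟨w, hw, rfl⟩
      refine ⟨(g⁻¹ * c * g) * w * (g⁻¹ * c * g)⁻¹,
        (mem_normalizer_iff.1 (le_normalizer_oq p _ hc') w).1 hw, ?_⟩
      simp [mul_assoc]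
  exact hle ⟨w, hw, rfl⟩

/-- **Step B3.** -/
theorem not_isCoatom_centralizer [IsSimpleGroup G] (hab : AbSylow G) (S : Sylow 2 G)
    (hSel : ∀ s ∈ (S : Subgroup G), s ^ 2 = 1) (hS8 : 8 ≤ Nat.card (S : Subgroup G))
    (htr : ∀ u ∈ (S : Subgroup G), ∀ v ∈ (S : Subgroup G), u ≠ 1 → v ≠ 1 →
      ∃ n ∈ normalizer ((S : Subgroup G) : Set G), n * u * n⁻¹ = v)
    {a : G} (haS : a ∈ (S : Subgroup G)) (ha1 : a ≠ 1) {p : ℕ} [Fact p.Prime] (hp : p ≠ 2)
    (hcent : ∀ s ∈ (S : Subgroup G), s ≠ 1 → (∀ y ∈ cenCore p a, Commute s y) → s = a) :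
    ¬ IsCoatom (centralizer ({a} : Set G)) := by
  intro hmax
  haveI : Fact (Nat.Prime 2) := ⟨Nat.prime_two⟩
  have hpp : p.Prime := Fact.out
  set M := centralizer ({a} : Set G) with hM
  set P := cenCore p a with hP
  have hPM : P ≤ M := cenCore_le p a
  have hPp : IsPGroup p P := oq_isPGroup p _
  have hMP : M ≤ normalizer (P : Set G) := le_normalizer_oq p _
  have hScomm : ∀ s ∈ (S : Subgroup G), ∀ t ∈ (S : Subgroup G), s * t = t * s := fun s hs t ht =>
    congrArg Subtype.val ((hab S).is_comm.comm ⟨s, hs⟩ ⟨t, ht⟩)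
  have hSM : (S : Subgroup G) ≤ M := fun s hs => mem_centralizer_singleton_iff.2 (hScomm s hs a haS)
  have haM : ∀ m ∈ M, Commute m a := fun m hm => mem_centralizer_singleton_iff.1 hm
  -- elements of `S` other than `1, a`
  obtain ⟨v, hvS, hv1, hva⟩ : ∃ v ∈ (S : Subgroup G), v ≠ 1 ∧ v ≠ a := by
    by_contra hcon
    push Not at hcon
    have hsub : ((S : Subgroup G) : Set G) ⊆ {1, a} := fun s hs => by
      rcases eq_or_ne s 1 with rfl | h
      · exact Or.inl rfl
      · exact Or.inr (hcon s hs h)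
    have h2 : ((S : Subgroup G) : Set G).ncard ≤ 2 := le_trans
      (Set.ncard_le_ncard hsub (Set.toFinite _)) ((Set.ncard_insert_le _ _).trans (by simp))
    rw [← Nat.card_coe_set_eq] at h2
    exact absurd (le_trans hS8 h2) (by norm_num)
  have hPne : P ≠ ⊥ := fun h => hva (hcent v hvS hv1 fun y hy => by
    rw [h, mem_bot] at hy
    exact hy ▸ Commute.one_right v)
  -- the only involution of `M` centralizing `P`
  have hinvP : ∀ u : G, u ∈ M → u ^ 2 = 1 → u ≠ 1 → (∀ y ∈ P, Commute u y) → u = a := by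
    intro u huM hu2 hu1 huP
    have hiT : ¬ 2 ∣ (S : Subgroup G).relIndex M := fun hd =>
      S.not_dvd_index (hd.trans (relIndex_dvd_index_of_le hSM))
    have hzu : IsPGroup 2 (zpowers u) := IsPGroup.of_card (n := 1) (by
      rw [Nat.card_zpowers, pow_one]; exact orderOf_eq_prime hu2 hu1)
    obtain ⟨m, hm, hmS⟩ := CfsgLib.Transfer.exists_conj_le S.2 hiT (zpowers_le.2 huM) hzu
    have h1 := hmS u (mem_zpowers u)
    have h2 : m⁻¹ * u * m = a := by
      refine hcent _ h1 (fun h => hu1 ?_) fun y hy => ?_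
      · calc u = m * (m⁻¹ * u * m) * m⁻¹ := by group
          _ = 1 := by rw [h]; group
      · have hy' : m * y * m⁻¹ ∈ P := (mem_normalizer_iff.1 (hMP hm) y).1 hy
        have := (huP _ hy').map (MulAut.conj m⁻¹)
        simpa [mul_assoc] using this
    calc u = m * (m⁻¹ * u * m) * m⁻¹ := by group
      _ = m * a * m⁻¹ := by rw [h2]
      _ = a := by rw [(haM m hm).eq, mul_inv_cancel_right]
  -- `N(X) = M` for nontrivial `p`-subgroups `X` normalized by `M`
  have hnorm : ∀ X : Subgroup G, IsPGroup p X → X ≠ ⊥ → X ≤ M → M ≤ normalizer (X : Set G) →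
      normalizer (X : Set G) = M := by
    intro X _ hX hXM hn
    refine (hmax.le_iff.1 hn).resolve_left fun htop => ?_
    rcases (normalizer_eq_top_iff.1 htop).eq_bot_or_eq_top with h | h
    · exact hX h
    · exact hmax.1 (eq_top_iff.2 (h ▸ hXM))
  have hNP : normalizer (P : Set G) = M := hnorm P hPp hPne hPM hMP
  -- a Sylow subgroup of `M` and `Z(J)` of it
  obtain ⟨Q, hPQ, hQM, hQp, hQi⟩ := CfsgLib.Transfer.exists_sylow_of_le hPM hPp
  set Z := Cfsg.centerThompsonAOf Q with hZ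
  have hZQ : Z ≤ Q := CfsgLib.PLocal.centerThompsonA_le Q
  have hQne : Q ≠ ⊥ := fun h => hPne (le_bot_iff.1 (h ▸ hPQ))
  set Z2 := (center P).map P.subtype ⊓ Z with hZ2
  have hZPn : M ≤ normalizer (((center P).map P.subtype : Subgroup G) : Set G) := by
    intro m hm
    refine CfsgLib.Signalizer.Solv.mem_normalizer_of_forall_le ?_
    rintro _ ⟨z, hz, rfl⟩
    have hz' := (mem_normalizer_iff.1 (hMP hm) z).1 z.2
    refine ⟨⟨_, hz'⟩, mem_center_iff.2 fun q => Subtype.ext ?_, rfl⟩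
    have hq' : m⁻¹ * (q : G) * m ∈ P := by
      have := (mem_normalizer_iff.1 (hMP (inv_mem hm)) q).1 q.2
      rwa [inv_inv] at this
    have e : Commute (m⁻¹ * (q : G) * m) z := congrArg Subtype.val (mem_center_iff.1 hz ⟨_, hq'⟩)
    have := e.map (MulAut.conj m)
    simpa [mul_assoc] using this.eq
  haveI hnq : CfsgLib.PLocal.SLTwo.NoQd p M := by
    obtain ⟨T⟩ : Nonempty (Sylow 2 M) := inferInstance
    exact CfsgLib.Bender.noQd_of_comm_sylow_two hp T fun x hx y hy =>
      congrArg Subtype.val ((CfsgLib.AbelianSolvCent.abSylow_subgroup hab M T).is_comm.comm ⟨x, hx⟩ ⟨y, hy⟩)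
  have hQsyl : ∃ Q' : Sylow p M, (Q' : Subgroup M).map M.subtype = Q := by
    refine ⟨(hQp.comap_subtype (K := M)).toSylow hQi, ?_⟩
    exact subgroupOf_map_subtype .. |>.trans (inf_eq_left.2 hQM)
  obtain ⟨Q', hQ'⟩ := hQsyl
  have hZ2n : M ≤ normalizer (Z2 : Set G) := by
    set B := ((center P).map P.subtype).subgroupOf M with hB
    haveI hBn : B.Normal := (normal_subgroupOf_iff_le_normalizer
      ((map_subtype_le _).trans hPM)).2 hZPn
    have hBp : IsPGroup p B := (hPp.to_le (map_subtype_le _)).comap_subtype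
    have h1 := CfsgLib.PLocal.inf_zCore_normal hp (CfsgLib.PLocal.goodPred_abelian (G := M) p) Q'
      (CfsgLib.PLocal.SLTwo.stableAt_of_noQd hp hnq (Q' : Subgroup M)) B hBn hBp
    rw [CfsgLib.PLocal.zCore_abelian_eq] at h1
    have h2 : Z2 = (B ⊓ Cfsg.centerThompsonAOf (Q' : Subgroup M)).map M.subtype := by
      rw [map_inf _ _ _ M.subtype_injective, CfsgLib.PLocal.centerThompsonA_map M.subtype _
        (by rw [M.ker_subtype]; exact disjoint_bot_right), hQ', hB,
        map_subgroupOf_eq_of_le ((map_subtype_le _).trans hPM)]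
    rw [h2]
    haveI := h1
    exact CfsgLib.Signalizer.Solv.le_normalizer_map_normal _
  have hZ2ne : Z2 ≠ ⊥ := by
    haveI : Nontrivial P := (nontrivial_iff_ne_bot P).2 hPne
    haveI := hPp.center_nontrivial
    haveI hn : (((center P).map P.subtype).subgroupOf Q).Normal :=
      (normal_subgroupOf_iff_le_normalizer ((map_subtype_le _).trans hPQ)).2 (hQM.trans hZPn)
    have hne : ((center P).map P.subtype).subgroupOf Q ≠ ⊥ := fun h => by
      have h1 := congrArg (Subgroup.map Q.subtype) h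
      rw [map_subgroupOf_eq_of_le ((map_subtype_le _).trans hPQ), Subgroup.map_bot,
        map_eq_bot_iff_of_injective _ P.subtype_injective] at h1
      exact (nontrivial_iff_ne_bot _).1 inferInstance h1
    obtain ⟨z, hz, hzc, hzo⟩ := CfsgLib.Transfer.exists_mem_center_orderOf_eq hQp hne
    intro h
    have hzZ : (z : G) ∈ Z := by
      rw [hZ, ← CfsgLib.PLocal.zCore_abelian_eq, CfsgLib.PLocal.zCore, Subgroup.mem_sInf]
      intro A hA
      have hc : zpowers (z : G) ≤ centralizer (A : Set G) := zpowers_le.2 (mem_centralizer_iff.2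
        fun y hy => congrArg Subtype.val (mem_center_iff.1 hzc ⟨y, hA.1 hy⟩))
      have hcm : IsMulCommutative (zpowers (z : G) ⊔ A : Subgroup G) := by
        refine le_centralizer_iff_isMulCommutative.1 ?_
        rw [CfsgLib.PLocal.centralizer_sup]
        exact le_inf (sup_le (le_centralizer_iff_isMulCommutative.2 inferInstance)
          (le_centralizer_iff.1 hc))
          (sup_le hc (le_centralizer_iff_isMulCommutative.2 hA.2.1))
      have := eq_of_le_of_card_ge (le_sup_right : A ≤ zpowers (z : G) ⊔ A)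
        (hA.2.2 _ (sup_le (zpowers_le.2 z.2) hA.1) hcm)
      rw [this]
      exact (le_sup_left : zpowers (z : G) ≤ _) (mem_zpowers _)
    have hzb : (z : G) ∈ Z2 := ⟨hz, hzZ⟩
    rw [h, mem_bot] at hzb
    rw [show z = 1 from Subtype.ext hzb, orderOf_one] at hzo
    exact hpp.ne_one hzo.symm
  have hNZ2 : normalizer (Z2 : Set G) = M := hnorm Z2 ((hPp.to_le (map_subtype_le _)).to_le inf_le_left)
    hZ2ne (inf_le_left.trans ((map_subtype_le _).trans hPM)) hZ2n
  have hCZ : centralizer (Z : Set G) ≤ M :=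
    hNZ2 ▸ (centralizer_le (SetLike.coe_subset_coe.2 inf_le_right)).trans (centralizer_le_normalizer _)
  -- `N(Z J(Q)) ≤ M`
  have hNZ : normalizer (Z : Set G) ≤ M := by
    intro n hn
    have haC : a ∈ centralizer (Z : Set G) := mem_centralizer_iff.2 fun z hz => (haM z (hQM (hZQ hz))).eq
    have huC : n * a * n⁻¹ ∈ centralizer (Z : Set G) :=
      (mem_normalizer_iff.1 (CfsgLib.Transfer.normalizer_le_normalizer_centralizer Z hn) a).1 haC
    set u := n * a * n⁻¹ with hu
    have hu2 : u * u = 1 := by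
      rw [hu, show n * a * n⁻¹ * (n * a * n⁻¹) = n * (a * a) * n⁻¹ by group, ← sq, hSel a haS]
      group
    have hu1 : u ≠ 1 := fun h => ha1 (by
      calc a = n⁻¹ * u * n := by rw [hu]; group
        _ = 1 := by rw [h]; group)
    -- `u` is central in `C(Z)`
    have hucen : ∀ c ∈ centralizer (Z : Set G), Commute c u := by
      intro c hc
      have hc' : n⁻¹ * c * n ∈ centralizer (Z : Set G) := by
        have := (mem_normalizer_iff.1
          (CfsgLib.Transfer.normalizer_le_normalizer_centralizer Z (inv_mem hn)) c).1 hc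
        rwa [inv_inv] at this
      have := (haM _ (hCZ hc')).map (MulAut.conj n)
      simpa [mul_assoc, hu] using this
    refine mem_centralizer_singleton_iff.2 (mul_inv_eq_iff_eq_mul.1
      (hinvP u (hCZ huC) (by rw [sq]; exact hu2) hu1 fun y hy => ?_))
    have hyN : y ∈ normalizer (Z : Set G) := by
      have : Q ≤ normalizer (Z : Set G) :=
        le_normalizer.trans (CfsgLib.PLocal.normalizer_le_normalizer_centerThompsonA Q)
      exact this (hPQ hy)
    have hyu : y * u * y⁻¹ ∈ centralizer (Z : Set G) :=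
      (mem_normalizer_iff.1 (CfsgLib.Transfer.normalizer_le_normalizer_centralizer Z hyN) u).1 huC
    have hk : u * y * u⁻¹ * y⁻¹ ∈ P :=
      mul_mem ((mem_normalizer_iff.1 (hMP (hCZ huC)) y).1 hy) (inv_mem hy)
    have hk2 : (u * y * u⁻¹ * y⁻¹) * (u * y * u⁻¹ * y⁻¹) = 1 := by
      have e : u * y * u⁻¹ * y⁻¹ = u * (y * u⁻¹ * y⁻¹) := by group
      have hui : u⁻¹ = u := inv_eq_of_mul_eq_one_right hu2
      have hcc : Commute u (y * u * y⁻¹) := (hucen _ hyu).symm
      rw [e, hui, hcc.symm.mul_mul_mul_comm, hu2, one_mul,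
        show y * u * y⁻¹ * (y * u * y⁻¹) = y * (u * u) * y⁻¹ by group, hu2]
      group
    obtain ⟨j, hj⟩ := hPp.exists_card_eq
    have hd1 : orderOf (u * y * u⁻¹ * y⁻¹) ∣ p ^ j := hj ▸ orderOf_dvd_natCard P hk
    have hd2 : orderOf (u * y * u⁻¹ * y⁻¹) ∣ 2 := orderOf_dvd_of_pow_eq_one (by rw [sq]; exact hk2)
    have h1 := orderOf_eq_one_iff.1 (Nat.eq_one_of_dvd_coprimes
      (Nat.Coprime.pow_left j ((Nat.coprime_primes hpp Nat.prime_two).2 hp)) hd1 hd2)
    exact mul_inv_eq_one.1 (by rw [← h1]; group)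
  -- `Q` is a Sylow subgroup of `G`; control of fusion
  obtain ⟨R, hQR⟩ := hQp.exists_le_sylow
  have hQeq : (R : Subgroup G) = Q := by
    by_contra hne
    have hlt : Q < (R : Subgroup G) := lt_of_le_of_ne hQR (Ne.symm hne)
    have h1 := CfsgLib.Transfer.lt_inf_normalizer R.2 hlt
    set D := (R : Subgroup G) ⊓ normalizer (Q : Set G) with hD
    have hDM : D ≤ M := inf_le_right.trans
      ((CfsgLib.PLocal.normalizer_le_normalizer_centerThompsonA Q).trans hNZ)
    obtain ⟨m, hm, hmD⟩ := CfsgLib.Transfer.exists_conj_le hQp hQi hDM (R.2.to_le inf_le_left)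
    have hle : D.map (MulAut.conj m⁻¹).toMonoidHom ≤ Q := by
      rintro _ ⟨d, hd, rfl⟩
      simpa using hmD d hd
    have := card_le_of_le hle
    rw [Subgroup.card_map_of_injective (MulAut.conj m⁻¹).injective] at this
    exact absurd (CfsgLib.Transfer.card_lt_of_lt h1) (not_lt.2 this)
  have hnqG : CfsgLib.PLocal.SLTwo.NoQd p G :=
    CfsgLib.Bender.noQd_of_comm_sylow_two hp S hScomm
  -- balance at `a`
  have hbase : ∀ u ∈ (S : Subgroup G), u ≠ 1 → u ≠ a →
      P ⊓ centralizer ({u} : Set G) ≤ cenCore p u := by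
    intro u huS hu1 hua
    obtain ⟨τ, hτN, hτ⟩ := htr a haS u huS ha1 hu1
    set T := P ⊓ centralizer ({u} : Set G) with hT
    have hTP : T ≤ P := inf_le_left
    have hTτ : T.map (MulAut.conj τ⁻¹).toMonoidHom ≤ M := by
      rintro _ ⟨t, ht, rfl⟩
      have hc : Commute t u := mem_centralizer_singleton_iff.1 ht.2
      have := hc.map (MulAut.conj τ⁻¹)
      rw [← hτ] at this
      exact mem_centralizer_singleton_iff.2 (by simpa [mul_assoc] using this.eq)
    obtain ⟨m, hm, hmT⟩ := CfsgLib.Transfer.exists_conj_le hQp hQi hTτ ((hPp.to_le hTP).map _)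
    have himg : (fun t => (m⁻¹ * τ⁻¹) * t * (m⁻¹ * τ⁻¹)⁻¹) '' (T : Set G) ⊆ (Q : Set G) := by
      rintro _ ⟨t, ht, rfl⟩
      have := hmT _ ⟨t, ht, rfl⟩
      simpa [mul_assoc] using this
    have hfus := CfsgLib.PLocal.SLTwo.zjA_controls hp
      (fun H _ _ hH _ S' => CfsgLib.PLocal.SLTwo.stableAt_of_noQd hp
        (CfsgLib.PLocal.SLTwo.noQd_of_isSec hnqG hH) (S' : Subgroup H))
      R (T : Set G) (hQeq ▸ fun t ht => hPQ (hTP ht))
    obtain ⟨k, hk, hkeq⟩ := hfus.2 (m⁻¹ * τ⁻¹) (hQeq ▸ himg)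
    rw [hQeq] at hk
    have hkM : k ∈ M := hNZ hk
    set g := k⁻¹ * (m⁻¹ * τ⁻¹) with hg
    have hgT : ∀ t ∈ T, g * t * g⁻¹ = t := fun t ht => by
      calc g * t * g⁻¹ = k⁻¹ * ((m⁻¹ * τ⁻¹) * t * (m⁻¹ * τ⁻¹)⁻¹) * k := by rw [hg]; group
        _ = k⁻¹ * (k * t * k⁻¹) * k := by rw [hkeq t ht]
        _ = t := by group
    have hgu : g⁻¹ * a * g = u := by
      have hmk : Commute (m * k) a := haM _ (mul_mem hm hkM)
      calc g⁻¹ * a * g = τ * ((m * k) * a * (m * k)⁻¹) * τ⁻¹ := by rw [hg]; group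
        _ = τ * a * τ⁻¹ := by rw [hmk.eq, mul_inv_cancel_right]
        _ = u := hτ
    intro t ht
    have h1 : g⁻¹ * t * g⁻¹⁻¹ ∈ cenCore p u :=
      cenCore_conj (x := a) (g := g⁻¹) (by rw [inv_inv]; exact hgu) (hTP ht)
    have e : g⁻¹ * t * g⁻¹⁻¹ = t := by
      rw [inv_inv]
      calc g⁻¹ * t * g = g⁻¹ * (g * t * g⁻¹) * g := by rw [hgT t ht]
        _ = t := by group
    rwa [e] at h1
  -- the signalizer functor `v ↦ O_p(C(v))`
  have hbal : ∀ x ∈ (S : Subgroup G), x ≠ 1 → ∀ y ∈ (S : Subgroup G), y ≠ 1 →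
      cenCore p x ⊓ centralizer ({y} : Set G) ≤ cenCore p y := by
    intro x hx hx1 y hy hy1
    obtain ⟨τ, hτN, hτ⟩ := htr a haS x hx ha1 hx1
    have hy' : τ⁻¹ * y * τ ∈ (S : Subgroup G) := by
      have := (mem_normalizer_iff.1 (inv_mem hτN) y).1 hy
      rwa [inv_inv] at this
    rintro w ⟨hw, hwy⟩
    by_cases hxy : y = x
    · exact hxy ▸ hw
    have hw' : τ⁻¹ * w * τ ∈ P := by
      have := cenCore_conj (x := x) (y := a) (g := τ⁻¹) (by rw [← hτ]; group) hw
      rwa [inv_inv] at this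
    have hwy' : τ⁻¹ * w * τ ∈ centralizer ({τ⁻¹ * y * τ} : Set G) := by
      have hc : Commute w y := mem_centralizer_singleton_iff.1 hwy
      exact mem_centralizer_singleton_iff.2 (by simpa [mul_assoc] using (hc.map (MulAut.conj τ⁻¹)).eq)
    have h2 := hbase _ hy' (fun h => hy1 (by
      calc y = τ * (τ⁻¹ * y * τ) * τ⁻¹ := by group
        _ = 1 := by rw [h]; group)) (fun h => hxy (by
      calc y = τ * (τ⁻¹ * y * τ) * τ⁻¹ := by group
        _ = x := by rw [h, hτ])) ⟨hw', hwy'⟩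
    have := cenCore_conj (x := τ⁻¹ * y * τ) (y := y) (g := τ) (by group) h2
    simpa [mul_assoc] using this
  have hp2 : ∀ x : G, ¬ 2 ∣ Nat.card (cenCore p x) := fun x hd => by
    obtain ⟨j, hj⟩ := (oq_isPGroup p (centralizer ({x} : Set G))).exists_card_eq
    rw [hj] at hd
    exact hp ((Nat.prime_dvd_prime_iff_eq Nat.prime_two hpp).1 (Nat.prime_two.dvd_of_dvd_pow hd)).symm
  obtain ⟨hW2, hWfix⟩ := Cfsg.Agent.S0217.result (p := 2) (S : Subgroup G) hScomm hSel
    (by simpa using hS8) (fun x => cenCore p x) (fun x _ _ => cenCore_le p x) (fun x _ _ => hp2 x)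
    (fun x hx _ b hb w hw => cenCore_conj
      (by rw [hScomm b hb x hx, mul_inv_cancel_right]) hw)
    (fun x _ _ => by
      haveI := (oq_isPGroup p (centralizer ({x} : Set G))).isNilpotent
      infer_instance)
    hbal
  set W := ⨆ x : {x : G // x ∈ (S : Subgroup G) ∧ x ≠ 1}, cenCore p (x : G) with hW
  have hconjW : ∀ n ∈ normalizer ((S : Subgroup G) : Set G), ∀ w ∈ W, n * w * n⁻¹ ∈ W := by
    intro n hn w hw
    have hle : W ≤ W.comap (MulAut.conj n).toMonoidHom := iSup_le fun x => fun w hw => by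
      refine le_iSup (fun x : {x : G // x ∈ (S : Subgroup G) ∧ x ≠ 1} => cenCore p (x : G))
        ⟨n * x * n⁻¹, (mem_normalizer_iff.1 hn _).1 x.2.1, fun h => x.2.2 (conj_eq_one_iff.1 h)⟩ ?_
      exact cenCore_conj rfl hw
    exact hle hw
  have hNSW : normalizer ((S : Subgroup G) : Set G) ≤ normalizer (W : Set G) := fun n hn =>
    CfsgLib.Signalizer.Solv.mem_normalizer_of_forall_le (hconjW n hn)
  have hPW : P ≤ W :=
    le_iSup (fun x : {x : G // x ∈ (S : Subgroup G) ∧ x ≠ 1} => cenCore p (x : G)) ⟨a, haS, ha1⟩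
  have hodd : Odd (Nat.card W) := Nat.odd_iff.2 (Nat.two_dvd_ne_zero.1 hW2)
  have hSW : (S : Subgroup G) ≤ normalizer (W : Set G) := le_normalizer.trans hNSW
  -- `W` is a `p`-group
  have hWp : IsPGroup p W := by
    have hsq : ∀ s ∈ (S : Subgroup G), s * s = 1 := fun s hs => by rw [← sq]; exact hSel s hs
    have h4 := CfsgLib.InvCent.four_formula hodd (hsq a haS) (hsq v hvS) (hScomm a haS v hvS)
      (hSW haS) (hSW hvS)
    have hav : a * v ≠ 1 := fun h => hva (by
      rw [← inv_eq_of_mul_eq_one_right h, inv_eq_of_mul_eq_one_right (hsq a haS)])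
    rw [hWfix a haS ha1, hWfix v hvS hv1, hWfix (a * v) (mul_mem haS hvS) hav] at h4
    obtain ⟨i, hi⟩ := (oq_isPGroup p (centralizer ({a} : Set G))).exists_card_eq
    obtain ⟨j, hj⟩ := (oq_isPGroup p (centralizer ({v} : Set G))).exists_card_eq
    obtain ⟨k, hk⟩ := (oq_isPGroup p (centralizer ({a * v} : Set G))).exists_card_eq
    rw [hi, hj, hk, ← pow_add, ← pow_add] at h4
    obtain ⟨l, -, hl⟩ := (Nat.dvd_prime_pow hpp).1 (h4 ▸ dvd_mul_right (Nat.card W) _)
    exact IsPGroup.of_card hl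
  -- `W = P`
  have hWP : W = P := by
    by_contra hne
    have hlt : P < W := lt_of_le_of_ne hPW (Ne.symm hne)
    have h1 := CfsgLib.Transfer.lt_inf_normalizer hWp hlt
    rw [hNP] at h1
    exact h1.ne' (hWfix a haS ha1)
  have hNS : normalizer ((S : Subgroup G) : Set G) ≤ M := hNP ▸ hWP ▸ hNSW
  obtain ⟨τ, hτN, hτ⟩ := htr a haS v hvS ha1 hv1
  exact hva (by rw [← hτ, (haM τ (hNS hτN)).eq, mul_inv_cancel_right])

end CfsgLib.Walter
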