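import Cfsg.Agent.Lib.Recog.Walter.Three.CentralMax
import Cfsg.Agent.Lib.Recog.Walter.Three.Setting
import Cfsg.Agent.Lib.Core.ConjAbelian

/-!
Owner: helper23. Walter, step B3: without components some odd core of `C(a)` is centralized by no involution
of `S` other than `a`; so in the rank three setting `C(a)` is not maximal.
-/

set_option autoImplicit false
set_option linter.style.haveILetI false
set_option linter.unusedSectionVars false

namespace CfsgLib.Walter

open Subgroup
open CfsgLib.AbelianSolvCent (AbSylow)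
open CfsgLib.Signalizer.Solv (oq oq_le le_normalizer_oq mem_normalizer_of_forall_le)

universe u

variable {G : Type u} [Group G] [Finite G]

/-- An element `v` of `S` outside `⟨a⟩` moves some odd core of `C(a)`. -/
theorem exists_moved_core (hab : AbSylow G) (S : Sylow 2 G) {a v : G} (ha : a ∈ (S : Subgroup G))
    (hv : v ∈ (S : Subgroup G)) (hv1 : v ≠ 1) (hva : v ≠ a)
    (hlay : Cfsg.layer ↥(centralizer ({a} : Set G)) = ⊥)
    (hirr : ∀ N : Subgroup G, N ≤ centralizer ({a} : Set G) →
      centralizer ({a} : Set G) ≤ normalizer (N : Set G) → a ∈ N →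
      ∀ s ∈ (S : Subgroup G), s ≠ 1 → s ≠ a → s ∈ N → (S : Subgroup G) ≤ N)
    (hO2 : v ∉ oq 2 (centralizer ({a} : Set G))) :
    ∃ p : ℕ, p.Prime ∧ p ≠ 2 ∧
      ∀ s ∈ (S : Subgroup G), s ≠ 1 → (∀ y ∈ cenCore p a, Commute s y) → s = a := by
  haveI : Fact (Nat.Prime 2) := ⟨Nat.prime_two⟩
  by_contra hno
  push Not at hno
  set M := centralizer ({a} : Set G) with hM
  have hScomm : ∀ s ∈ (S : Subgroup G), ∀ t ∈ (S : Subgroup G), s * t = t * s := fun s hs t ht =>
    congrArg Subtype.val ((hab S).is_comm.comm ⟨s, hs⟩ ⟨t, ht⟩)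
  have hSM : (S : Subgroup G) ≤ M := fun s hs => mem_centralizer_singleton_iff.2 (hScomm s hs a ha)
  have hall : ∀ p : ℕ, p.Prime → ∀ y ∈ cenCore p a, v * y = y * v := by
    intro p hp y hy
    by_cases h2 : p = 2
    · subst h2
      obtain ⟨z, hz, rfl⟩ := hy
      have hzS : z ∈ (S.subtype hSM : Subgroup M) := CfsgLib.Core.pCore_le_sylow (S.subtype hSM) hz
      exact hScomm v hv _ hzS
    · obtain ⟨s, hs, hs1, hsc, hsa⟩ := hno p hp h2
      have hN : M ≤ normalizer ((M ⊓ centralizer (cenCore p a : Set G) : Subgroup G) : Set G) := by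
        intro m hm
        refine mem_normalizer_of_forall_le ?_
        rintro x ⟨hxM, hxC⟩
        refine ⟨M.mul_mem (M.mul_mem hm hxM) (M.inv_mem hm), mem_centralizer_iff.2 fun w hw => ?_⟩
        have hw' : m⁻¹ * w * m ∈ cenCore p a := by
          have hmi : m⁻¹ ∈ M := M.inv_mem hm
          have := (mem_normalizer_iff.1 (le_normalizer_oq p M hmi) w).1 hw
          rwa [inv_inv] at this
        have := (show Commute (m⁻¹ * w * m) x from mem_centralizer_iff.1 hxC _ hw').map (MulAut.conj m)
        simpa [mul_assoc] using this.eq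
      have haN : a ∈ M ⊓ centralizer (cenCore p a : Set G) :=
        ⟨hSM ha, mem_centralizer_iff.2 fun w hw =>
          mem_centralizer_singleton_iff.1 (oq_le p M hw)⟩
      have hSN := hirr _ inf_le_left hN haN s hs hs1 hsa
        ⟨hSM hs, mem_centralizer_iff.2 fun w hw => (hsc w hw).eq.symm⟩
      exact (mem_centralizer_iff.1 (hSN hv).2 y hy).symm
  set v' : ↥M := ⟨v, hSM hv⟩ with hv'
  have hF : v' ∈ Cfsg.fittingSubgroup ↥M := by
    refine CfsgLib.Components.centralizer_fitting_le_of_layer_eq_bot hlay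
      (mem_centralizer_iff.2 fun w hw => ?_)
    have hle : Cfsg.fittingSubgroup ↥M ≤ centralizer ({v'} : Set ↥M) := by
      rw [CfsgLib.Core.fittingSubgroup_eq_iSup_pCore]
      refine iSup_le fun p z hz => mem_centralizer_singleton_iff.2 (Subtype.ext ?_)
      exact (hall p p.2 _ (mem_map_of_mem M.subtype hz)).symm
    exact mem_centralizer_singleton_iff.1 (hle hw)
  have hpow : ∃ k, v' ^ 2 ^ k = 1 := by
    obtain ⟨k, hk⟩ := S.2 ⟨v, hv⟩
    exact ⟨k, Subtype.ext (congrArg Subtype.val hk :)⟩
  exact hO2 ⟨v', CfsgLib.Core.ConjAbelian.mem_pCore_of_mem_fitting hF hpow, rfl⟩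

namespace Three.Setting

variable {S : Sylow 2 G} (h : Setting S)
include h

/-- In rank three `C(a)` without components is not maximal. -/
theorem centralizer_not_isCoatom {a : G} (ha : a ∈ (S : Subgroup G)) (ha1 : a ≠ 1)
    (hE : Cfsg.layer ↥(centralizer ({a} : Set G)) = ⊥) : ¬ IsCoatom (centralizer ({a} : Set G)) := by
  haveI : Fact (Nat.Prime 2) := ⟨Nat.prime_two⟩
  haveI := h.simple
  set C := centralizer ({a} : Set G) with hC
  have hirr : ∀ N : Subgroup G, N ≤ C → C ≤ normalizer (N : Set G) → a ∈ N →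
      ∀ s ∈ (S : Subgroup G), s ≠ 1 → s ≠ a → s ∈ N → (S : Subgroup G) ≤ N := by
    intro N _ hN haN s hs hs1 hsa hsN
    obtain ⟨x, hxV, hx1, hxN⟩ : ∃ x ∈ V S a, x ≠ 1 ∧ x ∈ N := by
      by_cases hsV : s ∈ V S a
      · exact ⟨s, hsV, hs1, hsN⟩
      · refine ⟨a * s, h.mul_mem_V ha ha1 ha hs (h.not_mem_V ha ha1) hsV, fun e => hsa ?_, mul_mem haN hsN⟩
        calc s = a * a * s := by rw [h.sq a ha, one_mul]
          _ = a := by rw [mul_assoc, e, mul_one]
    have hVN : V S a ≤ N := by
      intro w hw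
      rcases eq_or_ne w 1 with rfl | hw1
      · exact one_mem _
      obtain ⟨k, -, hka, hkx⟩ := h.conj_V ha ha1 hxV hx1 hw hw1
      rw [← hkx]
      exact (mem_normalizer_iff.1 (hN (mem_centralizer_singleton_iff.2 (mul_inv_eq_iff_eq_mul.1 hka))) x).1 hxN
    intro t ht
    by_cases htV : t ∈ V S a
    · exact hVN htV
    · have h1 := mul_mem haN (hVN (h.mul_mem_V ha ha1 ha ht (h.not_mem_V ha ha1) htV))
      rwa [← mul_assoc, h.sq a ha, one_mul] at h1
  obtain ⟨v, hv, hv1⟩ : ∃ v ∈ V S a, v ≠ 1 := by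
    by_contra hcon
    push Not at hcon
    have h4 := h.card_V ha ha1
    rw [(eq_bot_iff_forall _).2 hcon, Subgroup.card_bot] at h4
    omega
  have hva : v ≠ a := fun e => h.not_mem_V ha ha1 (e ▸ hv)
  have hO2 : v ∉ oq 2 C := by
    intro hvO
    have haO : a ∈ oq 2 C :=
      CfsgLib.Signalizer.Solv.le_oq (zpowers_le.2 (h.le_centralizer ha ha))
        (CfsgLib.Signalizer.isPGroup_zpowers_involution (h.orderOf_eq ha ha1))
        (fun c hc => mem_normalizer_of_forall_le (by
          rintro _ ⟨i, rfl⟩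
          rw [show c * a ^ i * c⁻¹ = a ^ i by
            rw [((mem_centralizer_singleton_iff.1 hc : c * a = a * c) |> fun e =>
              (show Commute c a from e).zpow_right i).eq, mul_inv_cancel_right]]
          exact ⟨i, rfl⟩)) (mem_zpowers a)
    have hSO := hirr _ (oq_le 2 C) (le_normalizer_oq 2 C) haO v hv.1 hv1 hva hvO
    have hle : Cfsg.pCore 2 ↥C ≤ (S.subtype (h.le_centralizer ha) : Subgroup C) :=
      CfsgLib.Core.pCore_le_sylow _
    haveI hn : ((S.subtype (h.le_centralizer ha) : Subgroup C)).Normal := by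
      have : (S.subtype (h.le_centralizer ha) : Subgroup C) = Cfsg.pCore 2 ↥C := le_antisymm (fun x hx => by
        obtain ⟨y, hy, hyx⟩ := hSO (show (x : G) ∈ (S : Subgroup G) from hx)
        rwa [← Subtype.ext hyx]) hle
      rw [this]; infer_instance
    refine h.centralizer_nonsolvable ha ha1 ?_
    set P := (S.subtype (h.le_centralizer ha) : Subgroup C)
    haveI : Group.IsSolvable P := by
      haveI : Group.IsNilpotent P := (S.subtype (h.le_centralizer ha)).2.isNilpotent
      infer_instance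
    haveI : Group.IsSolvable (C ⧸ P) := by
      have : Odd (Nat.card (C ⧸ P)) :=
        Nat.odd_iff.2 (Nat.two_dvd_ne_zero.1 (S.subtype (h.le_centralizer ha)).not_dvd_index)
      exact Cfsg.Agent.S0205.result this
    exact CfsgLib.OddGated.isSolvable_of_normal P inferInstance inferInstance
  obtain ⟨p, hp, hp2, hcent⟩ := exists_moved_core h.abSylow S ha hv.1 hv1 hva hE hirr hO2
  haveI : Fact p.Prime := ⟨hp⟩
  exact not_isCoatom_centralizer h.abSylow S (fun s hs => by rw [pow_two]; exact h.sq s hs) h.card.ge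
    (fun u hu w hw hu1 hw1 => h.one_class hu hu1 hw hw1) ha ha1 hp2 hcent

end Three.Setting

end CfsgLib.Walter
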