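import Cfsg.Agent.Lib.Recog.Walter.Three.Lifts
import Cfsg.Agent.Lib.Recog.Walter.Defs

/-!
Owner: helper29. Walter, rank three: trivial cores give the centralizer shape.

* `Setting.jrCentralizer`: `O(C(a)) = 1` gives `C(a) = ⟨a⟩ × E` with a self-centralizing normal `PSL(2, q)` in `E`;
* `Setting.jrCentralizer_all`: so for every involution, if all cores of involutions of `S` are trivial.
-/

set_option autoImplicit false
set_option linter.style.haveILetI false
set_option linter.unusedSectionVars false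

namespace CfsgLib.Walter.Three

open Subgroup
open scoped Pointwise

universe u

variable {G : Type u} [Group G] [Finite G] {S : Sylow 2 G}

namespace Setting

variable (h : Setting S)
include h

/-- `O(C(a)) = 1` gives `C(a) = ⟨a⟩ × E`, `PSL(2, q) ≤ E ≤ Aut PSL(2, q)`. -/
theorem jrCentralizer {a : G} (ha : a ∈ (S : Subgroup G)) (ha1 : a ≠ 1)
    (hcore : Cfsg.oddCore ↥(centralizer ({a} : Set G)) = ⊥) : JRCentralizer a := by
  haveI : Fact (Nat.Prime 2) := ⟨Nat.prime_two⟩
  set C := centralizer ({a} : Set G) with hC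
  have hSC := h.le_centralizer ha
  set j : C := ⟨a, hSC ha⟩ with hj
  have hj2 : orderOf j = 2 := by rw [hj, Subgroup.orderOf_mk]; exact h.orderOf_eq ha ha1
  have hloc : Local (S.subtype hSC) j := by
    refine ⟨hcore, ?_, fun x hx => Subtype.ext (h.sq _ hx), ha, fun e => ha1 (congrArg Subtype.val e), ?_, ?_⟩
    · rw [Sylow.coe_subtype, Nat.card_congr (subgroupOfEquivOfLe hSC).toEquiv, h.card]
    · exact mem_center_iff.2 fun g => Subtype.ext (mem_centralizer_singleton_iff.1 g.2)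
    · exact h.centralizer_nonsolvable ha ha1
  set R := res ↥C with hR
  set Z := zpowers j with hZ
  haveI : Z.Normal := hloc.zpowers_normal
  obtain ⟨⟨hD, F, iF, iT, ⟨hq, h5⟩, ⟨eF⟩⟩, hcen, hidx, h4⟩ := hloc.structure_res'
  set π := QuotientGroup.mk' R with hπ
  -- the quotient by `res` has cyclic Sylow 2-subgroups
  have hRj : Nat.card ↥(R ⊔ Z) = 2 * Nat.card R := by
    have hdis : R ⊓ Z = ⊥ := le_bot_iff.1 fun x ⟨hx, hxZ⟩ => by
      obtain ⟨k, rfl⟩ := mem_zpowers_iff.1 hxZ
      rw [← zpow_mod_orderOf, hj2] at hx ⊢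
      rcases Int.emod_two_eq_zero_or_one k with e | e
      · rw [show k % ((2 : ℕ) : ℤ) = 0 from e, zpow_zero]; exact one_mem _
      · rw [show k % ((2 : ℕ) : ℤ) = 1 from e, zpow_one] at hx
        exact absurd hx hloc.b_not_mem_res
    rw [CfsgLib.Core.card_sup_of_disjoint R Z (CfsgLib.Core.le_normalizer_of_normal R Z) hdis, hZ, Nat.card_zpowers,
      hj2, mul_comm]
  have hQ2 : ¬ 4 ∣ Nat.card (↥C ⧸ R) := by
    intro hd
    have h1 : R.index = 2 * (R ⊔ Z).index := by
      refine Nat.eq_of_mul_eq_mul_right (Nat.card_pos : 0 < Nat.card R) ?_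
      rw [R.index_mul_card, mul_assoc, mul_comm ((R ⊔ Z).index), ← mul_assoc, ← hRj, mul_comm,
        (R ⊔ Z).index_mul_card]
    rw [← index_eq_card, h1, show (4 : ℕ) = 2 * 2 by norm_num] at hd
    have h2 := Nat.dvd_of_mul_dvd_mul_left two_pos hd
    exact (Nat.not_even_iff_odd.2 hidx) (even_iff_two_dvd.2 h2)
  obtain ⟨P⟩ := (inferInstance : Nonempty (Sylow 2 (↥C ⧸ R)))
  obtain ⟨i, hi⟩ := P.2.exists_card_eq
  have hi1 : i ≤ 1 := by
    by_contra hlt
    exact hQ2 (((pow_dvd_pow 2 (show 2 ≤ i by omega)).trans (dvd_of_eq hi.symm)).trans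
      (Subgroup.card_subgroup_dvd_card _))
  have hPc : IsCyclic ↥(P : Subgroup (↥C ⧸ R)) := by
    rcases (show i = 0 ∨ i = 1 by omega) with rfl | rfl
    · haveI : Subsingleton ↥(P : Subgroup (↥C ⧸ R)) := (Nat.card_eq_one_iff_unique.1 (by simpa using hi)).1
      infer_instance
    · exact isCyclic_of_prime_card (p := 2) (by simpa using hi)
  obtain ⟨K, hK, hKc, hKq⟩ :=
    CfsgLib.Transfer.hasNormalPComplement_iff_exists.1 (CfsgLib.OddGated.complement_of_cyclic P hPc)
  haveI := hK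
  set E₁ := K.comap π with hE₁
  have hRE : R ≤ E₁ := fun x hx => by
    show π x ∈ K
    rw [show π x = 1 from (QuotientGroup.eq_one_iff x).2 hx]
    exact one_mem _
  have hjE : j ∉ E₁ := fun hm => by
    have h1 : π j = 1 := by
      refine CfsgLib.ZStar.eq_one_of_odd_of_sq ((Nat.coprime_two_right.1 hKc).of_dvd_nat
        (K.orderOf_dvd_natCard hm)) ?_
      rw [← map_pow, ← hj2, pow_orderOf_eq_one, map_one]
    exact hloc.b_not_mem_res ((QuotientGroup.eq_one_iff j).1 h1)
  have hZE : Z ⊓ E₁ = ⊥ := le_bot_iff.1 fun x ⟨hxZ, hx⟩ => by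
    obtain ⟨k, rfl⟩ := mem_zpowers_iff.1 hxZ
    rw [← zpow_mod_orderOf, hj2] at hx ⊢
    rcases Int.emod_two_eq_zero_or_one k with e | e
    · rw [show k % ((2 : ℕ) : ℤ) = 0 from e, zpow_zero]; exact one_mem _
    · rw [show k % ((2 : ℕ) : ℤ) = 1 from e, zpow_one] at hx
      exact absurd hx hjE
  have hidxE : E₁.index = 2 := by
    have h1 : E₁.index = K.index := index_comap_of_surjective _ (QuotientGroup.mk'_surjective R)
    obtain ⟨l, hl⟩ := hKq.exists_card_eq
    rw [h1, index_eq_card, hl]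
    have hl1 : l ≤ 1 := by
      by_contra hlt
      refine hQ2 ((pow_dvd_pow 2 (show 2 ≤ l by omega)).trans ?_)
      rw [← hl, ← index_eq_card]
      exact K.index_dvd_card
    have hl0 : l ≠ 0 := by
      rintro rfl
      refine hjE ?_
      have h2 : K = ⊤ := index_eq_one.1 (by rw [index_eq_card, hl, pow_zero])
      show π j ∈ K
      rw [h2]; exact mem_top _
    rw [show l = 1 by omega, pow_one]
  have hsup : Z ⊔ E₁ = ⊤ := by
    refine index_eq_one.1 ?_
    have h1 : (Z ⊔ E₁).index ∣ 2 := hidxE ▸ index_dvd_of_le le_sup_right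
    rcases (Nat.dvd_prime Nat.prime_two).1 h1 with e | e
    · exact e
    · refine absurd ?_ hjE
      have h2 := relIndex_mul_index (le_sup_right : E₁ ≤ Z ⊔ E₁)
      rw [e, hidxE] at h2
      have h3 : E₁.relIndex (Z ⊔ E₁) = 1 := by omega
      exact relIndex_eq_one.1 h3 (mem_sup_left (mem_zpowers j))
  refine ⟨E₁.map C.subtype, ⟨zpowers_le.2 (hSC ha), map_subtype_le _, ?_, ?_, ?_⟩,
    F, iF, iT, h5, hq, ?_⟩
  · intro x hx y hy
    obtain ⟨k, rfl⟩ := mem_zpowers_iff.1 hx
    have h1 : Commute a y := (mem_centralizer_singleton_iff.1 (map_subtype_le _ hy : y ∈ C)).symm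
    exact (h1.zpow_left k).eq
  · rw [← show Z.map C.subtype = zpowers a from MonoidHom.map_zpowers _ _,
      ← map_inf _ _ _ C.subtype_injective, hZE, Subgroup.map_bot]
  · rw [← show Z.map C.subtype = zpowers a from MonoidHom.map_zpowers _ _, ← Subgroup.map_sup, hsup,
      ← MonoidHom.range_eq_map, range_subtype]
  · set e := E₁.equivMapOfInjective C.subtype C.subtype_injective with he
    refine ⟨(R.subgroupOf E₁).map e.toMonoidHom, (inferInstance : (R.subgroupOf E₁).Normal).map _ e.surjective,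
      ⟨(((R.subgroupOf E₁).equivMapOfInjective e.toMonoidHom e.injective).symm.trans
        (subgroupOfEquivOfLe hRE)).trans eF⟩, (eq_bot_iff_forall _).2 fun x hx => ?_⟩
    obtain ⟨y, rfl⟩ := e.surjective x
    have hy : (y : ↥C) ∈ Z := hcen y fun r hr => by
      have h1 := mem_centralizer_iff.1 hx (e ⟨r, hRE hr⟩) ⟨⟨r, hRE hr⟩, hr, rfl⟩
      rw [← map_mul, ← map_mul] at h1
      exact (congrArg Subtype.val (e.injective h1)).symm
    have h2 : (y : ↥C) = 1 := mem_bot.1 (hZE ▸ (show (y : ↥C) ∈ Z ⊓ E₁ from ⟨hy, y.2⟩))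
    rw [show y = 1 from Subtype.ext h2, map_one]

/-- A conjugate Sylow subgroup again satisfies `Setting`. -/
theorem conj (g : G) : Setting (g • S) := by
  refine ⟨h.simple, h.nonab, fun x hx => ?_, ?_, h.nonsolv⟩
  · rw [Sylow.coe_subgroup_smul] at hx
    obtain ⟨y, hy, rfl⟩ := hx
    show g * y * g⁻¹ * (g * y * g⁻¹) = 1
    rw [show g * y * g⁻¹ * (g * y * g⁻¹) = g * (y * y) * g⁻¹ by group, h.sq y hy]; group
  · rw [← h.card]
    exact Nat.card_congr ((g • S).equiv S).toEquiv

/-- All involution centralizers have the shape if all cores are trivial. -/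
theorem jrCentralizer_all
    (hall : ∀ a ∈ (S : Subgroup G), a ≠ 1 → Cfsg.oddCore ↥(centralizer ({a} : Set G)) = ⊥) {t : G}
    (ht : orderOf t = 2) : JRCentralizer t := by
  obtain ⟨g, -, hg⟩ := h.exists_conj_mem (le_top : (S : Subgroup G) ≤ ⊤) (mem_top t)
    (CfsgLib.Signalizer.involution_sq ht)
  have ht1 : t ≠ 1 := CfsgLib.Signalizer.involution_ne_one ht
  have htS : t ∈ ((g⁻¹ • S : Sylow 2 G) : Subgroup G) := by
    rw [Sylow.coe_subgroup_smul]
    exact ⟨_, hg, show g⁻¹ * (g * t * g⁻¹) * g⁻¹⁻¹ = t by group⟩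
  refine (h.conj g⁻¹).jrCentralizer htS ht1 ?_
  set a := g * t * g⁻¹ with ha
  set C := centralizer ({a} : Set G)
  set C' := centralizer ({t} : Set G)
  have hmap : C.map (MulAut.conj g⁻¹).toMonoidHom = C' := by
    ext y
    rw [CfsgLib.Techniques.mem_map_conj_iff, inv_inv, mem_centralizer_singleton_iff, mem_centralizer_singleton_iff]
    refine ⟨fun e => ?_, fun e => ?_⟩
    · calc y * t = g⁻¹ * (g * y * g⁻¹ * (g * t * g⁻¹)) * g := by group
        _ = g⁻¹ * (g * t * g⁻¹ * (g * y * g⁻¹)) * g := by rw [← ha, e]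
        _ = _ := by group
    · calc g * y * g⁻¹ * a = g * (y * t) * g⁻¹ := by rw [ha]; group
        _ = g * (t * y) * g⁻¹ := by rw [e]
        _ = _ := by rw [ha]; group
  have h1 := CfsgLib.Core.map_equiv_pPrimeCore (p := 2)
    ((C.equivMapOfInjective _ (MulAut.conj g⁻¹).injective).trans (MulEquiv.subgroupCongr hmap))
  have h2 : Cfsg.pPrimeCore 2 ↥C = ⊥ := hall _ hg fun e => ht1 (conj_eq_one_iff.1 e)
  rw [h2, Subgroup.map_bot] at h1
  exact h1.symm

end Setting

end CfsgLib.Walter.Three
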