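import Cfsg.Agent.Lib.Recog.Walter.Three.LemmaY
import Cfsg.Agent.Lib.Recog.Walter.Sections.Odd
import Cfsg.Agent.Lib.HallNumber.Small

/-!
Owner: helper29. Walter, rank three, case A (notes/walter_blueprint_helper15.md): `E(C(a)) ≠ 1`.

* `Setting.core_comm`: `O(C(a))` centralises `S` if `E(C(a)) ≠ 1`;
* `Setting.core_le`: then `O(C(a)) ≤ O(C(b))` for `b ∈ V a`;
* `Setting.core_eq_bot`: all these cores are trivial.
-/

set_option autoImplicit false
set_option linter.style.haveILetI false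
set_option linter.unusedSectionVars false

namespace CfsgLib.Walter.Three

open Subgroup
open scoped commutatorElement

universe u

variable {G : Type u} [Group G] [Finite G] {S : Sylow 2 G}

namespace Setting

variable (h : Setting S)
include h

/-- `O(C(a))` centralises `S` if `C(a)` has a component. -/
theorem core_comm {a : G} (ha : a ∈ (S : Subgroup G)) (ha1 : a ≠ 1)
    (hE : Cfsg.layer ↥(centralizer ({a} : Set G)) ≠ ⊥) :
    ∀ o ∈ coreIn (centralizer ({a} : Set G)), ∀ s ∈ (S : Subgroup G), o * s = s * o := by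
  haveI : Fact (Nat.Prime 2) := ⟨Nat.prime_two⟩
  set C := centralizer ({a} : Set G) with hC
  have hSC := h.le_centralizer ha
  rw [Ne, CfsgLib.Components.layer_eq_bot_iff] at hE
  push Not at hE
  obtain ⟨K, hK⟩ := hE
  haveI hOs : Group.IsSolvable (Cfsg.oddCore ↥C) :=
    Cfsg.Agent.S0205.result (CfsgLib.GW.DGroup.odd_oddCore ↥C)
  have hOK := commutator_eq_bot_iff_le_centralizer.1
    (CfsgLib.Components.component_commutes_of_solvable_subnormal hK
      (inferInstance : (Cfsg.oddCore ↥C).Normal).isSubnormal hOs)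
  set W := centralizer (Cfsg.oddCore ↥C : Set ↥C) with hW
  have hWns : ¬ Group.IsSolvable W := by
    intro hs
    haveI := hs
    haveI : Group.IsSolvable K := Group.isSolvable_of_isSolvable_injective (f := inclusion hOK) (inclusion_injective _)
    haveI : Nontrivial K := (nontrivial_iff_ne_bot _).2 (CfsgLib.Components.IsComponent.ne_bot hK)
    refine (Group.IsSolvable.commutator_lt_top_of_nontrivial (G := ↥K)).ne ?_
    apply map_injective K.subtype_injective
    rw [map_subtype_commutator, ← MonoidHom.range_eq_map, range_subtype]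
    exact CfsgLib.Components.IsComponent.commutator_eq_self hK
  have h4 : 2 ^ 2 ∣ Nat.card W := by
    by_contra hd
    exact hWns (CfsgLib.HallNumber.solvable_of_not_four_dvd hd)
  obtain ⟨R, hR⟩ := Sylow.exists_subgroup_card_pow_prime 2 h4
  obtain ⟨g, hg⟩ := CfsgLib.Techniques.exists_conj_mem_sylow (S.subtype hSC)
    ((IsPGroup.of_card hR).map W.subtype)
  -- `W` meets `V a`
  obtain ⟨v, hv, hvW, hv1⟩ : ∃ v : ↥C, (v : G) ∈ V S a ∧ v ∈ W ∧ v ≠ 1 := by
    have hgm : ∀ r ∈ R.map W.subtype, g * r * g⁻¹ ∈ W := fun r hr =>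
      (inferInstance : W.Normal).conj_mem r (map_subtype_le R hr) g
    obtain ⟨x, hx, hx1⟩ : ∃ x ∈ R.map W.subtype, x ≠ 1 := by
      refine (bot_or_exists_ne_one _).resolve_left fun e => ?_
      have : Nat.card ↥(R.map W.subtype) = Nat.card R := card_map_of_injective W.subtype_injective
      rw [e, Subgroup.card_bot, hR] at this
      norm_num at this
    obtain ⟨y, hy, hy1, hyx⟩ : ∃ y ∈ R.map W.subtype, y ≠ 1 ∧ y ≠ x := by
      by_contra hno
      push Not at hno
      have hsub : ((R.map W.subtype : Subgroup ↥C) : Set ↥C) ⊆ {1, x} := fun z hz => by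
        rcases eq_or_ne z 1 with rfl | hz1
        · exact Or.inl rfl
        · exact Or.inr (hno z hz hz1)
      have h2 := (Set.ncard_le_ncard hsub (Set.toFinite _)).trans ((Set.ncard_insert_le _ _).trans (by simp : _ ≤ 2))
      rw [← Nat.card_coe_set_eq] at h2
      change Nat.card ↥(R.map W.subtype) ≤ 2 at h2
      rw [card_map_of_injective W.subtype_injective, hR] at h2
      norm_num at h2
    set x' := g * x * g⁻¹ with hx'
    set y' := g * y * g⁻¹ with hy'
    have hxS : (x' : G) ∈ (S : Subgroup G) := hg x hx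
    have hyS : (y' : G) ∈ (S : Subgroup G) := hg y hy
    by_cases hxV : (x' : G) ∈ V S a
    · exact ⟨x', hxV, hgm x hx, fun e => hx1 (conj_eq_one_iff.1 e)⟩
    by_cases hyV : (y' : G) ∈ V S a
    · exact ⟨y', hyV, hgm y hy, fun e => hy1 (conj_eq_one_iff.1 e)⟩
    refine ⟨x' * y', h.mul_mem_V ha ha1 hxS hyS hxV hyV, mul_mem (hgm x hx) (hgm y hy), fun e => hyx ?_⟩
    have e1 : x' * y' = x' * x' :=
      e.trans (Subtype.ext (show (1 : G) = (x' : G) * (x' : G) from (h.sq _ hxS).symm))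
    exact mul_left_cancel (mul_right_cancel (mul_left_cancel e1))
  rintro _ ⟨o, ho, rfl⟩
  have hV : ∀ w ∈ V S a, (o : G) * w = w * o := by
    intro w hw
    rcases eq_or_ne w 1 with rfl | hw1
    · simp
    obtain ⟨k, -, hka, hkv⟩ := h.conj_V ha ha1 hv (fun e => hv1 (Subtype.ext e)) hw hw1
    have hk : k ∈ C := mem_centralizer_singleton_iff.2 (mul_inv_eq_iff_eq_mul.1 hka)
    have hwW : (⟨k, hk⟩ : ↥C) * v * ⟨k, hk⟩⁻¹ ∈ W := (inferInstance : W.Normal).conj_mem v hvW _
    have h1 := congrArg Subtype.val (mem_centralizer_iff.1 hwW o ho)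
    rw [← hkv]
    exact h1
  intro s hs
  show (o : G) * s = s * o
  by_cases hsV : s ∈ V S a
  · exact hV s hsV
  · have h1 := hV _ (h.mul_mem_V ha ha1 ha hs (h.not_mem_V ha ha1) hsV)
    have h2 : (o : G) * a = a * o := mem_centralizer_singleton_iff.1 o.2
    calc (o : G) * s = o * a * (a * s) := by rw [mul_assoc (o : G) a, ← mul_assoc a a, h.sq a ha, one_mul]
      _ = a * ((o : G) * (a * s)) := by rw [h2, mul_assoc]
      _ = a * ((a * s) * o) := by rw [h1]
      _ = s * o := by rw [← mul_assoc, ← mul_assoc, h.sq a ha, one_mul]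

variable {a b : G} (ha : a ∈ (S : Subgroup G)) (ha1 : a ≠ 1) (hb : b ∈ (S : Subgroup G)) (hb1 : b ≠ 1)
include ha ha1 hb hb1

/-- `O(C(a)) ≤ O(C(b))` for `b ∈ V a` if `O(C(a))` centralises `S`. -/
theorem core_le (hba : b ∈ V S a)
    (hcomm : ∀ o ∈ coreIn (centralizer ({a} : Set G)), ∀ s ∈ (S : Subgroup G), o * s = s * o) :
    coreIn (centralizer ({a} : Set G)) ≤ coreIn (centralizer ({b} : Set G)) := by
  haveI : Fact (Nat.Prime 2) := ⟨Nat.prime_two⟩
  haveI := h.simple
  set H := centralizer ({b} : Set G) with hH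
  have hne : H ≠ ⊤ := fun e => h.not_isSolvable (by
    rcases (inferInstance : (center G).Normal).eq_bot_or_eq_top with e' | e'
    · refine absurd (mem_bot.1 (e' ▸ (mem_center_iff.2 fun g => ?_ : b ∈ center G))) hb1
      exact mem_centralizer_singleton_iff.1 (e ▸ mem_top g : g ∈ H)
    · exact absurd ⟨⟨fun x y => (mem_center_iff.1 (e' ▸ mem_top y) x)⟩⟩ h.nonab)
  have hSH : (S : Subgroup G) ≤ H := h.le_centralizer hb
  set π := QuotientGroup.mk' (Cfsg.oddCore ↥H) with hπ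
  have hπs : Function.Surjective π := QuotientGroup.mk'_surjective _
  set S' := (S.subtype hSH).mapSurjective (f := π) hπs
  set jb : H := ⟨b, hSH hb⟩
  set ja : H := ⟨a, hSH ha⟩
  have hloc : Local S' (π jb) := h.local_quotient hb hb1 le_rfl hne
  have hOodd := CfsgLib.GW.DGroup.odd_oddCore ↥H
  have hinjS : ∀ x ∈ (S : Subgroup G), ∀ hx : x ∈ H, π ⟨x, hx⟩ = 1 → x = 1 := by
    intro x hxS hx hx1
    refine congrArg Subtype.val (show (⟨x, hx⟩ : H) = 1 from CfsgLib.ZStar.eq_one_of_odd_of_sq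
      (hOodd.of_dvd_nat (Subgroup.orderOf_dvd_natCard _ ((QuotientGroup.eq_one_iff _).1 hx1)))
      (by rw [pow_two]; exact Subtype.ext (h.sq _ hxS)))
  -- two involutions of `res`
  set R := res (↥H ⧸ Cfsg.oddCore ↥H) with hR
  have hVR : ∀ x (hx : x ∈ V S b), π ⟨x, hSH hx.1⟩ ∈ R := by
    rintro x ⟨hxS, y, hy, rfl⟩
    have h1 := mem_map_of_mem π hy
    rw [map_res hπs] at h1
    exact h1
  have hc : a * b ∈ V S b := (h.line ha ha1 hb hb1 hba).1
  have hc1 : a * b ≠ 1 := fun e => h.not_mem_V ha ha1 (by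
    have : b = a := by
      rw [← inv_eq_of_mul_eq_one_left e]
      exact (inv_eq_of_mul_eq_one_right (h.sq b hb)).symm
    exact this ▸ hba)
  obtain ⟨w, hw, hw1, hwc⟩ : ∃ w ∈ V S b, w ≠ 1 ∧ w ≠ a * b := by
    by_contra hno
    push Not at hno
    have hle : V S b ≤ zpowers (a * b) := fun x hx => by
      by_cases hx1 : x = 1
      · exact hx1 ▸ one_mem _
      · rw [hno x hx hx1]; exact mem_zpowers _
    have := card_le_of_le hle
    rw [h.card_V hb hb1, Nat.card_zpowers, h.orderOf_eq hc.1 hc1] at this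
    omega
  set v' : R := ⟨π ⟨a * b, hSH hc.1⟩, hVR _ hc⟩
  set w' : R := ⟨π ⟨w, hSH hw.1⟩, hVR _ hw⟩
  have hsqR : ∀ x (hx : x ∈ V S b), (⟨π ⟨x, hSH hx.1⟩, hVR x hx⟩ : R) * ⟨π ⟨x, hSH hx.1⟩, hVR x hx⟩ = 1 :=
    fun x hx => Subtype.ext (by
      show π _ * π _ = 1
      rw [← map_mul, show (⟨x, hSH hx.1⟩ : H) * ⟨x, hSH hx.1⟩ = 1 from Subtype.ext (h.sq _ hx.1), map_one])
  have hv2 : orderOf v' = 2 := CfsgLib.Signalizer.orderOf_eq_two_of
    (fun e => hc1 (hinjS _ hc.1 _ (congrArg Subtype.val e))) (hsqR _ hc)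
  have hw2 : orderOf w' = 2 := CfsgLib.Signalizer.orderOf_eq_two_of
    (fun e => hw1 (hinjS _ hw.1 _ (congrArg Subtype.val e))) (hsqR _ hw)
  have hvw : v' ≠ w' := fun e => hwc (by
    have e1 : π (⟨a * b, hSH hc.1⟩⁻¹ * ⟨w, hSH hw.1⟩) = 1 := by
      rw [map_mul, map_inv, show π ⟨a * b, hSH hc.1⟩ = π ⟨w, hSH hw.1⟩ from congrArg Subtype.val e, inv_mul_cancel]
    have e2 := hinjS _ (mul_mem (inv_mem hc.1) hw.1) _ e1
    exact (inv_mul_eq_one.1 e2).symm)
  obtain ⟨F, iF, iT, ⟨-, h5⟩, ⟨eF⟩⟩ := hloc.res_equiv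
  haveI := CfsgLib.Classical.isSimpleGroup_PSL_two (F := F) (by omega)
  haveI : Nontrivial R := eF.toEquiv.nontrivial
  haveI : IsSimpleGroup R := IsSimpleGroup.isSimpleGroup_of_surjective eF.symm.toMonoidHom eF.symm.surjective
  have hD := hloc.structure_res.1
  -- the image of `O(C(a))`
  intro o ho
  have hoH : o ∈ H := mem_centralizer_singleton_iff.2 (hcomm o ho b hb)
  set A := (coreIn (centralizer ({a} : Set G))).subgroupOf H with hA
  set X₀ := A.map π with hX₀
  have hXodd : ∀ x ∈ X₀, Odd (orderOf x) := by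
    rintro _ ⟨z, hz, rfl⟩
    refine Odd.of_dvd_nat ?_ (orderOf_map_dvd π z)
    rw [← orderOf_injective H.subtype H.subtype_injective]
    exact ((CfsgLib.GW.DGroup.odd_oddCore _).of_dvd_nat (card_map_dvd _ _)).of_dvd_nat
      (Subgroup.orderOf_dvd_natCard (coreIn (centralizer ({a} : Set G))) hz)
  have hXS : ∀ x ∈ X₀, ∀ s (hs : s ∈ (S : Subgroup G)), x * π ⟨s, hSH hs⟩ = π ⟨s, hSH hs⟩ * x := by
    rintro _ ⟨z, hz, rfl⟩ s hs
    rw [← map_mul, ← map_mul]
    exact congrArg π (Subtype.ext (hcomm z hz s hs))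
  have hXR : ∀ x ∈ X₀, x ∈ R → x = 1 := by
    intro x hx hxR
    have h1 := CfsgLib.AbelianPSL.sq_of_commute_four hD (x := ⟨x, hxR⟩) hv2 hw2 hvw
      (Subtype.ext (hXS x hx _ hc.1)) (Subtype.ext (hXS x hx _ hw.1))
    exact CfsgLib.ZStar.eq_one_of_odd_of_sq (hXodd x hx) (by rw [pow_two]; exact congrArg Subtype.val h1)
  set x := π ⟨o, hoH⟩ with hx
  have hxX : x ∈ X₀ := mem_map_of_mem π (show (⟨o, hoH⟩ : H) ∈ A from ho)
  suffices hx1 : x = 1 from ⟨⟨o, hoH⟩, (QuotientGroup.eq_one_iff _).1 hx1, rfl⟩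
  -- `x` fixes the centralizer of `v'` in `R`
  have hfix : ∀ c ∈ centralizer ({v'} : Set R), MulAut.conjNormal x c = c := by
    intro c hc'
    have hca : (c : ↥H ⧸ Cfsg.oddCore ↥H) ∈ centralizer ({π ja} : Set (↥H ⧸ Cfsg.oddCore ↥H)) := by
      have e1 : (c : ↥H ⧸ Cfsg.oddCore ↥H) * π ⟨a * b, hSH hc.1⟩ = π ⟨a * b, hSH hc.1⟩ * c :=
        congrArg Subtype.val (mem_centralizer_singleton_iff.1 hc')
      rw [mem_centralizer_singleton_iff, show ja = ⟨a * b, hSH hc.1⟩ * jb from Subtype.ext (by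
        show a = a * b * b
        rw [mul_assoc, h.sq b hb, mul_one]), map_mul, ← mul_assoc, e1, mul_assoc,
        mem_center_iff.1 hloc.central, ← mul_assoc]
    rw [← CfsgLib.GW.DGroup.map_centralizer_singleton (by rw [Subgroup.orderOf_mk]; exact h.orderOf_eq ha ha1)]
      at hca
    obtain ⟨c₀, hc₀, hce⟩ := hca
    have hcn : (c₀ : G) ∈ normalizer (coreIn (centralizer ({a} : Set G)) : Set G) :=
      CfsgLib.TwoGroups.Bender.le_normalizer_map_subtype (Cfsg.oddCore _)
        (mem_centralizer_singleton_iff.2 (congrArg Subtype.val (mem_centralizer_singleton_iff.1 hc₀)))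
    have h1 : x * c * x⁻¹ * (c : ↥H ⧸ Cfsg.oddCore ↥H)⁻¹ ∈ X₀ := by
      rw [show x * c * x⁻¹ * (c : ↥H ⧸ Cfsg.oddCore ↥H)⁻¹ = x * (c * x⁻¹ * (c : ↥H ⧸ Cfsg.oddCore ↥H)⁻¹) by group]
      refine mul_mem hxX ⟨c₀ * ⟨o, hoH⟩⁻¹ * c₀⁻¹, ?_, by rw [map_mul, map_mul, map_inv, map_inv, hce]⟩
      exact (mem_normalizer_iff.1 hcn _).1 (inv_mem ho)
    have h2 : x * c * x⁻¹ * (c : ↥H ⧸ Cfsg.oddCore ↥H)⁻¹ ∈ R := mul_mem (res_normal.conj_mem _ c.2 x) (inv_mem c.2)
    have h3 := hXR _ h1 h2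
    rw [mul_inv_eq_one] at h3
    exact Subtype.ext ((MulAut.conjNormal_apply x c).trans h3)
  have hα : MulAut.conjNormal x = (1 : MulAut R) := CfsgLib.Walter.Sections.eq_one_of_fixes hD hv2 _
    ((hXodd x hxX).of_dvd_nat (orderOf_map_dvd MulAut.conjNormal x)) hfix
  have hxb : x ∈ zpowers (π jb) := hloc.structure_res.2.1 x fun y hy => by
    have h1 : ((MulAut.conjNormal x ⟨y, hy⟩ : R) : ↥H ⧸ Cfsg.oddCore ↥H) = y := by rw [hα]; rfl
    rw [MulAut.conjNormal_apply] at h1
    exact mul_inv_eq_iff_eq_mul.1 h1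
  obtain ⟨k, hk⟩ := mem_zpowers_iff.1 hxb
  refine CfsgLib.ZStar.eq_one_of_odd_of_sq (hXodd x hxX) ?_
  rw [pow_two, ← hk, ← (Commute.refl (π jb)).mul_zpow, ← map_mul,
    show jb * jb = 1 from Subtype.ext (h.sq b hb), map_one, one_zpow]

end Setting

namespace Setting

variable (h : Setting S)
include h

/-- `C(n a n⁻¹) = n C(a) n⁻¹` as groups. -/
theorem layer_ne_bot {a b : G} (ha : a ∈ (S : Subgroup G)) (ha1 : a ≠ 1) (hb : b ∈ (S : Subgroup G))
    (hb1 : b ≠ 1) (hE : Cfsg.layer ↥(centralizer ({a} : Set G)) ≠ ⊥) :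
    Cfsg.layer ↥(centralizer ({b} : Set G)) ≠ ⊥ := by
  obtain ⟨n, -, hn⟩ := h.one_class ha ha1 hb hb1
  rw [Ne, CfsgLib.Components.layer_eq_bot_iff] at hE ⊢
  push Not at hE ⊢
  obtain ⟨K, hK⟩ := hE
  have hmap : (centralizer ({a} : Set G)).map (MulAut.conj n).toMonoidHom = centralizer ({b} : Set G) := by
    ext x
    rw [← hn, CfsgLib.Techniques.mem_map_conj_iff, mem_centralizer_singleton_iff, mem_centralizer_singleton_iff]
    refine ⟨fun e => ?_, fun e => ?_⟩
    · calc x * (n * a * n⁻¹) = n * (n⁻¹ * x * n * a) * n⁻¹ := by group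
        _ = n * (a * (n⁻¹ * x * n)) * n⁻¹ := by rw [e]
        _ = _ := by group
    · calc n⁻¹ * x * n * a = n⁻¹ * (x * (n * a * n⁻¹)) * n := by group
        _ = n⁻¹ * (n * a * n⁻¹ * x) * n := by rw [e]
        _ = _ := by group
  exact ⟨_, CfsgLib.Components.isComponent_map_equiv
    (((centralizer ({a} : Set G)).equivMapOfInjective _ (MulAut.conj n).injective).trans
      (MulEquiv.subgroupCongr hmap)) hK⟩

/-- **Case A**: a component in `C(a)` makes every odd core trivial. -/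
theorem core_eq_bot {a : G} (ha : a ∈ (S : Subgroup G)) (ha1 : a ≠ 1)
    (hE : Cfsg.layer ↥(centralizer ({a} : Set G)) ≠ ⊥) {b : G} (hb : b ∈ (S : Subgroup G)) (hb1 : b ≠ 1) :
    Cfsg.oddCore ↥(centralizer ({b} : Set G)) = ⊥ := by
  haveI := h.simple
  have hcomm : ∀ v ∈ (S : Subgroup G), v ≠ 1 → ∀ o ∈ coreIn (centralizer ({v} : Set G)),
      ∀ s ∈ (S : Subgroup G), o * s = s * o := fun v hv hv1 =>
    h.core_comm hv hv1 (h.layer_ne_bot ha ha1 hv hv1 hE)
  have heq : ∀ v ∈ (S : Subgroup G), v ≠ 1 → ∀ w ∈ V S v, w ≠ 1 →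
      coreIn (centralizer ({v} : Set G)) = coreIn (centralizer ({w} : Set G)) := by
    intro v hv hv1 w hw hw1
    have hl := h.line hv hv1 hw.1 hw1 hw
    have hc1 : v * w ≠ 1 := fun e => h.not_mem_V hv hv1 (by
      have : v = w := by
        rw [← inv_eq_of_mul_eq_one_right e]
        exact (inv_eq_of_mul_eq_one_right (h.sq v hv)).symm
      rw [← this] at hw
      exact hw)
    refine le_antisymm (h.core_le hv hv1 hw.1 hw1 hw (hcomm v hv hv1)) ?_
    exact (h.core_le hw.1 hw1 hl.1.1 hc1 hl.1 (hcomm w hw.1 hw1)).trans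
      (h.core_le hl.1.1 hc1 hv hv1 hl.2 (hcomm _ hl.1.1 hc1))
  set W := coreIn (centralizer ({b} : Set G)) with hW
  have hall : ∀ v ∈ (S : Subgroup G), v ≠ 1 → coreIn (centralizer ({v} : Set G)) = W := by
    intro v hv hv1
    rcases eq_or_ne v b with rfl | hvb
    · rfl
    rcases h.total hv hv1 hb hb1 hvb with hm | hm
    · exact heq v hv hv1 b hm hb1
    · exact (heq b hb hb1 v hm hv1).symm
  by_contra hne
  have hWne : W ≠ ⊥ := fun e => hne ((map_eq_bot_iff_of_injective _ (Subgroup.subtype_injective _)).1 e)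
  haveI hWs : Group.IsSolvable W :=
    Cfsg.Agent.S0205.result ((CfsgLib.GW.DGroup.odd_oddCore _).of_dvd_nat (card_map_dvd _ _))
  have hC : ∀ v ∈ (S : Subgroup G), v ≠ 1 → centralizer ({v} : Set G) ≤ normalizer (W : Set G) :=
    fun v hv hv1 => hall v hv hv1 ▸ CfsgLib.TwoGroups.Bender.le_normalizer_map_subtype (Cfsg.oddCore _)
  refine h.maximal_false (M := normalizer (W : Set G)) (fun htop => ?_) ?_ hC
  · rcases (normalizer_eq_top_iff.1 htop).eq_bot_or_eq_top with e | e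
    · exact hWne e
    · exact h.not_isSolvable (Group.isSolvable_of_surjective
        (f := ((MulEquiv.subgroupCongr e).trans Subgroup.topEquiv).toMonoidHom) (MulEquiv.surjective _))
  · intro n hn
    have hconj : ∀ k ∈ normalizer ((S : Subgroup G) : Set G), ∀ x ∈ W, k * x * k⁻¹ ∈ W := by
      intro k hk x hx
      have hbk : k * b * k⁻¹ ∈ (S : Subgroup G) := (mem_normalizer_iff.1 hk b).1 hb
      rw [← hall _ hbk (fun e => hb1 (conj_eq_one_iff.1 e))]
      set C := centralizer ({b} : Set G)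
      set C' := centralizer ({k * b * k⁻¹} : Set G)
      have hmap : C.map (MulAut.conj k).toMonoidHom = C' := by
        ext y
        rw [CfsgLib.Techniques.mem_map_conj_iff, mem_centralizer_singleton_iff, mem_centralizer_singleton_iff]
        refine ⟨fun e => ?_, fun e => ?_⟩
        · calc y * (k * b * k⁻¹) = k * (k⁻¹ * y * k * b) * k⁻¹ := by group
            _ = k * (b * (k⁻¹ * y * k)) * k⁻¹ := by rw [e]
            _ = _ := by group
        · calc k⁻¹ * y * k * b = k⁻¹ * (y * (k * b * k⁻¹)) * k := by group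
            _ = k⁻¹ * (k * b * k⁻¹ * y) * k := by rw [e]
            _ = _ := by group
      set e := (C.equivMapOfInjective _ (MulAut.conj k).injective).trans (MulEquiv.subgroupCongr hmap)
      obtain ⟨z, hz, rfl⟩ := hx
      refine ⟨e z, ?_, rfl⟩
      have : (Cfsg.oddCore ↥C).map e.toMonoidHom = Cfsg.oddCore ↥C' := CfsgLib.Core.map_equiv_pPrimeCore e
      exact this ▸ mem_map_of_mem e.toMonoidHom hz
    refine mem_normalizer_iff.2 fun x => ⟨hconj n hn x, fun hx => ?_⟩
    have := hconj n⁻¹ (inv_mem hn) _ hx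
    simpa [mul_assoc] using this

end Setting

end CfsgLib.Walter.Three
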