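import Cfsg.Agent.Lib.Recog.Walter.Three.BenderOne
import Cfsg.Agent.Lib.Recog.Walter.Three.Centralizer
import Cfsg.Agent.Lib.Recog.Walter.Three.CentralMaxCore

/-!
Owner: helper29. Walter, rank three: the assembly of cases A, B1, B2, B3.

* `CaseBTwo`: what case B2 delivers;
* `Setting.layer_ne_bot_of_caseBTwo`: then every `C(a)` has a component;
* `Setting.isJRType_of_caseBTwo`: so the group is of Janko–Ree type.
-/

set_option autoImplicit false
set_option linter.style.haveILetI false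
set_option linter.unusedSectionVars false

namespace CfsgLib.Walter.Three

open Subgroup

universe u

variable {G : Type u} [Group G] [Finite G] {S : Sylow 2 G}

/-- Case B2: no maximal `M ≥ C(a)` other than `C(a)` has two odd primes in `F(M)` if `E(C(a)) = 1`. -/
def CaseBTwo (S : Sylow 2 G) : Prop :=
  ∀ a ∈ (S : Subgroup G), a ≠ 1 → ∀ M : Subgroup G, IsCoatom M → centralizer ({a} : Set G) ≤ M →
    M ≠ centralizer ({a} : Set G) → Cfsg.layer ↥(centralizer ({a} : Set G)) = ⊥ →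
    (∃ q r : ℕ, q.Prime ∧ r.Prime ∧ q ≠ 2 ∧ r ≠ 2 ∧ q ≠ r ∧ q ∣ Nat.card (Cfsg.fittingOf M) ∧
      r ∣ Nat.card (Cfsg.fittingOf M)) → False

namespace Setting

variable (h : Setting S)
include h

theorem exists_coatom {a : G} (ha1 : a ≠ 1) :
    ∃ M : Subgroup G, IsCoatom M ∧ centralizer ({a} : Set G) ≤ M := by
  rcases eq_top_or_exists_le_coatom (centralizer ({a} : Set G)) with e | e
  · exfalso
    haveI := h.simple
    rcases (inferInstance : (center G).Normal).eq_bot_or_eq_top with e' | e'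
    · exact ha1 (mem_bot.1 (e' ▸ (mem_center_iff.2 fun g =>
        mem_centralizer_singleton_iff.1 (e ▸ mem_top g : g ∈ centralizer ({a} : Set G)) : a ∈ center G)))
    · exact h.nonab ⟨⟨fun x y => (mem_center_iff.1 (e' ▸ mem_top y) x)⟩⟩
  · exact e

/-- Every centralizer of an involution of `S` has a component. -/
theorem layer_ne_bot_of_caseBTwo (h2 : CaseBTwo S) {a : G} (ha : a ∈ (S : Subgroup G)) (ha1 : a ≠ 1) :
    Cfsg.layer ↥(centralizer ({a} : Set G)) ≠ ⊥ := by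
  classical
  intro hE
  obtain ⟨M, hmax, hM⟩ := h.exists_coatom ha1
  by_cases hMC : M = centralizer ({a} : Set G)
  · exact h.centralizer_not_isCoatom ha ha1 hE (hMC ▸ hmax)
  by_cases htwo : ∃ q r : ℕ, q.Prime ∧ r.Prime ∧ q ≠ 2 ∧ r ≠ 2 ∧ q ≠ r ∧ q ∣ Nat.card (Cfsg.fittingOf M) ∧
      r ∣ Nat.card (Cfsg.fittingOf M)
  · exact h2 a ha ha1 M hmax hM hMC hE htwo
  obtain ⟨p, hp, hp2, hone⟩ : ∃ p : ℕ, p.Prime ∧ p ≠ 2 ∧
      ∀ q : ℕ, q.Prime → q ≠ 2 → q ∣ Nat.card (Cfsg.fittingOf M) → q = p := by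
    by_cases hex : ∃ q : ℕ, q.Prime ∧ q ≠ 2 ∧ q ∣ Nat.card (Cfsg.fittingOf M)
    · obtain ⟨q, hq, hq2, hqd⟩ := hex
      exact ⟨q, hq, hq2, fun r hr hr2 hrd =>
        by_contra fun hne => htwo ⟨r, q, hr, hq, hr2, hq2, hne, hrd, hqd⟩⟩
    · exact ⟨3, Nat.prime_three, by norm_num, fun q hq hq2 hqd => absurd ⟨q, hq, hq2, hqd⟩ hex⟩
  haveI := Fact.mk hp
  exact h.benderOne ha ha1 hmax hM hMC hE hp2 hone

/-- All odd cores are trivial. -/
theorem oddCore_eq_bot_of_caseBTwo (h2 : CaseBTwo S) {a : G} (ha : a ∈ (S : Subgroup G)) (ha1 : a ≠ 1) :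
    Cfsg.oddCore ↥(centralizer ({a} : Set G)) = ⊥ :=
  h.core_eq_bot ha ha1 (h.layer_ne_bot_of_caseBTwo h2 ha ha1) ha ha1

/-- The group is of Janko–Ree type. -/
theorem isJRType_of_caseBTwo (h2 : CaseBTwo S) : IsJRType G := by
  refine ⟨h.simple, h.abSylow, fun hrk => ?_, fun t ht =>
    h.jrCentralizer_all (fun a ha ha1 => h.oddCore_eq_bot_of_caseBTwo h2 ha ha1) ht⟩
  have h8 := hrk (S : Subgroup G) h.isComm fun x hx => by rw [pow_two]; exact h.sq x hx
  rw [h.card] at h8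
  norm_num at h8

end Setting

end CfsgLib.Walter.Three
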