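import Cfsg.Agent.Lib.Recog.Walter.Three.Setting

/-!
Owner: helper29. Walter, rank three: a proper subgroup `M` containing `C(a)`.

* `maximal_false`: no proper subgroup contains `N(S)` and the centralizers of all involutions of `S`.
* `mem_oddCore_of_mem`, `exists_mul`: `[a, M] ≤ O(M)` and `M = O(M) C(a)`.
* `layer_eq_bot`: `E(C(a)) = 1` gives `E(M) = 1`.
-/

set_option autoImplicit false
set_option linter.style.haveILetI false
set_option linter.unusedSectionVars false

namespace CfsgLib.Walter.Three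

open Subgroup

universe u

variable {G : Type u} [Group G] [Finite G] {S : Sylow 2 G}

/-- `O(M)` inside `G`. -/
abbrev coreIn (M : Subgroup G) : Subgroup G := (Cfsg.oddCore ↥M).map M.subtype

namespace Setting

variable (h : Setting S)
include h

/-- No proper subgroup contains `N(S)` and all centralizers of involutions of `S`. -/
theorem maximal_false {M : Subgroup G} (hne : M ≠ ⊤)
    (hN : normalizer ((S : Subgroup G) : Set G) ≤ M)
    (hC : ∀ v ∈ (S : Subgroup G), v ≠ 1 → centralizer ({v} : Set G) ≤ M) : False := by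
  haveI : Fact (Nat.Prime 2) := ⟨Nat.prime_two⟩
  have hSM : (S : Subgroup G) ≤ M := le_normalizer.trans hN
  obtain ⟨v, hv, hv1⟩ := (S : Subgroup G).bot_or_exists_ne_one.resolve_left fun e => by
    have := h.card
    rw [e, Subgroup.card_bot] at this
    omega
  have hv2 := h.orderOf_eq hv hv1
  have hSE : Cfsg.IsStronglyEmbedded M := by
    rw [CfsgLib.Signalizer.stronglyEmbedded_iff_conj]
    refine ⟨hne, even_iff_two_dvd.2 (hv2 ▸ Subgroup.orderOf_dvd_natCard _ (hSM hv)), fun t htM ht g hg => ?_⟩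
    obtain ⟨m, hm, hmS⟩ := h.exists_conj_mem hSM htM (CfsgLib.Signalizer.involution_sq ht)
    obtain ⟨m', hm', hm'S⟩ := h.exists_conj_mem hSM hg
      (CfsgLib.Signalizer.involution_sq ((CfsgLib.Signalizer.orderOf_conj g t).trans ht))
    have he : m' * g * m⁻¹ * (m * t * m⁻¹) * (m' * g * m⁻¹)⁻¹ = m' * (g * t * g⁻¹) * m'⁻¹ := by group
    obtain ⟨n, -, hn, hne'⟩ := h.exists_normalizer (le_top : (S : Subgroup G) ≤ ⊤) hmS
      (mem_top (m' * g * m⁻¹)) (he ▸ hm'S)
    have hc : n⁻¹ * (m' * g * m⁻¹) ∈ centralizer ({m * t * m⁻¹} : Set G) := by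
      rw [mem_centralizer_singleton_iff]
      calc n⁻¹ * (m' * g * m⁻¹) * (m * t * m⁻¹)
          = n⁻¹ * (m' * g * m⁻¹ * (m * t * m⁻¹) * (m' * g * m⁻¹)⁻¹) * (m' * g * m⁻¹) := by group
        _ = n⁻¹ * (n * (m * t * m⁻¹) * n⁻¹) * (m' * g * m⁻¹) := by rw [hne']
        _ = m * t * m⁻¹ * (n⁻¹ * (m' * g * m⁻¹)) := by group
    have h1 := mul_mem (hN hn) (hC _ hmS (fun e => CfsgLib.Signalizer.involution_ne_one ht (conj_eq_one_iff.1 e)) hc)
    rw [mul_inv_cancel_left] at h1
    have h2 := mul_mem (mul_mem (inv_mem hm') h1) hm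
    simpa [mul_assoc] using h2
  have hrank : Cfsg.PRankAtLeast 2 2 G := ⟨(S : Subgroup G), h.isComm,
    fun x hx => by rw [pow_two]; exact h.sq x hx, by rw [h.card]; norm_num⟩
  haveI := CfsgLib.Bender.solvable_of_benderGen CfsgLib.Bender.benderGen hrank (CfsgLib.Bender.spe_of_se hSE)
  exact h.centralizer_nonsolvable hv hv1 (Group.isSolvable_of_isSolvable_injective
    (f := inclusion (hC v hv hv1)) (inclusion_injective _))

variable {a : G} (ha : a ∈ (S : Subgroup G)) (ha1 : a ≠ 1) {M : Subgroup G}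
  (hM : centralizer ({a} : Set G) ≤ M) (hne : M ≠ ⊤)
include ha ha1 hM hne

theorem sylow_le : (S : Subgroup G) ≤ M := (h.le_centralizer ha).trans hM

/-- `a` is alone in its `N_M(S)`-orbit. -/
theorem normalizer_fixes {d : G} (hd : d ∈ M) (hdN : d ∈ normalizer ((S : Subgroup G) : Set G)) :
    d * a * d⁻¹ = a := by
  classical
  set D := M ⊓ normalizer ((S : Subgroup G) : Set G) with hD
  set O : Set G := {s | ∃ d ∈ D, d * a * d⁻¹ = s} with hO
  have hSD : (S : Subgroup G) ≤ D := le_inf (h.sylow_le ha ha1 hM hne) le_normalizer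
  have hsub : ∀ x ∈ O, x ∈ (S : Subgroup G) ∧ x ≠ 1 := by
    rintro _ ⟨e, he, rfl⟩
    exact ⟨(mem_normalizer_iff.1 he.2 a).1 ha, fun e' => ha1 (conj_eq_one_iff.1 e')⟩
  have haO : a ∈ O := ⟨1, one_mem _, by simp⟩
  have hk : ∀ k ∈ normalizer ((S : Subgroup G) : Set G), k * a * k⁻¹ = a → ∀ x ∈ O, k * x * k⁻¹ ∈ O := by
    rintro k hkN hka _ ⟨e, he, rfl⟩
    exact ⟨k * e, mul_mem ⟨hM (mem_centralizer_singleton_iff.2 (mul_inv_eq_iff_eq_mul.1 hka)), hkN⟩ he,
      by group⟩
  have hV : ∀ v ∈ V S a, v ≠ 1 → v ∈ O → ∀ w ∈ V S a, w ≠ 1 → w ∈ O := by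
    intro v hv hv1 hvO w hw hw1
    obtain ⟨k, hkN, hka, rfl⟩ := h.conj_V ha ha1 hv hv1 hw hw1
    exact hk k hkN hka v hvO
  have haV : ∀ v ∈ V S a, v ≠ 1 → a * v ∈ O → ∀ w ∈ V S a, w ≠ 1 → a * w ∈ O := by
    intro v hv hv1 hvO w hw hw1
    obtain ⟨k, hkN, hka, rfl⟩ := h.conj_V ha ha1 hv hv1 hw hw1
    have := hk k hkN hka _ hvO
    rwa [← conj_mul, hka] at this
  set V' : Set G := (V S a : Set G) \ {1} with hV'
  have h3 : V'.ncard = 3 := by
    rw [hV', Set.ncard_sdiff_singleton_of_mem (one_mem (V S a)), ← Nat.card_coe_set_eq]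
    exact Nat.sub_eq_of_eq_add (h.card_V ha ha1)
  have hform : ∀ x ∈ (S : Subgroup G), x ≠ 1 → x = a ∨ (x ∈ V') ∨ ∃ v ∈ V', x = a * v := by
    intro x hx hx1
    by_cases hxV : x ∈ V S a
    · exact Or.inr (Or.inl ⟨hxV, hx1⟩)
    · rcases eq_or_ne x a with rfl | hxa
      · exact Or.inl rfl
      · refine Or.inr (Or.inr ⟨a * x, ⟨h.mul_mem_V ha ha1 ha hx (h.not_mem_V ha ha1) hxV, fun e => hxa ?_⟩, ?_⟩)
        · rw [Set.mem_singleton_iff] at e
          rw [← inv_eq_of_mul_eq_one_right e, inv_eq_of_mul_eq_one_right (h.sq a ha)]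
        · rw [← mul_assoc, h.sq a ha, one_mul]
  obtain ⟨k, hodd⟩ := h.odd_orbit hSD ha
  change O.ncard = _ at hodd
  have haV' : a ∉ V' := fun e => h.not_mem_V ha ha1 e.1
  by_cases hA : ∀ v ∈ V', v ∈ O
  · by_cases hB : ∀ v ∈ V', a * v ∈ O
    · -- the orbit is everything
      exfalso
      have hall : ∀ x ∈ (S : Subgroup G), x ≠ 1 → ∃ e ∈ D, e * a * e⁻¹ = x := by
        intro x hx hx1
        rcases hform x hx hx1 with rfl | hv | ⟨v, hv, rfl⟩
        · exact haO
        · exact hA x hv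
        · exact hB v hv
      refine h.maximal_false hne (fun n hn => ?_) fun v hv hv1 g hg => ?_
      · obtain ⟨e, he, hee⟩ := hall _ ((mem_normalizer_iff.1 hn a).1 ha) fun e' => ha1 (conj_eq_one_iff.1 e')
        have h1 : e⁻¹ * n ∈ centralizer ({a} : Set G) := by
          rw [mem_centralizer_singleton_iff]
          calc e⁻¹ * n * a = e⁻¹ * (n * a * n⁻¹) * n := by group
            _ = e⁻¹ * (e * a * e⁻¹) * n := by rw [hee]
            _ = a * (e⁻¹ * n) := by group
        have h2 := mul_mem he.1 (hM h1)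
        rwa [mul_inv_cancel_left] at h2
      · obtain ⟨e, he, rfl⟩ := hall v hv hv1
        have h1 : e⁻¹ * g * e ∈ centralizer ({a} : Set G) := by
          rw [mem_centralizer_singleton_iff]
          calc e⁻¹ * g * e * a = e⁻¹ * (g * (e * a * e⁻¹)) * e := by group
            _ = e⁻¹ * (e * a * e⁻¹ * g) * e := by rw [mem_centralizer_singleton_iff.1 hg]
            _ = a * (e⁻¹ * g * e) := by group
        have heM : e ∈ M := he.1
        have h2 := mul_mem (mul_mem heM (hM h1)) (inv_mem heM)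
        simpa [mul_assoc] using h2
    · exfalso
      have heq : O = insert a V' := by
        refine Set.Subset.antisymm (fun x hx => ?_) (Set.insert_subset haO hA)
        rcases hform x (hsub x hx).1 (hsub x hx).2 with rfl | hv | ⟨v, hv, rfl⟩
        · exact Set.mem_insert _ _
        · exact Or.inr hv
        · exact absurd (fun w hw => haV v hv.1 hv.2 hx w hw.1 hw.2) hB
      rw [heq, Set.ncard_insert_of_notMem haV', h3] at hodd
      omega
  · by_cases hB : ∀ v ∈ V', a * v ∈ O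
    · exfalso
      have heq : O = insert a ((a * ·) '' V') := by
        refine Set.Subset.antisymm (fun x hx => ?_) (Set.insert_subset haO ?_)
        · rcases hform x (hsub x hx).1 (hsub x hx).2 with rfl | hv | ⟨v, hv, rfl⟩
          · exact Set.mem_insert _ _
          · exact absurd (fun w hw => hV x hv.1 hv.2 hx w hw.1 hw.2) hA
          · exact Or.inr ⟨v, hv, rfl⟩
        · rintro _ ⟨v, hv, rfl⟩
          exact hB v hv
      have hn : a ∉ (a * ·) '' V' := by
        rintro ⟨v, hv, e⟩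
        exact hv.2 (mul_left_cancel (e.trans (mul_one a).symm))
      rw [heq, Set.ncard_insert_of_notMem hn, Set.ncard_image_of_injective _ (mul_right_injective a), h3] at hodd
      omega
    · rcases hform _ ((mem_normalizer_iff.1 hdN a).1 ha) (fun e => ha1 (conj_eq_one_iff.1 e)) with e | hv | ⟨v, hv, e⟩
      · exact e
      · exact absurd (fun w hw => hV _ hv.1 hv.2 ⟨d, ⟨hd, hdN⟩, rfl⟩ w hw.1 hw.2) hA
      · exact absurd (fun w hw => haV v hv.1 hv.2 ⟨d, ⟨hd, hdN⟩, e⟩ w hw.1 hw.2) hB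

/-- `[a, M] ≤ O(M)`. -/
theorem mem_oddCore_of_mem {m : G} (hm : m ∈ M) : a * m * a⁻¹ * m⁻¹ ∈ coreIn M := by
  have hSM := h.sylow_le ha ha1 hM hne
  have hiso : Cfsg.IsIsolatedInvolution (⟨a, hSM ha⟩ : M) := by
    refine ⟨by rw [Subgroup.orderOf_mk]; exact h.orderOf_eq ha ha1, fun g hc => Subtype.ext ?_⟩
    have hc' : a * ((g : G) * a * (g : G)⁻¹) = (g : G) * a * (g : G)⁻¹ * a := congrArg Subtype.val hc.eq
    have hsq : (g : G) * a * (g : G)⁻¹ * ((g : G) * a * (g : G)⁻¹) = 1 := by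
      rw [show (g : G) * a * (g : G)⁻¹ * ((g : G) * a * (g : G)⁻¹) = (g : G) * (a * a) * (g : G)⁻¹ by group,
        h.sq a ha]; group
    obtain ⟨c, hc1, hcS⟩ := h.exists_conj_mem (h.le_centralizer ha) (mem_centralizer_singleton_iff.2 hc'.symm) hsq
    have he : c * g * a * (c * g)⁻¹ = c * ((g : G) * a * (g : G)⁻¹) * c⁻¹ := by group
    obtain ⟨n, hn, hnN, hne'⟩ := h.exists_normalizer hSM ha (mul_mem (hM hc1) g.2) (he ▸ hcS)
    rw [h.normalizer_fixes ha ha1 hM hne hn hnN, he] at hne'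
    show (g : G) * a * (g : G)⁻¹ = a
    calc (g : G) * a * (g : G)⁻¹ = c⁻¹ * (c * ((g : G) * a * (g : G)⁻¹) * c⁻¹) * c := by group
      _ = c⁻¹ * (a * c) := by rw [← hne', mul_assoc]
      _ = a := by rw [← mem_centralizer_singleton_iff.1 hc1, inv_mul_cancel_left]
  exact ⟨_, CfsgLib.ZStar.mem_oddCore_of_isolated hiso ⟨m, hm⟩, rfl⟩

/-- `M = O(M) C(a)`. -/
theorem exists_mul {m : G} (hm : m ∈ M) :
    ∃ o ∈ coreIn M, ∃ c ∈ centralizer ({a} : Set G), m = o * c := by
  have hSM := h.sylow_le ha ha1 hM hne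
  set j : M := ⟨a, hSM ha⟩ with hj
  have hj2 : orderOf j = 2 := by rw [hj, Subgroup.orderOf_mk]; exact h.orderOf_eq ha ha1
  set π := QuotientGroup.mk' (Cfsg.oddCore ↥M)
  have hcen : π ⟨m, hm⟩ ∈ centralizer ({π j} : Set (↥M ⧸ Cfsg.oddCore ↥M)) := by
    rw [mem_centralizer_singleton_iff, ← map_mul, ← map_mul]
    refine ((QuotientGroup.mk'_eq_mk' _).2 ⟨(⟨m, hm⟩ : M)⁻¹ * j⁻¹ * ⟨m, hm⟩ * j, ?_, by group⟩).symm
    obtain ⟨o, ho, hoe⟩ := h.mem_oddCore_of_mem ha ha1 hM hne hm
    have h1 : o = j * ⟨m, hm⟩ * j⁻¹ * (⟨m, hm⟩ : M)⁻¹ := Subtype.ext hoe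
    have h2 := (inferInstance : (Cfsg.oddCore ↥M).Normal).conj_mem _ (inv_mem ho) ((⟨m, hm⟩ : M)⁻¹ * j⁻¹)
    rw [h1] at h2
    simpa [mul_assoc] using h2
  rw [← CfsgLib.GW.DGroup.map_centralizer_singleton hj2] at hcen
  obtain ⟨c, hc, hce⟩ := hcen
  obtain ⟨o, ho, hoe⟩ := (QuotientGroup.mk'_eq_mk' _).1 hce
  refine ⟨(c : G) * o * (c : G)⁻¹,
    ⟨c * o * c⁻¹, (inferInstance : (Cfsg.oddCore ↥M).Normal).conj_mem o ho c, rfl⟩, c,
    mem_centralizer_singleton_iff.2 (congrArg Subtype.val (mem_centralizer_singleton_iff.1 hc)), ?_⟩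
  rw [inv_mul_cancel_right]
  exact (congrArg Subtype.val hoe).symm

/-- `E(C(a)) = 1` gives `E(M) = 1`. -/
theorem layer_eq_bot (hE : Cfsg.layer ↥(centralizer ({a} : Set G)) = ⊥) : Cfsg.layer ↥M = ⊥ := by
  rw [CfsgLib.Components.layer_eq_bot_iff] at hE ⊢
  intro K hK
  set C := centralizer ({a} : Set G) with hC
  have hSM := h.sylow_le ha ha1 hM hne
  haveI hOs : Group.IsSolvable (Cfsg.oddCore ↥M) :=
    Cfsg.Agent.S0205.result (CfsgLib.GW.DGroup.odd_oddCore ↥M)
  have hOK := CfsgLib.Components.component_commutes_of_solvable_subnormal hK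
    (inferInstance : (Cfsg.oddCore ↥M).Normal).isSubnormal hOs
  set j : M := ⟨a, hSM ha⟩
  have hmem : ∀ k : K, j * (k : M) * j⁻¹ * (k : M)⁻¹ ∈ Cfsg.oddCore ↥M := fun k => by
    obtain ⟨o, ho, hoe⟩ := h.mem_oddCore_of_mem ha ha1 hM hne (k : M).2
    rwa [show j * (k : M) * j⁻¹ * (k : M)⁻¹ = o from Subtype.ext hoe.symm]
  let φ : K →* Cfsg.oddCore ↥M :=
    { toFun := fun k => ⟨_, hmem k⟩
      map_one' := Subtype.ext (by simp)
      map_mul' := fun k l => Subtype.ext (by
        set o := j * (l : M) * j⁻¹ * (l : M)⁻¹ with ho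
        have hc : (k : M) * o = o * k :=
          mem_centralizer_iff.1 (commutator_eq_bot_iff_le_centralizer.1 hOK k.2) o (hmem l) |>.symm
        show j * ((k : M) * (l : M)) * j⁻¹ * ((k : M) * (l : M))⁻¹ =
          (j * (k : M) * j⁻¹ * (k : M)⁻¹) * o
        calc j * ((k : M) * (l : M)) * j⁻¹ * ((k : M) * (l : M))⁻¹
            = (j * (k : M) * j⁻¹) * o * (k : M)⁻¹ := by rw [ho]; group
          _ = (j * (k : M) * j⁻¹ * (k : M)⁻¹) * ((k : M) * o) * (k : M)⁻¹ := by group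
          _ = (j * (k : M) * j⁻¹ * (k : M)⁻¹) * (o * k) * (k : M)⁻¹ := by rw [hc]
          _ = _ := by group) }
  have htriv : φ.range = ⊥ := by
    haveI : Group.IsSolvable φ.range :=
      Group.isSolvable_of_isSolvable_injective (f := φ.range.subtype) (Subgroup.subtype_injective _)
    have hperf : commutator K = ⊤ := map_injective K.subtype_injective (by
      rw [map_subtype_commutator, CfsgLib.Components.IsComponent.commutator_eq_self hK,
        ← MonoidHom.range_eq_map, range_subtype])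
    have h1 : ⁅φ.range, φ.range⁆ = φ.range := by
      rw [MonoidHom.range_eq_map, ← map_commutator, ← _root_.commutator_def, hperf]
    by_contra hne'
    haveI : Nontrivial φ.range := (nontrivial_iff_ne_bot _).2 hne'
    refine (Group.IsSolvable.commutator_lt_top_of_nontrivial (G := φ.range)).ne ?_
    apply map_injective φ.range.subtype_injective
    rw [map_subtype_commutator, ← MonoidHom.range_eq_map, range_subtype]
    exact h1
  have hle : K ≤ C.subgroupOf M := fun k hk => by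
    have h1 : φ ⟨k, hk⟩ ∈ φ.range := ⟨_, rfl⟩
    rw [htriv, mem_bot] at h1
    have h2 : j * k * j⁻¹ * k⁻¹ = 1 := congrArg Subtype.val h1
    rw [mul_inv_eq_one, mul_inv_eq_iff_eq_mul] at h2
    exact mem_centralizer_singleton_iff.2 (congrArg Subtype.val h2).symm
  exact hE _ (CfsgLib.Components.isComponent_map_equiv (subgroupOfEquivOfLe hM)
    (CfsgLib.Components.isComponent_subgroupOf hK hle))

end Setting

end CfsgLib.Walter.Three
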